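import Cfsg.Agent.Lib.TensorSympWreath.Split

/-!
A pair splitting off a hyperbolic plane: the second root element is the root element of a vector.
-/

set_option autoImplicit false
set_option linter.unusedSectionVars false
set_option linter.unusedSimpArgs false

namespace CfsgLib.TensorSympWreath

open Matrix
open scoped Kronecker
open CfsgLib.TensorWreathMax (In pl ct ct_pl ext_pl kronecker_mulVec_pl pl_smul_left pl_add_left pl_sub_left)

attribute [-simp] Matrix.coe_units_inv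

variable {F : Type*} [Field F] {m : ℕ} {μ : Type} [Fintype μ] [DecidableEq μ]

/-- Conjugates of all isometries by a unipotent of the radical are in the group as soon as one opposite root group is. -/
theorem conj_all {J : Matrix (Fin m) (Fin m) F} [Finite F] (hJ : Alt J) {K : Matrix μ μ F}
    {M : Subgroup (GL (Fin m × μ) F)} (hS : SSet J K M) {v f : Fin m → F} (hvf : fm J v f = 1) (Y : Matrix μ μ F)
    (h : ∀ r : F, In M ((1 + Xm J v ⊗ₖ Y) * ((1 + r • Xm J f) ⊗ₖ (1 : Matrix μ μ F)) * (1 - Xm J v ⊗ₖ Y)))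
    {A : Matrix (Fin m) (Fin m) F} (hA : Iso J A) :
    In M ((1 + Xm J v ⊗ₖ Y) * (A ⊗ₖ (1 : Matrix μ μ F)) * (1 - Xm J v ⊗ₖ Y)) := by
  set U := 1 + Xm J v ⊗ₖ Y
  set U' := 1 - Xm J v ⊗ₖ Y
  have hXX : (Xm J v ⊗ₖ Y) * (Xm J v ⊗ₖ Y) = 0 := by rw [← mul_kronecker_mul, hJ.Xm_mul_self, zero_kronecker]
  have hUU : U * U' = 1 := by
    simp only [U, U', mul_sub, mul_one, add_mul, one_mul, hXX, add_zero, add_sub_cancel_right]
  have hU'U : U' * U = 1 := by
    simp only [U, U', mul_add, mul_one, sub_mul, one_mul, hXX, sub_zero, sub_add_cancel]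
  -- transvections
  have htv : ∀ a (r : F), In M (U * ((1 + r • Xm J a) ⊗ₖ (1 : Matrix μ μ F)) * U') := by
    intro a r
    rcases eq_or_ne (fm J v a) 0 with hva | hva
    · have hav : fm J a v = 0 := by rw [hJ.flip v a, hva, neg_zero]
      have e : Commute U ((1 + r • Xm J a) ⊗ₖ (1 : Matrix μ μ F)) := by
        refine (Commute.one_left _).add_left ?_
        show _ * _ = _ * _
        rw [← mul_kronecker_mul, ← mul_kronecker_mul, mul_one, one_mul, mul_add, add_mul, mul_one, one_mul,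
          mul_smul_comm, smul_mul_assoc, Xm, Xm, vecMulVec_mul_vecMulVec, vecMulVec_mul_vecMulVec, ← fm_apply, ← fm_apply,
          hva, hav]
        simp
      rw [e.eq, mul_assoc, hUU, mul_one]
      refine hS.isom _ (iso_of_fm fun x y => ?_)
      simp only [add_mulVec, one_mulVec, smul_mulVec, Xm_mulVec, map_add, map_smul, LinearMap.add_apply,
        LinearMap.smul_apply, smul_eq_mul, hJ.self, hJ.flip a x]
      ring
    set a' := (fm J v a)⁻¹ • a
    have hva' : fm J v a' = 1 := by simp [a', hva]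
    set d := a' - f
    have hvd : fm J v d = 0 := by simp [d, map_sub, hva', hvf]
    set R := (1 + (-fm J d f) • Xm J v) * (1 + Srt J v d)
    have hR : Iso J R := by
      refine Iso.mul (iso_of_fm fun x y => ?_) (hJ.iso_srt hvd)
      simp only [add_mulVec, one_mulVec, smul_mulVec, Xm_mulVec, map_add, map_smul, LinearMap.add_apply,
        LinearMap.smul_apply, smul_eq_mul, hJ.self, hJ.flip v x]
      ring
    have hRdet : R.det ≠ 0 := fun h0 => by
      have h1 := congrArg Matrix.det hR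
      rw [det_mul, h0, mul_zero] at h1
      exact hJ.det h1.symm
    let Ru := GeneralLinearGroup.mkOfDetNeZero R hRdet
    have hRv : R *ᵥ v = v := by
      simp [R, ← mulVec_mulVec, add_mulVec, one_mulVec, neg_mulVec, neg_smul, Srt_mulVec, smul_mulVec, Xm_mulVec, hJ.self, hvd,
        show fm J d v = 0 by rw [hJ.flip v d, hvd, neg_zero]]
    have hRf : R *ᵥ f = a' := by
      simp only [R, ← mulVec_mulVec, add_mulVec, one_mulVec, Srt_mulVec, smul_mulVec, Xm_mulVec, hvf, map_add,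
        map_smul, hJ.self, hvd, smul_eq_mul, mul_zero, add_zero, mul_one, one_smul, mulVec_add]
      simp only [d, smul_smul]
      module
    have hRi : Iso J ((Ru⁻¹ : GL (Fin m) F) : Matrix (Fin m) (Fin m) F) := by
      rw [Iso]
      conv_lhs => rw [← show _ * J * _ = J from hR]
      rw [show R = (Ru : Matrix (Fin m) (Fin m) F) from rfl]
      simp only [mul_assoc, Units.mul_inv, mul_one]
      rw [← mul_assoc, ← transpose_mul, Units.mul_inv, transpose_one, one_mul]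
    have hc : Commute (R ⊗ₖ (1 : Matrix μ μ F)) (Xm J v ⊗ₖ Y) := by
      show _ * _ = _ * _
      rw [← mul_kronecker_mul, ← mul_kronecker_mul, mul_one, one_mul]
      congr 1
      have h1 := hJ.conj_Xm (c := (1 : F)) (hR.trans (one_smul F J).symm) v
      rwa [one_smul, hRv] at h1
    have hXa : r • Xm J a = (r * (fm J v a * fm J v a)) • (R * Xm J f * ((Ru⁻¹ : GL (Fin m) F) : Matrix (Fin m) (Fin m) F)) := by
      have h1 := hJ.conj_Xm' (A := Ru) one_ne_zero (show _ = (1 : F) • J from hR.trans (one_smul F J).symm) f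
      rw [show (Ru : Matrix (Fin m) (Fin m) F) = R from rfl, inv_one, one_smul, hRf] at h1
      rw [h1, Xm_smul, smul_smul]
      congr 1
      field_simp
    have e : U * ((1 + r • Xm J a) ⊗ₖ (1 : Matrix μ μ F)) * U' = (R ⊗ₖ (1 : Matrix μ μ F)) *
        (U * ((1 + (r * (fm J v a * fm J v a)) • Xm J f) ⊗ₖ (1 : Matrix μ μ F)) * U') *
          (((Ru⁻¹ : GL (Fin m) F) : Matrix (Fin m) (Fin m) F) ⊗ₖ (1 : Matrix μ μ F)) := by
      have hc1 : Commute (R ⊗ₖ (1 : Matrix μ μ F)) U := (Commute.one_right _).add_right hc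
      have hc2 : Commute U' (((Ru⁻¹ : GL (Fin m) F) : Matrix (Fin m) (Fin m) F) ⊗ₖ (1 : Matrix μ μ F)) := by
        have hR1 : (R ⊗ₖ (1 : Matrix μ μ F)) * (((Ru⁻¹ : GL (Fin m) F) : Matrix (Fin m) (Fin m) F) ⊗ₖ 1) = 1 := by
          rw [← mul_kronecker_mul, one_mul, show R = (Ru : Matrix (Fin m) (Fin m) F) from rfl, Units.mul_inv,
            one_kronecker_one]
        have hR2 : (((Ru⁻¹ : GL (Fin m) F) : Matrix (Fin m) (Fin m) F) ⊗ₖ (1 : Matrix μ μ F)) * (R ⊗ₖ 1) = 1 := by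
          rw [← mul_kronecker_mul, one_mul, show R = (Ru : Matrix (Fin m) (Fin m) F) from rfl, Units.inv_mul,
            one_kronecker_one]
        have hc3 : Commute U' (R ⊗ₖ (1 : Matrix μ μ F)) := ((Commute.one_right _).sub_right hc).symm
        exact Commute.units_inv_right (u := ⟨_, _, hR1, hR2⟩) hc3
      rw [show ∀ a b c, (R ⊗ₖ (1 : Matrix μ μ F)) * (U * b * a) * c = ((R ⊗ₖ (1 : Matrix μ μ F)) * U) * b * (a * c) from
          fun a b c => by noncomm_ring, hc1.eq, hc2.eq]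
      rw [show ∀ b : Matrix (Fin m × μ) (Fin m × μ) F, U * (R ⊗ₖ (1 : Matrix μ μ F)) * b *
          ((((Ru⁻¹ : GL (Fin m) F) : Matrix (Fin m) (Fin m) F) ⊗ₖ (1 : Matrix μ μ F)) * U') = U * ((R ⊗ₖ (1 : Matrix μ μ F)) * b *
          (((Ru⁻¹ : GL (Fin m) F) : Matrix (Fin m) (Fin m) F) ⊗ₖ (1 : Matrix μ μ F))) * U' from
          fun b => by noncomm_ring]
      rw [← mul_kronecker_mul, ← mul_kronecker_mul, one_mul, one_mul]
      congr 3
      rw [hXa, mul_add, mul_one, add_mul, show R = (Ru : Matrix (Fin m) (Fin m) F) from rfl, Units.mul_inv, mul_smul_comm, smul_mul_assoc]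
    rw [e]
    exact ((hS.isom _ hR).mul (h _)).mul (hS.isom _ hRi)
  -- all isometries
  have hdet : A.det ≠ 0 := fun h0 => by
    have h1 := congrArg Matrix.det hA
    rw [det_mul, h0, mul_zero] at h1
    exact hJ.det h1.symm
  let u : GL (Fin m) F := GeneralLinearGroup.mkOfDetNeZero A hdet
  let e : (Fin m → F) ≃ₗ[F] (Fin m → F) :=
    { toFun := fun x => A *ᵥ x
      map_add' := fun x y => mulVec_add A x y
      map_smul' := fun a x => mulVec_smul A a x
      invFun := fun x => ((u⁻¹ : GL (Fin m) F) : Matrix (Fin m) (Fin m) F) *ᵥ x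
      left_inv := fun x => GeomClasses.gl_inv_mulVec_mulVec u x
      right_inv := fun x => GeomClasses.gl_mulVec_inv_mulVec u x }
  have he : e ∈ CfsgLib.Sp.transvGroup (fm J) hJ.isAlt := by
    rw [← CfsgLib.Sp.isom_eq_transvGroup hJ.isAlt hJ.nondeg.1]
    intro x y
    show fm J (A *ᵥ x) (A *ᵥ y) = fm J x y
    rw [fm, Matrix.toBilin'_apply', Matrix.toBilin'_apply', ← vecMul_transpose, ← dotProduct_mulVec, mulVec_mulVec,
      mulVec_mulVec, show Aᵀ * J * A = J from hA]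
  suffices hG : ∀ g ∈ CfsgLib.Sp.transvGroup (fm J) hJ.isAlt,
      In M (U * (LinearMap.toMatrix' g.toLinearMap ⊗ₖ (1 : Matrix μ μ F)) * U') by
    convert hG e he
    exact (Matrix.ext_of_mulVec_single fun l => by rw [LinearMap.toMatrix'_mulVec]; rfl)
  have hmul : ∀ A B : Matrix (Fin m) (Fin m) F, U * (A ⊗ₖ (1 : Matrix μ μ F)) * U' * (U * (B ⊗ₖ (1 : Matrix μ μ F)) * U') =
      U * ((A * B) ⊗ₖ (1 : Matrix μ μ F)) * U' := fun A B => by
    simp only [mul_assoc]
    rw [← mul_assoc U' U, hU'U, one_mul, ← mul_assoc (A ⊗ₖ (1 : Matrix μ μ F)) (B ⊗ₖ (1 : Matrix μ μ F)),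
      ← mul_kronecker_mul, mul_one]
  intro g hg
  induction hg using Subgroup.closure_induction with
  | mem x hx =>
    obtain ⟨a, c, rfl⟩ := hx
    convert htv a (-c) using 4
    refine Matrix.ext_of_mulVec_single fun l => ?_
    rw [LinearMap.toMatrix'_mulVec, LinearEquiv.coe_coe, CfsgLib.Sp.tvec_apply, add_mulVec, one_mulVec, smul_mulVec,
      Xm_mulVec, smul_smul, hJ.flip _ a, mul_neg, neg_mul, neg_neg]
  | one =>
    rw [show LinearMap.toMatrix' (1 : (Fin m → F) ≃ₗ[F] (Fin m → F)).toLinearMap = 1 from LinearMap.toMatrix'_id,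
      one_kronecker_one, mul_one, hUU]
    exact In.one
  | mul x y _ _ hx hy =>
    convert hx.mul hy using 1
    rw [hmul, ← LinearMap.toMatrix'_comp]
    rfl
  | inv x _ hx =>
    refine hx.inv ?_
    rw [hmul, ← LinearMap.toMatrix'_comp, show x.toLinearMap ∘ₗ (x⁻¹).toLinearMap = LinearMap.id from
      LinearMap.ext fun y => x.apply_symm_apply y, LinearMap.toMatrix'_id, one_kronecker_one, mul_one, hUU]

/-- A square zero partner of a root element spanning with it a hyperbolic plane tensored by the identity. -/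
theorem pair_split {J : Matrix (Fin m) (Fin m) F} [Finite F] (hJ : Alt J) {K : Matrix μ μ F}
    {M : Subgroup (GL (Fin m × μ) F)} (hS : SSet J K M) (hF : Fin' J M) {v f : Fin m → F} (hv : v ≠ 0)
    (hvf : fm J v f = 1) {P : Matrix (Fin m) (Fin m) F} (hP : ∀ x, P *ᵥ x = fm J v x • f - fm J f x • v)
    {b : Matrix (Fin m × μ) (Fin m × μ) F} (hbb : b * b = 0)
    (hC : (Xm J v ⊗ₖ (1 : Matrix μ μ F)) * b + b * (Xm J v ⊗ₖ (1 : Matrix μ μ F)) = -(P ⊗ₖ (1 : Matrix μ μ F)))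
    (hPb : (P ⊗ₖ (1 : Matrix μ μ F)) * b = b) (hbP : b * (P ⊗ₖ (1 : Matrix μ μ F)) = b)
    (hin : ∀ r : F, In M (1 + r • b)) : ∃ a : Fin m → F, a ≠ 0 ∧ b = Xm J a ⊗ₖ 1 := by
  classical
  set φ := v ᵥ* J with hφd
  set ψ := f ᵥ* J with hψd
  have hfv : fm J f v = -1 := by rw [hJ.flip v f, hvf]
  have hφv : φ ⬝ᵥ v = 0 := hJ.alt v
  have hψf : ψ ⬝ᵥ f = 0 := hJ.alt f
  have hφf : φ ⬝ᵥ f = 1 := by rw [← fm_apply, hvf]
  have hψv : ψ ⬝ᵥ v = -1 := by rw [← fm_apply, hfv]
  have hX : ∀ (a : Fin m → F) (z : Fin m × μ → F), (Xm J a ⊗ₖ (1 : Matrix μ μ F)) *ᵥ z = pl a (ct (a ᵥ* J) z) :=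
    fun a z => by rw [Xm, kron_vecMulVec_mulVec, one_mulVec]
  have hPz : ∀ z, (P ⊗ₖ (1 : Matrix μ μ F)) *ᵥ z = pl f (ct φ z) - pl v (ct ψ z) := by
    intro z
    conv_lhs => rw [CfsgLib.TensorWreathMax.eq_sum_pl z, mulVec_sum]
    conv_rhs => rw [CfsgLib.TensorWreathMax.eq_sum_pl z, map_sum, map_sum, map_sum, map_sum, ← Finset.sum_sub_distrib]
    refine Finset.sum_congr rfl fun k _ => ?_
    rw [kronecker_mulVec_pl, one_mulVec, hP, pl_sub_left, pl_smul_left, pl_smul_left, ct_pl, ct_pl, map_smul, map_smul,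
      fm_apply, fm_apply]
  set Y : Matrix μ μ F := LinearMap.toMatrix' (ct ψ ∘ₗ b.mulVecLin ∘ₗ pl v)
  have hbv : ∀ u, b *ᵥ pl v u = -pl f u - pl v (Y *ᵥ u) := by
    intro u
    have h1 : (P ⊗ₖ (1 : Matrix μ μ F)) *ᵥ (b *ᵥ pl v u) = b *ᵥ pl v u := by rw [mulVec_mulVec, hPb]
    have h2 := congrArg (fun X => ct φ (b *ᵥ (X *ᵥ pl v u))) hC
    have h3 := congrArg (fun X => ct ψ (X *ᵥ pl v u)) hC
    simp only [add_mulVec, ← mulVec_mulVec, neg_mulVec, hX, ← hφd, ← hψd, hPz, ct_pl, hφv, hψv, zero_smul, map_zero, mulVec_zero,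
      add_zero, neg_smul, one_smul, map_neg, map_add, map_sub, zero_sub, neg_neg, hφf, hψf] at h2 h3
    rw [hPz] at h1
    rw [← h1, LinearMap.toMatrix'_mulVec, show ct φ (b *ᵥ pl v u) = -u from neg_eq_iff_eq_neg.1 h3, map_neg]
    rfl
  have hbf : ∀ u, b *ᵥ pl f u = pl f (Y *ᵥ u) + pl v (Y *ᵥ (Y *ᵥ u)) := by
    intro u
    have h1 : b *ᵥ (b *ᵥ pl v u) = 0 := by rw [mulVec_mulVec, hbb, zero_mulVec]
    rw [hbv, mulVec_sub, mulVec_neg, hbv] at h1
    linear_combination (norm := module) -h1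
  have hb : ∀ z, b *ᵥ z = pl f (ct ψ z + Y *ᵥ ct φ z) + pl v (Y *ᵥ (ct ψ z + Y *ᵥ ct φ z)) := by
    intro z
    conv_lhs => rw [← hbP, ← mulVec_mulVec, hPz, mulVec_sub, hbf, hbv]
    rw [mulVec_add, map_add, map_add]
    abel
  -- the conjugating unipotent
  have hU : ∀ z, ((1 + Xm J v ⊗ₖ Y) * (Xm J f ⊗ₖ (1 : Matrix μ μ F)) * (1 - Xm J v ⊗ₖ Y)) *ᵥ z = b *ᵥ z := by
    intro z
    rw [hb, ← mulVec_mulVec, ← mulVec_mulVec, sub_mulVec, one_mulVec, hX, map_sub, add_mulVec, one_mulVec]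
    simp only [Xm]
    rw [kron_vecMulVec_mulVec, kron_vecMulVec_mulVec, ct_pl, ct_pl, hφf, hψv]
    simp [sub_neg_eq_add, φ, ψ]
  have hUb : (1 + Xm J v ⊗ₖ Y) * (Xm J f ⊗ₖ (1 : Matrix μ μ F)) * (1 - Xm J v ⊗ₖ Y) = b :=
    Matrix.ext_of_mulVec_single fun i => hU _
  have hXX : (Xm J v ⊗ₖ Y) * (Xm J v ⊗ₖ Y) = 0 := by rw [← mul_kronecker_mul, hJ.Xm_mul_self, zero_kronecker]
  obtain ⟨s, hs⟩ := hF v hv Y fun A hA => conj_all hJ hS hvf Y (fun r => by
    convert hin r using 1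
    rw [add_kronecker, one_kronecker_one, smul_kronecker, mul_add, mul_one, add_mul, mul_smul_comm, smul_mul_assoc,
      hUb]
    congr 1
    rw [add_mul, one_mul, mul_sub, mul_one, hXX]
    abel) hA
  refine ⟨f + s • v, fun h0 => ?_, ext_pl fun a u => ?_⟩
  · have h1 := congrArg (fm J v) h0
    rw [map_add, map_smul, hJ.self, hvf, smul_zero, add_zero, map_zero] at h1
    exact one_ne_zero h1
  · have hYs : ∀ w, Y *ᵥ w = s • w := fun w => by rw [hs, smul_mulVec, one_mulVec]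
    rw [hb, hX, hYs, hYs, add_vecMul, smul_vecMul, ct_pl, ct_pl, ct_pl, add_dotProduct, smul_dotProduct, pl_add_left,
      pl_smul_left, ← map_smul (pl v)]
    simp only [smul_eq_mul, add_smul, smul_smul]
    rfl

end CfsgLib.TensorSympWreath
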