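import Cfsg.Agent.Lib.TensorSympWreath.Form

/-!
The stabiliser of the centre of a slot transvection: a similitude conjugating the isometries of the left
factor into a group whose radical elements are scalar is a tensor.
-/

set_option autoImplicit false
set_option linter.unusedSectionVars false
set_option linter.unusedSimpArgs false

namespace CfsgLib.TensorSympWreath

open Matrix
open scoped Kronecker
open CfsgLib.TensorWreathMax (In pl ct ct_pl ext_pl kronecker_mulVec_pl nm nm_mulVec pl_smul_left pl_add_left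
  eq_sum_pl exists_dot_eq_one exists_dot_eq_one' exists_perp_eq_one)

attribute [-simp] Matrix.coe_units_inv

variable {F : Type*} [Field F] {m : ℕ} {μ : Type} [Fintype μ] [DecidableEq μ]

/-- The short root direction. -/
def Srt (J : Matrix (Fin m) (Fin m) F) (v c : Fin m → F) : Matrix (Fin m) (Fin m) F :=
  vecMulVec c (v ᵥ* J) + vecMulVec v (c ᵥ* J)

theorem Srt_mulVec (J : Matrix (Fin m) (Fin m) F) (v c x : Fin m → F) :
    Srt J v c *ᵥ x = fm J v x • c + fm J c x • v := by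
  rw [Srt, add_mulVec, vecMulVec_mulVec, vecMulVec_mulVec, op_smul_eq_smul, op_smul_eq_smul, fm_apply, fm_apply]

theorem sim_of_fm {J A : Matrix (Fin m) (Fin m) F} {c : F} (h : ∀ x y, fm J (A *ᵥ x) (A *ᵥ y) = c * fm J x y) :
    Aᵀ * J * A = c • J := by
  refine Matrix.toBilin'.injective (LinearMap.ext fun x => LinearMap.ext fun y => ?_)
  have h' := h x y
  rw [fm, Matrix.toBilin'_apply', Matrix.toBilin'_apply'] at h'
  rw [Matrix.toBilin'_apply', Matrix.toBilin'_apply', ← mulVec_mulVec, ← mulVec_mulVec, dotProduct_mulVec x,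
    vecMul_transpose, h', smul_mulVec, dotProduct_smul, smul_eq_mul]

theorem iso_of_fm {J A : Matrix (Fin m) (Fin m) F} (h : ∀ x y, fm J (A *ᵥ x) (A *ᵥ y) = fm J x y) : Iso J A :=
  (sim_of_fm (c := 1) fun x y => by rw [h, one_mul]).trans (one_smul F J)

theorem Alt.iso_srt {J : Matrix (Fin m) (Fin m) F} (hJ : Alt J) {v c : Fin m → F} (h : fm J v c = 0) :
    Iso J (1 + Srt J v c) := by
  refine iso_of_fm fun x y => ?_
  rw [add_mulVec, add_mulVec, one_mulVec, one_mulVec, Srt_mulVec, Srt_mulVec]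
  simp only [map_add, map_smul, LinearMap.add_apply, LinearMap.smul_apply, smul_eq_mul, hJ.self, h,
    show fm J c v = 0 by rw [hJ.flip v c, h, neg_zero], hJ.flip v x, hJ.flip c x]
  ring

theorem ct_add (φ ψ : Fin m → F) (z : Fin m × μ → F) : ct (φ + ψ) z = ct φ z + ct ψ z := by
  ext x; simp [ct, add_mul, Finset.sum_add_distrib]

theorem ct_smul (a : F) (φ : Fin m → F) (z : Fin m × μ → F) : ct (a • φ) z = a • ct φ z := by
  ext x; simp [ct, Finset.mul_sum, mul_assoc]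

theorem kron_vecMulVec_mulVec (a φ : Fin m → F) (Y : Matrix μ μ F) (z : Fin m × μ → F) :
    (vecMulVec a φ ⊗ₖ Y) *ᵥ z = pl a (Y *ᵥ ct φ z) := nm_mulVec a φ Y z

theorem Srt_kron_mulVec (J : Matrix (Fin m) (Fin m) F) (v c : Fin m → F) (z : Fin m × μ → F) :
    (Srt J v c ⊗ₖ (1 : Matrix μ μ F)) *ᵥ z = pl c (ct (v ᵥ* J) z) + pl v (ct (c ᵥ* J) z) := by
  rw [Srt, add_kronecker, add_mulVec, kron_vecMulVec_mulVec, kron_vecMulVec_mulVec, one_mulVec, one_mulVec]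

/-- The pairing of a pure tensor. -/
theorem pair_pl (J : Matrix (Fin m) (Fin m) F) (K : Matrix μ μ F) (a : Fin m → F) (u : μ → F) (z : Fin m × μ → F) :
    pl a u ⬝ᵥ (J ⊗ₖ K) *ᵥ z = u ⬝ᵥ K *ᵥ ct (a ᵥ* J) z := by
  simp only [dotProduct, pl, ct, LinearMap.coe_mk, AddHom.coe_mk, Matrix.mulVec, Matrix.vecMul, Fintype.sum_prod_type,
    Matrix.kroneckerMap_apply, Finset.mul_sum, Finset.sum_mul]
  rw [Finset.sum_comm]
  refine Finset.sum_congr rfl fun x _ => ?_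
  rw [Finset.sum_comm]
  conv_rhs => rw [Finset.sum_comm]
  refine Finset.sum_congr rfl fun b _ => ?_
  rw [Finset.sum_comm]
  exact Finset.sum_congr rfl fun y _ => Finset.sum_congr rfl fun a' _ => by ring

/-- The setting at a splitting. -/
structure SSet (J : Matrix (Fin m) (Fin m) F) (K : Matrix μ μ F) (M : Subgroup (GL (Fin m × μ) F)) : Prop where
  Kunit : IsUnit K
  iso : ∀ g ∈ M, Iso (J ⊗ₖ K) (g : Matrix (Fin m × μ) (Fin m × μ) F)
  isom : ∀ A, Iso J A → In M (A ⊗ₖ (1 : Matrix μ μ F))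
  scal : ∀ v, v ≠ 0 → ∀ Y, In M (1 + Xm J v ⊗ₖ Y) → ∃ c : F, Y = c • 1

/-- Radical elements are scalar. -/
def Rad (J : Matrix (Fin m) (Fin m) F) (M : Subgroup (GL (Fin m × μ) F)) : Prop :=
  ∀ v c₀, v ≠ 0 → fm J v c₀ = 0 → (∀ a : F, c₀ ≠ a • v) → ∀ η : Matrix (Fin m × μ) (Fin m × μ) F,
    (∀ u, η *ᵥ pl v u = 0) → (∀ z, ct (v ᵥ* J) (η *ᵥ z) = 0) → (∀ z, ct (v ᵥ* J) z = 0 → ∃ u, η *ᵥ z = pl v u) →
      In M (1 + η) → ∃ (c : Fin m → F) (e : F), fm J v c = 0 ∧ η = (Srt J v c + e • Xm J v) ⊗ₖ 1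

/-- Only scalar unipotents of the radical move the isometries into the group. -/
def Fin' (J : Matrix (Fin m) (Fin m) F) (M : Subgroup (GL (Fin m × μ) F)) : Prop :=
  ∀ v, v ≠ 0 → ∀ Y, (∀ A, Iso J A → In M ((1 + Xm J v ⊗ₖ Y) * (A ⊗ₖ (1 : Matrix μ μ F)) * (1 - Xm J v ⊗ₖ Y))) →
    ∃ c : F, Y = c • 1

theorem Alt.iso_torus {J : Matrix (Fin m) (Fin m) F} (hJ : Alt J) {v f : Fin m → F} (h : fm J v f = 1) {a : F}
    (ha : a ≠ 0) : Iso J (1 + ((a - 1) • vecMulVec v (-(f ᵥ* J)) + (a⁻¹ - 1) • vecMulVec f (v ᵥ* J))) := by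
  refine iso_of_fm fun x y => ?_
  simp only [add_mulVec, one_mulVec, smul_mulVec, vecMulVec_mulVec, op_smul_eq_smul, neg_dotProduct, ← fm_apply]
  simp only [map_add, map_smul, map_neg, LinearMap.add_apply, LinearMap.smul_apply, LinearMap.neg_apply, smul_eq_mul,
    hJ.self, h, show fm J f v = -1 by rw [hJ.flip v f, h], hJ.flip v x, hJ.flip f x, neg_smul]
  field_simp
  ring

/-- A torus settles the final step when some non-zero scalar has square other than one. -/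
theorem fin'_of_torus {J : Matrix (Fin m) (Fin m) F} (hJ : Alt J) {K : Matrix μ μ F}
    {M : Subgroup (GL (Fin m × μ) F)} (hS : SSet J K M) {a : F} (ha : a ≠ 0) (ha2 : a ^ 2 ≠ 1) : Fin' J M := by
  intro v hv Y hY
  obtain ⟨f, hf⟩ := hJ.exists_pair hv
  set T := 1 + ((a - 1) • vecMulVec v (-(f ᵥ* J)) + (a⁻¹ - 1) • vecMulVec f (v ᵥ* J))
  set T' := 1 + ((a⁻¹ - 1) • vecMulVec v (-(f ᵥ* J)) + (a⁻¹⁻¹ - 1) • vecMulVec f (v ᵥ* J))
  have hTX : T * Xm J v * T' = (a ^ 2) • Xm J v := by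
    refine Matrix.ext_of_mulVec_single fun i => ?_
    simp only [T, T', ← mulVec_mulVec, add_mulVec, one_mulVec, smul_mulVec, vecMulVec_mulVec, op_smul_eq_smul,
      neg_dotProduct, ← fm_apply, Xm_mulVec, map_add, map_smul, map_neg, hJ.self, hf, smul_eq_mul, inv_inv,
      show fm J f v = -1 by rw [hJ.flip v f, hf]]
    module
  have hTT : T * T' = 1 := by
    refine Matrix.ext_of_mulVec_single fun i => ?_
    simp only [T, T', ← mulVec_mulVec, add_mulVec, one_mulVec, smul_mulVec, vecMulVec_mulVec, op_smul_eq_smul,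
      neg_dotProduct, ← fm_apply, map_add, map_smul, map_neg, hJ.self, hf, smul_eq_mul, inv_inv,
      show fm J f v = -1 by rw [hJ.flip v f, hf]]
    match_scalars <;> field_simp <;> ring
  have h1 := (hY T (hJ.iso_torus hf ha)).mul (hS.isom T' (hJ.iso_torus hf (inv_ne_zero ha)))
  have hXX : (Xm J v ⊗ₖ Y) * (Xm J v ⊗ₖ Y) = 0 := by
    rw [← mul_kronecker_mul, hJ.Xm_mul_self, zero_kronecker]
  have e : (1 + Xm J v ⊗ₖ Y) * (T ⊗ₖ (1 : Matrix μ μ F)) * (1 - Xm J v ⊗ₖ Y) * (T' ⊗ₖ (1 : Matrix μ μ F)) =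
      1 + Xm J v ⊗ₖ ((1 - a ^ 2) • Y) := by
    have e1 : (T ⊗ₖ (1 : Matrix μ μ F)) * (1 - Xm J v ⊗ₖ Y) * (T' ⊗ₖ (1 : Matrix μ μ F)) =
        1 - (a ^ 2) • (Xm J v ⊗ₖ Y) := by
      rw [mul_sub, mul_one, sub_mul, ← mul_kronecker_mul, ← mul_kronecker_mul, ← mul_kronecker_mul, hTT, hTX,
        one_mul, one_mul, mul_one, one_kronecker_one, smul_kronecker]
    rw [mul_assoc (1 + Xm J v ⊗ₖ Y), mul_assoc (1 + Xm J v ⊗ₖ Y), e1, kronecker_smul, sub_smul, one_smul]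
    rw [add_mul, one_mul, mul_sub, mul_one, mul_smul_comm, hXX, smul_zero]
    abel
  rw [e] at h1
  obtain ⟨c, hc⟩ := hS.scal v hv _ h1
  exact ⟨(1 - a ^ 2)⁻¹ * c, by rw [← smul_smul, ← hc, smul_smul, inv_mul_cancel₀ (sub_ne_zero.2 (Ne.symm ha2)), one_smul]⟩

theorem exists_perp_indep {J : Matrix (Fin m) (Fin m) F} (hm : 3 ≤ m) (v : Fin m → F) :
    ∃ w, fm J v w = 0 ∧ ∀ a : F, w ≠ a • v := by
  by_contra h
  push Not at h
  have hle : LinearMap.ker (fm J v) ≤ Submodule.span F {v} := fun w hw => by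
    obtain ⟨a, rfl⟩ := h w hw
    exact Submodule.smul_mem _ _ (Submodule.mem_span_singleton_self v)
  have h1 := Submodule.finrank_mono hle
  have h2 := LinearMap.finrank_range_add_finrank_ker (fm J v)
  have h3 : Module.finrank F (LinearMap.range (fm J v)) ≤ 1 := by
    simpa using Submodule.finrank_le (LinearMap.range (fm J v))
  have h4 : Module.finrank F (Submodule.span F {v}) ≤ 1 := by
    refine (finrank_span_le_card _).trans ?_
    simp
  rw [Module.finrank_fintype_fun_eq_card, Fintype.card_fin] at h2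
  omega

/-- The radical settles the final step in dimension at least three. -/
theorem fin'_of_perp {J : Matrix (Fin m) (Fin m) F} (hJ : Alt J) (hm : 3 ≤ m) (h2 : (2 : F) ≠ 0) {K : Matrix μ μ F}
    {M : Subgroup (GL (Fin m × μ) F)} (hS : SSet J K M) (hR : Rad J M) : Fin' J M := by
  intro v hv Y hY
  obtain ⟨w, hvw, hind⟩ := exists_perp_indep (J := J) hm v
  have hw : w ≠ 0 := fun h => hind 0 (by rw [h, zero_smul])
  obtain ⟨A, hAv, hA, -⟩ := hJ.exists_move hv hw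
  have hA' : Iso J ((A⁻¹ : GL (Fin m) F) : Matrix (Fin m) (Fin m) F) := by
    rw [Iso]
    conv_lhs => rw [← show _ * J * _ = J from hA]
    simp only [mul_assoc, Units.mul_inv, mul_one]
    rw [← mul_assoc, ← transpose_mul, Units.mul_inv, transpose_one, one_mul]
  have h1 := (hY _ hA).mul (hS.isom _ hA')
  have hXX : Xm J v * Xm J w = 0 := by
    rw [Xm, Xm, vecMulVec_mul_vecMulVec, ← fm_apply, hvw, zero_smul, vecMulVec_zero]
  have hwv : fm J w v = 0 := by rw [hJ.flip v w, hvw, neg_zero]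
  set a := v + w
  set b := v - w
  have hab : Srt J a b = (2 : F) • (Xm J v - Xm J w) := Matrix.ext_of_mulVec_single fun i => by
    simp only [a, b, Srt_mulVec, smul_mulVec, sub_mulVec, Xm_mulVec, map_add, map_sub, LinearMap.add_apply,
      LinearMap.sub_apply]
    module
  have e : (1 + Xm J v ⊗ₖ Y) * ((A : Matrix (Fin m) (Fin m) F) ⊗ₖ (1 : Matrix μ μ F)) * (1 - Xm J v ⊗ₖ Y) *
      (((A⁻¹ : GL (Fin m) F) : Matrix (Fin m) (Fin m) F) ⊗ₖ (1 : Matrix μ μ F)) =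
      1 + Srt J a b ⊗ₖ ((2 : F)⁻¹ • Y) := by
    rw [hab, smul_kronecker, kronecker_smul, smul_smul, mul_inv_cancel₀ h2, one_smul,
      show (Xm J v - Xm J w) ⊗ₖ Y = Xm J v ⊗ₖ Y - Xm J w ⊗ₖ Y by ext ⟨p, x⟩ ⟨q, y⟩; simp [sub_mul]]
    rw [mul_assoc (1 + Xm J v ⊗ₖ Y), mul_assoc (1 + Xm J v ⊗ₖ Y)]
    rw [show ((A : Matrix (Fin m) (Fin m) F) ⊗ₖ (1 : Matrix μ μ F)) * (1 - Xm J v ⊗ₖ Y) *
        (((A⁻¹ : GL (Fin m) F) : Matrix (Fin m) (Fin m) F) ⊗ₖ (1 : Matrix μ μ F)) = 1 - Xm J w ⊗ₖ Y by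
      rw [mul_sub, mul_one, sub_mul, ← mul_kronecker_mul, ← mul_kronecker_mul, ← mul_kronecker_mul, Units.mul_inv,
        hJ.conj_Xm' one_ne_zero (show _ = (1 : F) • J from hA.trans (one_smul F J).symm), hAv]
      simp]
    rw [add_mul, one_mul, mul_sub, mul_one, ← mul_kronecker_mul, hXX, zero_kronecker, sub_zero]
    abel
  rw [e] at h1
  have hva : fm J a b = 0 := by
    simp [a, b, map_add, map_sub, LinearMap.add_apply, hJ.self, hvw, hwv]
  have hba : fm J b a = 0 := by rw [hJ.flip a b, hva, neg_zero]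
  obtain ⟨θv, hθv, hθw⟩ := exists_perp_eq_one (x := w) (y := v) (fun r hr => by
    rcases eq_or_ne r 0 with rfl | hr0
    · exact hv (by rw [hr, zero_smul])
    · exact hind r⁻¹ (by rw [hr, inv_smul_smul₀ hr0]))
  have ha : a ≠ 0 := fun h => hind (-1) (by rw [neg_one_smul]; exact eq_neg_of_add_eq_zero_right h)
  have hbi : ∀ r : F, b ≠ r • a := fun r h => by
    rcases eq_or_ne (r + 1) 0 with hr | hr
    · refine hv ?_
      rw [eq_neg_of_add_eq_zero_left hr] at h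
      have h5 : (2 : F) • v = 0 := by
        simp only [a, b] at h
        linear_combination (norm := module) h
      exact (smul_eq_zero.1 h5).resolve_left h2
    · refine hind ((1 - r) / (r + 1)) ?_
      rw [div_eq_inv_mul, mul_smul, eq_inv_smul_iff₀ hr]
      simp only [a, b] at h
      linear_combination (norm := module) -h
  have hSv : ∀ z, (Srt J a b ⊗ₖ ((2 : F)⁻¹ • Y)) *ᵥ z = pl b (((2 : F)⁻¹ • Y) *ᵥ ct (a ᵥ* J) z) +
      pl a (((2 : F)⁻¹ • Y) *ᵥ ct (b ᵥ* J) z) := fun z => by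
    rw [Srt, add_kronecker, add_mulVec, kron_vecMulVec_mulVec, kron_vecMulVec_mulVec]
  obtain ⟨c, r, hc, hcr⟩ := hR a b ha hva hbi _ (fun u => by
      rw [hSv, ct_pl, ct_pl, ← fm_apply, ← fm_apply, hJ.self, hba, zero_smul, mulVec_zero, map_zero, map_zero,
        zero_add])
    (fun z => by rw [hSv, map_add, ct_pl, ct_pl, ← fm_apply, ← fm_apply, hva, hJ.self, zero_smul, zero_smul, zero_add])
    (fun z hz => ⟨((2 : F)⁻¹ • Y) *ᵥ ct (b ᵥ* J) z, by rw [hSv, hz, mulVec_zero, map_zero, zero_add]⟩) h1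
  obtain ⟨f, hf⟩ := hJ.exists_pair ha
  obtain ⟨θ, hθb, hθa⟩ := exists_perp_eq_one (x := a) (y := b) hbi
  set x := θ ⬝ᵥ ((Srt J a c + r • Xm J a) *ᵥ f)
  refine ⟨2 * x, Matrix.ext_of_mulVec_single fun i => ?_⟩
  have h5 := congrArg (fun X => ct θ (X *ᵥ pl f (Pi.single i 1))) hcr
  rw [hSv, map_add, ct_pl, ct_pl, kronecker_mulVec_pl, one_mulVec, ct_pl, ct_pl, ← fm_apply, ← fm_apply, hf, one_smul,
    ct_pl, hθb, hθa, zero_smul, one_smul, add_zero, smul_mulVec, inv_smul_eq_iff₀ h2, smul_smul] at h5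
  rw [smul_mulVec, one_mulVec]
  exact h5

/-- The right factor of a similitude fixing the centre. -/
theorem right_factor {J : Matrix (Fin m) (Fin m) F} (hJ : Alt J) {K : Matrix μ μ F}
    {M : Subgroup (GL (Fin m × μ) F)} (hS : SSet J K M) {g : GL (Fin m × μ) F}
    (hgs : Sim (J ⊗ₖ K) (g : Matrix (Fin m × μ) (Fin m × μ) F))
    (hg : ∀ A, Iso J A → In M ((g : Matrix _ _ F) * (A ⊗ₖ (1 : Matrix μ μ F)) * ((g⁻¹ : GL (Fin m × μ) F) : Matrix _ _ F)))
    {v : Fin m → F} (hv : v ≠ 0) (hI : ∀ u, ∃ u', (g : Matrix (Fin m × μ) (Fin m × μ) F) *ᵥ pl v u = pl v u') :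
    ∃ (τ : GL μ F) (d : F), d ≠ 0 ∧ Sim K (τ : Matrix μ μ F) ∧
      (∀ u, (g : Matrix (Fin m × μ) (Fin m × μ) F) *ᵥ pl v u = pl v ((τ : Matrix μ μ F) *ᵥ u)) ∧
      (∀ z, ct (v ᵥ* J) ((g : Matrix (Fin m × μ) (Fin m × μ) F) *ᵥ z) = d • (τ : Matrix μ μ F) *ᵥ ct (v ᵥ* J) z) := by
  classical
  obtain ⟨θ, hθ⟩ := exists_dot_eq_one hv
  set φ := v ᵥ* J
  let L : (μ → F) →ₗ[F] (μ → F) := ct θ ∘ₗ (g : Matrix (Fin m × μ) (Fin m × μ) F).mulVecLin ∘ₗ pl v
  have hL : ∀ u, (g : Matrix (Fin m × μ) (Fin m × μ) F) *ᵥ pl v u = pl v (LinearMap.toMatrix' L *ᵥ u) := fun u => by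
    obtain ⟨u', hu'⟩ := hI u
    rw [LinearMap.toMatrix'_mulVec]
    simp [L, hu', ct_pl, hθ]
  set T := LinearMap.toMatrix' L
  have hTu : IsUnit T := by
    rw [← Matrix.mulVec_injective_iff_isUnit]
    intro u w huw
    have h := GeomClasses.gl_mulVec_injective g (show (g : Matrix (Fin m × μ) (Fin m × μ) F) *ᵥ pl v u = (g : Matrix (Fin m × μ) (Fin m × μ) F) *ᵥ pl v w by
      rw [hL, hL, huw])
    have := congrArg (ct θ) h
    rwa [ct_pl, ct_pl, hθ, one_smul, one_smul] at this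
  obtain ⟨τ, hτ⟩ := hTu
  obtain ⟨Ku, hKu⟩ := hS.Kunit
  obtain ⟨c, hc, hgs⟩ := hgs
  have hpair : ∀ z, (τ : Matrix μ μ F)ᵀ *ᵥ (K *ᵥ ct φ ((g : Matrix (Fin m × μ) (Fin m × μ) F) *ᵥ z)) =
      c • (K *ᵥ ct φ z) := by
    intro z
    refine dotProduct_eq _ _ fun u => ?_
    rw [dotProduct_comm, dotProduct_mulVec, vecMul_transpose, hτ, ← pair_pl, ← hL, dotProduct_comm _ u,
      dotProduct_smul, ← pair_pl, ← dotProduct_smul, ← smul_mulVec, ← hgs, ← mulVec_mulVec, ← mulVec_mulVec,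
      dotProduct_mulVec (pl v u), vecMul_transpose]
  -- the conjugated transvection
  set N := c • ((Ku⁻¹ : GL μ F) : Matrix μ μ F) * (((τ⁻¹ : GL μ F) : Matrix μ μ F))ᵀ * K with hN
  have hctg : ∀ z, ct φ ((g : Matrix (Fin m × μ) (Fin m × μ) F) *ᵥ z) = N *ᵥ ct φ z := by
    intro z
    have h := congrArg (fun w => ((Ku⁻¹ : GL μ F) : Matrix μ μ F) *ᵥ ((((τ⁻¹ : GL μ F) : Matrix μ μ F))ᵀ *ᵥ w)) (hpair z)
    simp only [mulVec_mulVec, ← hKu, mulVec_smul] at h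
    rw [← Matrix.mul_assoc ((((τ⁻¹ : GL μ F) : Matrix μ μ F))ᵀ), ← Matrix.transpose_mul, Units.mul_inv, transpose_one,
      one_mul, Units.inv_mul, one_mulVec, hKu] at h
    rw [h, hN, smul_mul_assoc, smul_mul_assoc, smul_mulVec, Matrix.mul_assoc]
  obtain ⟨N', hN'1, hN'2⟩ : ∃ N', N * N' = 1 ∧ N' * N = 1 := by
    refine ⟨c⁻¹ • ((Ku⁻¹ : GL μ F) : Matrix μ μ F) * (τ : Matrix μ μ F)ᵀ * K, ?_, ?_⟩ <;>
    · rw [hN, ← hKu]
      simp only [smul_mul_assoc, mul_smul_comm, smul_smul, mul_inv_cancel₀ hc, inv_mul_cancel₀ hc, one_smul, mul_assoc]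
      simp [← mul_assoc, ← Matrix.transpose_mul]
  have hctg' : ∀ z, ct φ (((g⁻¹ : GL (Fin m × μ) F) : Matrix (Fin m × μ) (Fin m × μ) F) *ᵥ z) = N' *ᵥ ct φ z := by
    intro z
    have h := hctg (((g⁻¹ : GL (Fin m × μ) F) : Matrix (Fin m × μ) (Fin m × μ) F) *ᵥ z)
    rw [GeomClasses.gl_mulVec_inv_mulVec] at h
    rw [h, mulVec_mulVec, hN'2, one_mulVec]
  have hconj : (g : Matrix _ _ F) * (Xm J v ⊗ₖ (1 : Matrix μ μ F)) * ((g⁻¹ : GL (Fin m × μ) F) : Matrix _ _ F) =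
      Xm J v ⊗ₖ ((τ : Matrix μ μ F) * N') := Matrix.ext_of_mulVec_single fun i => by
    rw [← mulVec_mulVec, ← mulVec_mulVec, Xm, kron_vecMulVec_mulVec, kron_vecMulVec_mulVec, one_mulVec, hL,
      ← hτ, hctg', mulVec_mulVec]
  have h1 := hg (1 + Xm J v) (by
    have := hJ.iso_srt (v := v) (c := (2 : F)⁻¹ • v) (by rw [map_smul, hJ.self, smul_zero])
    by_cases h2 : (2 : F) = 0
    · refine iso_of_fm fun x y => ?_
      rw [add_mulVec, add_mulVec, one_mulVec, one_mulVec, Xm_mulVec, Xm_mulVec]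
      simp only [map_add, map_smul, LinearMap.add_apply, LinearMap.smul_apply, smul_eq_mul, hJ.self, hJ.flip v x]
      ring
    · rwa [Srt, smul_vecMulVec, smul_vecMul, vecMulVec_smul, ← add_smul, ← two_mul, mul_inv_cancel₀ h2, one_smul] at this)
  rw [add_kronecker, one_kronecker_one, mul_add, mul_one, add_mul, Units.mul_inv, hconj] at h1
  obtain ⟨e, he⟩ := hS.scal v hv _ h1
  have hτe : (τ : Matrix μ μ F) = e • N := by
    have h := congrArg (· * N) he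
    rwa [mul_assoc, hN'2, mul_one, smul_mul_assoc, one_mul] at h
  rcases isEmpty_or_nonempty μ with hμ | ⟨⟨x₀⟩⟩
  · exact ⟨τ, 1, one_ne_zero, ⟨1, one_ne_zero, Subsingleton.elim _ _⟩, fun u => by rw [hL, hτ],
      fun z => Subsingleton.elim _ _⟩
  have he0 : e ≠ 0 := fun h0 => by
    rw [h0, zero_smul] at hτe
    have := congrArg (fun M => M * ((τ⁻¹ : GL μ F) : Matrix μ μ F)) hτe
    simp at this
    simpa using congrFun (congrFun this x₀) x₀
  refine ⟨τ, e⁻¹, inv_ne_zero he0, ⟨e * c, mul_ne_zero he0 hc, ?_⟩, fun u => by rw [hL, hτ], fun z => by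
    rw [hctg, hτe, smul_mulVec, smul_smul, inv_mul_cancel₀ he0, one_smul]⟩
  conv_lhs => arg 2; rw [hτe, hN]
  rw [← hKu]
  simp only [smul_mul_assoc, mul_smul_comm, smul_smul, mul_assoc]
  simp [← mul_assoc, ← Matrix.transpose_mul]

/-- A similitude fixing the centre of a slot transvection is a tensor. -/
theorem centre_stab {J : Matrix (Fin m) (Fin m) F} (hJ : Alt J) {K : Matrix μ μ F} [Nonempty μ]
    {M : Subgroup (GL (Fin m × μ) F)} (hS : SSet J K M) (hR : Rad J M) (hFin : Fin' J M)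
    {g : GL (Fin m × μ) F} (hgs : Sim (J ⊗ₖ K) (g : Matrix (Fin m × μ) (Fin m × μ) F))
    (hg : ∀ A, Iso J A → In M ((g : Matrix _ _ F) * (A ⊗ₖ (1 : Matrix μ μ F)) * ((g⁻¹ : GL (Fin m × μ) F) : Matrix _ _ F)))
    {v : Fin m → F} (hv : v ≠ 0) (hI : ∀ u, ∃ u', (g : Matrix (Fin m × μ) (Fin m × μ) F) *ᵥ pl v u = pl v u') :
    ∃ (T : GL (Fin m) F) (τ : GL μ F), Sim J (T : Matrix (Fin m) (Fin m) F) ∧ Sim K (τ : Matrix μ μ F) ∧
      (g : Matrix (Fin m × μ) (Fin m × μ) F) = (T : Matrix (Fin m) (Fin m) F) ⊗ₖ (τ : Matrix μ μ F) := by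
  classical
  obtain ⟨τ, d, hd, hτs, hgv, hgφ⟩ := right_factor hJ hS hgs hg hv hI
  obtain ⟨f, hf⟩ := hJ.exists_pair hv
  set φ := v ᵥ* J with hφ
  let τi : GL (Fin m × μ) F :=
    ⟨(1 : Matrix (Fin m) (Fin m) F) ⊗ₖ ((τ⁻¹ : GL μ F) : Matrix μ μ F), (1 : Matrix (Fin m) (Fin m) F) ⊗ₖ (τ : Matrix μ μ F),
      by rw [← mul_kronecker_mul, one_mul, Units.inv_mul, one_kronecker_one],
      by rw [← mul_kronecker_mul, one_mul, Units.mul_inv, one_kronecker_one]⟩
  set g₁ := g * τi with hg₁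
  set G := (g₁ : Matrix (Fin m × μ) (Fin m × μ) F) with hGdef
  set G' := ((g₁⁻¹ : GL (Fin m × μ) F) : Matrix (Fin m × μ) (Fin m × μ) F) with hG'def
  have hτv : ∀ a u, (τi : Matrix (Fin m × μ) (Fin m × μ) F) *ᵥ pl a u = pl a (((τ⁻¹ : GL μ F) : Matrix μ μ F) *ᵥ u) := fun a u => by
    show ((1 : Matrix (Fin m) (Fin m) F) ⊗ₖ _) *ᵥ _ = _
    rw [kronecker_mulVec_pl, one_mulVec]
  have hGv : ∀ u, G *ᵥ pl v u = pl v u := fun u => by
    rw [hGdef, hg₁, Units.val_mul, ← mulVec_mulVec, hτv, hgv, mulVec_mulVec, Units.mul_inv, one_mulVec]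
  have hGφ : ∀ z, ct φ (G *ᵥ z) = d • ct φ z := fun z => by
    rw [hGdef, hg₁, Units.val_mul, ← mulVec_mulVec, hgφ,
      show (τi : Matrix (Fin m × μ) (Fin m × μ) F) = (1 : Matrix (Fin m) (Fin m) F) ⊗ₖ ((τ⁻¹ : GL μ F) : Matrix μ μ F)
        from rfl]
    conv_lhs => rw [eq_sum_pl z, Matrix.mulVec_sum, map_sum, Matrix.mulVec_sum]
    conv_rhs => rw [eq_sum_pl z, map_sum]
    rw [Finset.smul_sum, Finset.smul_sum]
    refine Finset.sum_congr rfl fun k _ => ?_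
    rw [kronecker_mulVec_pl, one_mulVec, ct_pl, ct_pl, mulVec_smul, mulVec_mulVec, Units.mul_inv, one_mulVec]
  have hG1 : ∀ A, Iso J A → In M (G * (A ⊗ₖ (1 : Matrix μ μ F)) * G') := fun A hA => by
    convert hg A hA using 1
    rw [hGdef, hG'def, hg₁, _root_.mul_inv_rev, Units.val_mul, Units.val_mul, mul_assoc (g : Matrix (Fin m × μ) (Fin m × μ) F),
      show (τi : Matrix (Fin m × μ) (Fin m × μ) F) * (A ⊗ₖ (1 : Matrix μ μ F)) = (A ⊗ₖ (1 : Matrix μ μ F)) * (τi : Matrix (Fin m × μ) (Fin m × μ) F) by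
        show ((1 : Matrix (Fin m) (Fin m) F) ⊗ₖ _) * _ = _ * ((1 : Matrix (Fin m) (Fin m) F) ⊗ₖ _)
        rw [← mul_kronecker_mul, ← mul_kronecker_mul, one_mul, mul_one, one_mul, mul_one]]
    simp only [mul_assoc, Units.mul_inv_cancel_left]
  have hGs : Gᵀ * (J ⊗ₖ K) * G = d • (J ⊗ₖ K) := by
    obtain ⟨c, hc, h⟩ := Sim.mul hgs (show Sim (J ⊗ₖ K) (τi : Matrix (Fin m × μ) (Fin m × μ) F) by
      obtain ⟨e, he, hτs⟩ := hτs
      refine ⟨e⁻¹, inv_ne_zero he, ?_⟩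
      have h : (((τ⁻¹ : GL μ F) : Matrix μ μ F))ᵀ * K * ((τ⁻¹ : GL μ F) : Matrix μ μ F) = e⁻¹ • K := by
        rw [eq_inv_smul_iff₀ he, ← Matrix.smul_mul, ← Matrix.mul_smul, ← hτs]
        simp only [mul_assoc, Units.mul_inv, mul_one]
        rw [← mul_assoc, ← Matrix.transpose_mul, Units.mul_inv, transpose_one, one_mul]
      show ((1 : Matrix (Fin m) (Fin m) F) ⊗ₖ _)ᵀ * _ * ((1 : Matrix (Fin m) (Fin m) F) ⊗ₖ _) = _
      rw [← Matrix.kroneckerMap_transpose, transpose_one, ← mul_kronecker_mul, ← mul_kronecker_mul, one_mul, mul_one,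
        h, kronecker_smul])
    rw [hGdef, hg₁, Units.val_mul, h]
    obtain ⟨x₀⟩ : Nonempty μ := inferInstance
    obtain ⟨Ku, hKu⟩ := hS.Kunit
    -- compare on a pair of vectors
    obtain ⟨y, hy⟩ : ∃ y : μ → F, Pi.single x₀ 1 ⬝ᵥ K *ᵥ y = 1 :=
      ⟨((Ku⁻¹ : GL μ F) : Matrix μ μ F) *ᵥ Pi.single x₀ 1, by rw [mulVec_mulVec, ← hKu, Units.mul_inv, one_mulVec]; simp⟩
    have h1 := congrArg (fun X => pl v (Pi.single x₀ (1 : F)) ⬝ᵥ X *ᵥ pl f y) h
    simp only [← mulVec_mulVec, dotProduct_mulVec (pl v _) ((_ : Matrix _ _ F)ᵀ), vecMul_transpose, smul_mulVec,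
      dotProduct_smul] at h1
    simp only [mulVec_mulVec _ (g : Matrix (Fin m × μ) (Fin m × μ) F) (τi : Matrix (Fin m × μ) (Fin m × μ) F), ← Units.val_mul, ← hg₁, ← hGdef] at h1
    rw [hGv, pair_pl, pair_pl, hGφ, mulVec_smul, dotProduct_smul, ct_pl, ← fm_apply,
      hf, one_smul, hy] at h1
    simp only [smul_eq_mul, mul_one] at h1
    rw [h1]
  have hG'v : ∀ u, G' *ᵥ pl v u = pl v u := fun u => by
    conv_lhs => rw [← hGv u, hG'def, hGdef, GeomClasses.gl_inv_mulVec_mulVec]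
  have hG'φ : ∀ z, ct φ (G' *ᵥ z) = d⁻¹ • ct φ z := fun z => by
    have h := hGφ (G' *ᵥ z)
    rw [hGdef, hG'def, GeomClasses.gl_mulVec_inv_mulVec] at h
    rw [h, smul_smul, inv_mul_cancel₀ hd, one_smul]
  have hpairG : ∀ x y, (G *ᵥ x) ⬝ᵥ (J ⊗ₖ K) *ᵥ (G *ᵥ y) = d • (x ⬝ᵥ (J ⊗ₖ K) *ᵥ y) := fun x y => by
    rw [← vecMul_transpose, ← dotProduct_mulVec, mulVec_mulVec, mulVec_mulVec, hGs, smul_mulVec, dotProduct_smul]
  -- the middle
  have hmid : ∀ c, fm J v c = 0 → ∃ (c₁ : Fin m → F) (e₀ : F), fm J v c₁ = 0 ∧ (∀ u, G *ᵥ pl c u = pl c₁ u) ∧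
      ((∀ a : F, c ≠ a • v) → ∀ u, ct (c₁ ᵥ* J) (G *ᵥ pl f u) = e₀ • u) := by
    intro c hc
    by_cases hcv : ∀ a : F, c ≠ a • v
    swap
    · push Not at hcv
      obtain ⟨a, rfl⟩ := hcv
      exact ⟨a • v, 0, by rw [map_smul, hJ.self, smul_zero], fun u => by rw [pl_smul_left, mulVec_smul, hGv],
        fun h => absurd rfl (h a)⟩
    have hcφ : (c ᵥ* J) ⬝ᵥ v = 0 := by rw [← fm_apply, hJ.flip v c, hc, neg_zero]
    have hK : ∀ z, ct φ z = 0 → ct φ (G *ᵥ z) = 0 := fun z hz => by rw [hGφ, hz, smul_zero]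
    set η := G * (Srt J v c ⊗ₖ (1 : Matrix μ μ F)) * G' with hη
    have hin : In M (1 + η) := by
      have h := hG1 _ (hJ.iso_srt hc)
      rwa [add_kronecker, one_kronecker_one, mul_add, mul_one, add_mul,
        show G * G' = 1 by rw [hGdef, hG'def, Units.mul_inv]] at h
    have hηz : ∀ z, η *ᵥ z = d⁻¹ • (G *ᵥ pl c (ct φ z)) + pl v (ct (c ᵥ* J) (G' *ᵥ z)) := fun z => by
      rw [hη, ← mulVec_mulVec, ← mulVec_mulVec, Srt_kron_mulVec, mulVec_add, hGv, hG'φ, map_smul, mulVec_smul]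
    obtain ⟨c', e, hc', hηe⟩ := hR v c hv hc hcv η (fun u => by
        rw [hηz, hG'v, ct_pl, ct_pl, hcφ, ← fm_apply, hJ.self]; simp)
      (fun z => by
        rw [hηz, map_add, map_smul, hK _ (by rw [ct_pl, ← fm_apply, hc, zero_smul]), smul_zero, zero_add, ct_pl,
          ← fm_apply, hJ.self, zero_smul])
      (fun z hz => ⟨ct (c ᵥ* J) (G' *ᵥ z), by rw [hηz, hz, map_zero, Matrix.mulVec_zero, smul_zero, zero_add]⟩) hin
    have hη2 : ∀ z, η *ᵥ z = pl c' (ct φ z) + pl v (ct (c' ᵥ* J) z + e • ct φ z) := fun z => by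
      rw [hηe, add_kronecker, add_mulVec, Srt_kron_mulVec, smul_kronecker, smul_mulVec, Xm, kron_vecMulVec_mulVec,
        one_mulVec, map_add, map_smul, add_assoc]
    -- the image of `c`
    let Ψ : (μ → F) →ₗ[F] (μ → F) :=
      ct (c' ᵥ* J) ∘ₗ G.mulVecLin ∘ₗ pl f + (e * d - fm J c f) • LinearMap.id
    obtain ⟨c₁, hc₁⟩ : ∃ c₁, c₁ = d • c' := ⟨_, rfl⟩
    have hGc : ∀ u, G *ᵥ pl c u = pl c₁ u + pl v (LinearMap.toMatrix' Ψ *ᵥ u) := by
      intro u
      have h1 := hη2 (G *ᵥ pl f u)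
      rw [hηz, hGdef, hG'def, GeomClasses.gl_inv_mulVec_mulVec, ← hGdef, hGφ, map_smul, mulVec_smul, smul_smul,
        inv_mul_cancel₀ hd, one_smul, ct_pl, ← fm_apply, hf, one_smul, map_smul, ct_pl, ← fm_apply] at h1
      rw [LinearMap.toMatrix'_mulVec, hc₁, pl_smul_left]
      simp only [Ψ, LinearMap.add_apply, LinearMap.smul_apply, LinearMap.id_apply, LinearMap.comp_apply,
        Matrix.mulVecLin_apply, map_add, map_smul, sub_smul, mul_smul] at h1 ⊢
      rw [eq_sub_of_add_eq h1]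
      simp only [map_sub, map_smul, smul_sub]
      module
    set P := LinearMap.toMatrix' Ψ with hP
    have hc₁v : ∀ a : F, c₁ ≠ a • v := by
      intro a ha
      obtain ⟨x₀⟩ : Nonempty μ := inferInstance
      obtain ⟨θ, hθv, hθc⟩ := exists_perp_eq_one hcv
      have h1 := hGc (Pi.single x₀ 1)
      rw [ha, pl_smul_left, ← map_smul, ← map_add] at h1
      have h2 : pl c (Pi.single x₀ 1) = pl v (a • Pi.single x₀ 1 + P *ᵥ Pi.single x₀ 1) := by
        refine GeomClasses.gl_mulVec_injective g₁ ?_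
        show G *ᵥ _ = G *ᵥ _
        rw [hGv, h1]
      have h3 := congrFun (congrArg (ct θ) h2) x₀
      rw [ct_pl, ct_pl, hθv, hθc] at h3
      simp at h3
    have hvc₁ : fm J v c₁ = 0 := by rw [hc₁, map_smul, hc', smul_zero]
    -- the second root
    obtain ⟨Ku, hKu⟩ := hS.Kunit
    set P' := ((Ku⁻¹ : GL μ F) : Matrix μ μ F) * Pᵀ * K with hP'
    have hct' : ∀ z, d • ct (c ᵥ* J) (G' *ᵥ z) = ct (c₁ ᵥ* J) z + P' *ᵥ ct φ z := by
      intro z
      refine GeomClasses.gl_mulVec_injective Ku ?_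
      show (Ku : Matrix μ μ F) *ᵥ _ = (Ku : Matrix μ μ F) *ᵥ _
      rw [hKu, mulVec_add, mulVec_mulVec _ K P']
      rw [hP', ← mul_assoc, ← mul_assoc, ← hKu, Units.mul_inv, one_mul, hKu]
      refine dotProduct_eq _ _ fun u => ?_
      rw [dotProduct_comm, mulVec_smul, dotProduct_smul, ← pair_pl, ← hpairG, hGc, hGdef, hG'def,
        GeomClasses.gl_mulVec_inv_mulVec, add_dotProduct, pair_pl, pair_pl, dotProduct_comm _ u, dotProduct_add,
        ← mulVec_mulVec _ Pᵀ K, dotProduct_mulVec u Pᵀ, vecMul_transpose]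
    set η₂ := d⁻¹ • ((vecMulVec v (c₁ ᵥ* J)) ⊗ₖ P + (vecMulVec c₁ φ) ⊗ₖ P' + (vecMulVec v φ) ⊗ₖ (P * P')) with hη₂
    have hc₁φ' : (c₁ ᵥ* J) ⬝ᵥ c₁ = 0 := hJ.alt _
    have hvc₁' : φ ⬝ᵥ c₁ = 0 := by rw [← fm_apply]; exact hvc₁
    have hc₁v' : (c₁ ᵥ* J) ⬝ᵥ v = 0 := by rw [← fm_apply, hJ.flip v c₁, hvc₁, neg_zero]
    have hvv : φ ⬝ᵥ v = 0 := hJ.alt _
    have hin₂ : In M (1 + η₂) := by
      have hX : ∀ e : F, Iso J (1 + e • Xm J c) ∧ Iso J (1 + e • Xm J c₁) := fun e => by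
        constructor <;>
        · refine iso_of_fm fun x y => ?_
          simp only [add_mulVec, one_mulVec, smul_mulVec, Xm_mulVec, map_add, map_smul, LinearMap.add_apply,
            LinearMap.smul_apply, smul_eq_mul, hJ.self]
          first
          | (rw [hJ.flip c x]; ring)
          | (rw [hJ.flip c₁ x]; ring)
      have h := (hG1 _ (hX 1).1).mul (hS.isom _ (hX (-d⁻¹)).2)
      convert h using 1
      refine Matrix.ext_of_mulVec_single fun i => ?_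
      set z : Fin m × μ → F := Pi.single i 1
      rw [one_smul, add_kronecker, one_kronecker_one, mul_add, mul_one, add_mul,
        show G * G' = 1 by rw [hGdef, hG'def, Units.mul_inv]]
      simp only [add_kronecker, one_kronecker_one, smul_kronecker, hη₂, add_mulVec, one_mulVec, smul_mulVec,
        ← mulVec_mulVec, Xm, kron_vecMulVec_mulVec, hGc]
      have hc₂ := congrArg (d⁻¹ • ·) (hct' (z + -d⁻¹ • pl c₁ (ct (c₁ ᵥ* J) z)))
      simp only [smul_smul, inv_mul_cancel₀ hd, one_smul] at hc₂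
      rw [hc₂]
      simp only [smul_add, map_add, map_smul, ct_pl, hc₁φ', hvc₁', zero_smul, smul_zero, add_zero, mulVec_add,
        mulVec_smul]
      module
    obtain ⟨c'', e₂, -, hη₂e⟩ := hR v c₁ hv hvc₁ hc₁v η₂ (fun u => by
        simp [hη₂, smul_mulVec, add_mulVec, kron_vecMulVec_mulVec, ct_pl, hc₁v', hvv, ← hφ])
      (fun z => by simp [hη₂, smul_mulVec, add_mulVec, kron_vecMulVec_mulVec, ct_pl, hvv, hvc₁', ← hφ])
      (fun z hz => ⟨d⁻¹ • (P *ᵥ ct (c₁ ᵥ* J) z), by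
        rw [← hφ] at hz
        simp [hη₂, smul_mulVec, add_mulVec, kron_vecMulVec_mulVec, hz, map_smul, ← hφ]⟩) hin₂
    obtain ⟨θ, hθv, hθc⟩ := exists_perp_eq_one hc₁v
    obtain ⟨y, hy1, hy2⟩ : ∃ y, φ ⬝ᵥ y = 1 ∧ (c₁ ᵥ* J) ⬝ᵥ y = 0 := by
      obtain ⟨w, hw1, hw2⟩ := exists_perp_eq_one (x := c₁ ᵥ* J) (y := φ) (fun a ha => hv (by
        have hw : ∀ y, fm J (v - a • c₁) y = 0 := fun y => by
          rw [map_sub, LinearMap.sub_apply, map_smul, LinearMap.smul_apply, fm_apply, fm_apply,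
            show v ᵥ* J = a • (c₁ ᵥ* J) from ha, smul_dotProduct, sub_self]
        have h0 := sub_eq_zero.1 (hJ.nondeg.1 _ hw)
        rcases eq_or_ne a 0 with rfl | ha0
        · simpa using h0
        · exact absurd (by rw [h0, smul_smul, inv_mul_cancel₀ ha0, one_smul]) (hc₁v a⁻¹)))
      exact ⟨w, by rw [dotProduct_comm]; exact hw2, by rw [dotProduct_comm]; exact hw1⟩
    have hP'u : ∀ u, P' *ᵥ u = (d * (θ ⬝ᵥ c'')) • u := fun u => by
      have h := congrArg (fun X => ct θ (X *ᵥ pl y u)) hη₂e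
      simp only [hη₂, smul_mulVec, add_mulVec, kron_vecMulVec_mulVec, add_kronecker, Srt_kron_mulVec, smul_kronecker,
        Xm, ← hφ, map_add, map_smul, ct_pl, hy1, hy2, hθv, hθc, one_smul, zero_smul, smul_zero, mulVec_zero, add_zero,
        zero_add, one_mulVec] at h
      rw [mul_smul, ← h, smul_smul, mul_inv_cancel₀ hd, one_smul]
    have hPsc : P = (d * (θ ⬝ᵥ c'')) • 1 := by
      have h1 : P' = (d * (θ ⬝ᵥ c'')) • 1 := Matrix.ext_of_mulVec_single fun x => by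
        rw [hP'u, smul_mulVec, one_mulVec]
      rw [hP', ← hKu] at h1
      have h2 := congrArg (fun X => (Ku : Matrix μ μ F) * X * ((Ku⁻¹ : GL μ F) : Matrix μ μ F)) h1
      simp only [← mul_assoc, Units.mul_inv, one_mul, mul_smul_comm, smul_mul_assoc, mul_one] at h2
      rw [mul_assoc, Units.mul_inv, mul_one] at h2
      rw [← transpose_transpose P, h2, transpose_smul, transpose_one]
    set p₀ := d * (θ ⬝ᵥ c'')
    refine ⟨c₁ + p₀ • v, d * (p₀ - (e * d - fm J c f)) + p₀ * d, ?_, fun u => ?_, fun _ u => ?_⟩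
    · rw [map_add, map_smul, hvc₁, hJ.self, smul_zero, add_zero]
    · rw [hGc, hPsc, smul_mulVec, one_mulVec, map_smul, pl_add_left, pl_smul_left]
    · have h1 : Ψ u = P *ᵥ u := (LinearMap.toMatrix'_mulVec Ψ u).symm
      rw [hPsc, smul_mulVec, one_mulVec] at h1
      simp only [Ψ, LinearMap.add_apply, LinearMap.smul_apply, LinearMap.id_apply, LinearMap.comp_apply,
        Matrix.mulVecLin_apply] at h1
      rw [add_vecMul, smul_vecMul, hc₁, smul_vecMul, ct_add, ct_smul, ct_smul, eq_sub_of_add_eq h1, hGφ, ct_pl,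
        ← fm_apply, hf, one_smul]
      module
  choose! ca ea hca hGK hea using hmid
  have hf' : fm J f v = -1 := by rw [hJ.flip v f, hf]
  have hsplit : ∀ x, fm J v (x - fm J v x • f) = 0 := fun x => by
    rw [map_sub, map_smul, hf, smul_eq_mul, mul_one, sub_self]
  -- the image of `f`
  obtain ⟨x₀⟩ : Nonempty μ := inferInstance
  set w₀ : Fin m → F := fun l => (G *ᵥ pl f (Pi.single x₀ 1)) (l, x₀) with hw₀
  let Tl : (Fin m → F) →ₗ[F] (Fin m → F) :=
    { toFun := fun x l => (G *ᵥ pl x (Pi.single x₀ 1)) (l, x₀)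
      map_add' := fun x y => by funext l; simp [pl_add_left, mulVec_add]
      map_smul' := fun a x => by funext l; simp [pl_smul_left, mulVec_smul] }
  set T := LinearMap.toMatrix' Tl
  have hT : ∀ x l, (T *ᵥ x) l = (G *ᵥ pl x (Pi.single x₀ 1)) (l, x₀) := fun x l => by
    rw [LinearMap.toMatrix'_mulVec]; rfl
  have hTK : ∀ x, fm J v x = 0 → ∀ u, G *ᵥ pl x u = pl (T *ᵥ x) u := fun x hx u => by
    have e : T *ᵥ x = ca x := funext fun l => by rw [hT, hGK x hx]; simp [pl]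
    rw [e, hGK x hx]
  have hTf : T *ᵥ f = w₀ := funext fun l => hT f l
  have hGw : ∀ w, fm J v w = 0 → ∃ a : F, ∀ u, ct (w ᵥ* J) (G *ᵥ pl f u) = a • u := by
    intro w hw
    obtain ⟨z, hz⟩ : ∃ z, G *ᵥ z = pl w (Pi.single x₀ 1) :=
      ⟨G' *ᵥ pl w (Pi.single x₀ 1), by rw [hGdef, hG'def, GeomClasses.gl_mulVec_inv_mulVec]⟩
    set c : Fin m → F := fun l => z (l, x₀)
    have hz0 : ct φ z = 0 := by
      have h := hGφ z
      rw [hz, ct_pl, ← fm_apply, hw, zero_smul] at h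
      exact (smul_eq_zero.1 h.symm).resolve_left hd
    have hcw : fm J v c = 0 := by
      rw [fm_apply]
      simpa [ct, dotProduct, c] using congrFun hz0 x₀
    obtain ⟨s, hs⟩ : ∃ s : (Fin m → F), ∀ l, T *ᵥ c = s ∧ s l = w l := by
      refine ⟨T *ᵥ c, fun l => ⟨rfl, ?_⟩⟩
      have hzz : z = ∑ k, pl (Pi.single k 1 - φ k • f) (ct (Pi.single k 1) z) := by
        simp only [CfsgLib.TensorWreathMax.pl_sub_left, pl_smul_left, Finset.sum_sub_distrib]
        rw [← eq_sum_pl z]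
        have : ∑ k, φ k • pl f (ct (Pi.single k 1) z) = pl f (ct φ z) := by
          simp only [← map_smul, ← map_sum]
          congr 1
          funext y
          simp [ct, Finset.sum_apply, Pi.single_apply]
        rw [this, hz0, map_zero, sub_zero]
      have hk : ∀ k, fm J v (Pi.single k 1 - φ k • f) = 0 := fun k => by
        rw [map_sub, map_smul, hf, fm_apply, dotProduct_single, smul_eq_mul, mul_one, sub_self]
      have h := congrFun hz (l, x₀)
      rw [hzz, mulVec_sum, Finset.sum_apply] at h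
      simp only [hTK _ (hk _)] at h
      have hT2 : T *ᵥ c = ∑ k, z (k, x₀) • (T *ᵥ (Pi.single k 1 - φ k • f)) := by
        simp only [mulVec_sub, mulVec_smul, smul_sub, Finset.sum_sub_distrib, smul_smul, ← Finset.sum_smul]
        rw [show ∑ k, z (k, x₀) * φ k = 0 by simpa [ct, mul_comm] using congrFun hz0 x₀, zero_smul, sub_zero]
        simp only [← mulVec_smul, ← mulVec_sum]
        congr 1
        funext j
        simp [c, Finset.sum_apply, Pi.single_apply]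
      rw [hT2, Finset.sum_apply]
      simp only [pl, LinearMap.coe_mk, AddHom.coe_mk, Pi.smul_apply, smul_eq_mul, Pi.single_eq_same, mul_one] at h ⊢
      refine Eq.trans (Finset.sum_congr rfl fun k _ => ?_) h
      rw [CfsgLib.TensorWreathMax.ct_single, mul_comm]
    have hTc : T *ᵥ c = w := funext fun l => by rw [(hs l).1]; exact (hs l).2
    by_cases hcv : ∀ a : F, c ≠ a • v
    · refine ⟨ea c, fun u => ?_⟩
      rw [← hTc, show T *ᵥ c = ca c from funext fun l => by rw [hT, hGK c hcw]; simp [pl]]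
      exact hea c hcw hcv u
    · push Not at hcv
      obtain ⟨a, ha⟩ := hcv
      refine ⟨a * d, fun u => ?_⟩
      rw [← hTc, ha, mulVec_smul, show T *ᵥ v = v from funext fun l => by rw [hT, hGv]; simp [pl],
        smul_vecMul, ct_smul, hGφ, ct_pl, ← fm_apply, hf, one_smul, smul_smul]
  have hTv : T *ᵥ v = v := funext fun l => by rw [hT, hGv]; simp [pl]
  let Y := LinearMap.toMatrix' (ct (-(f ᵥ* J)) ∘ₗ (G.mulVecLin ∘ₗ pl f - pl w₀))
  have hY : ∀ u, G *ᵥ pl f u = pl w₀ u + pl v (Y *ᵥ u) := by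
    intro u
    rw [← sub_eq_iff_eq_add', eq_sum_pl (G *ᵥ pl f u - pl w₀ u)]
    set ζ := G *ᵥ pl f u - pl w₀ u with hζ
    have hperp : ∀ w, fm J v w = 0 → ct (w ᵥ* J) ζ = 0 := fun w hw => by
      obtain ⟨a, ha⟩ := hGw w hw
      rw [hζ, map_sub, ha, ct_pl]
      have h1 := congrFun (ha (Pi.single x₀ 1)) x₀
      simp only [Pi.smul_apply, Pi.single_eq_same, smul_eq_mul, mul_one] at h1
      rw [show (w ᵥ* J) ⬝ᵥ w₀ = a by rw [← h1]; simp [hw₀, ct, dotProduct]]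
      exact sub_self _
    have hζY : Y *ᵥ u = ct (-(f ᵥ* J)) ζ := by
      rw [LinearMap.toMatrix'_mulVec]; rfl
    rw [hζY]
    have key : ∀ θ : Fin m → F, ct θ ζ = (θ ⬝ᵥ v) • ct (-(f ᵥ* J)) ζ := by
      intro θ
      obtain ⟨s, rfl⟩ : ∃ s, s ᵥ* J = θ := by
        obtain ⟨Ju, hJu⟩ := (Matrix.isUnit_iff_isUnit_det J).2 hJ.det.isUnit
        exact ⟨θ ᵥ* ((Ju⁻¹ : GL (Fin m) F) : Matrix (Fin m) (Fin m) F), by
          rw [vecMul_vecMul, ← hJu, Units.inv_mul, vecMul_one]⟩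
      have e : s ᵥ* J = (s - fm J v s • f) ᵥ* J + fm J v s • (f ᵥ* J) := by
        rw [sub_vecMul, smul_vecMul, sub_add_cancel]
      conv_lhs => rw [e, ct_add, hperp _ (hsplit s), zero_add, ct_smul]
      rw [← fm_apply, hJ.flip v s, show -(f ᵥ* J) = (-1 : F) • (f ᵥ* J) by simp, ct_smul, smul_smul]
      congr 1
      ring
    conv_rhs => rw [eq_sum_pl (pl v _)]
    refine Finset.sum_congr rfl fun k _ => ?_
    rw [ct_pl, key]
  have hGe : G = T ⊗ₖ 1 + Xm J v ⊗ₖ Y := ext_pl fun x u => by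
    rw [add_mulVec, kronecker_mulVec_pl, one_mulVec, Xm, kron_vecMulVec_mulVec, ct_pl, ← fm_apply, mulVec_smul,
      map_smul]
    conv_lhs => rw [← sub_add_cancel x (fm J v x • f), pl_add_left, mulVec_add, pl_smul_left, mulVec_smul,
      hTK _ (hsplit x), hY, mulVec_sub, mulVec_smul, hTf, CfsgLib.TensorWreathMax.pl_sub_left, pl_smul_left, smul_add]
    abel
  have hφT : ∀ y, fm J v (T *ᵥ y) = d * fm J v y := fun y => by
    have h := congrFun (hGφ (pl y (Pi.single x₀ 1))) x₀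
    rw [ct_pl] at h
    simp only [Pi.smul_apply, Pi.single_eq_same, smul_eq_mul, mul_one] at h
    rw [fm_apply, fm_apply, ← hφ, ← h]
    simp [ct, dotProduct, hT, mul_comm]
  obtain ⟨Ku, hKu⟩ := hS.Kunit
  obtain ⟨y₀, hy₀⟩ : ∃ y : μ → F, Pi.single x₀ 1 ⬝ᵥ K *ᵥ y = 1 :=
    ⟨((Ku⁻¹ : GL μ F) : Matrix μ μ F) *ᵥ Pi.single x₀ 1, by rw [mulVec_mulVec, ← hKu, Units.mul_inv, one_mulVec]; simp⟩
  set u₀ : μ → F := Pi.single x₀ 1
  have hTs : Tᵀ * J * T = d • J := by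
    refine sim_of_fm fun x y => ?_
    have e : ∀ x y, fm J (T *ᵥ x) (T *ᵥ y) +
        d * (fm J v x * fm J v y) * ((Y *ᵥ u₀) ⬝ᵥ K *ᵥ y₀ - u₀ ⬝ᵥ K *ᵥ (Y *ᵥ y₀)) = d * fm J x y := by
      intro x y
      have h := hpairG (pl x u₀) (pl y y₀)
      rw [hGe, add_mulVec, add_mulVec, Xm, kron_vecMulVec_mulVec, kron_vecMulVec_mulVec, kronecker_mulVec_pl,
        kronecker_mulVec_pl, one_mulVec, one_mulVec, ct_pl, ct_pl] at h
      simp only [mulVec_smul, map_smul, ← fm_apply, add_dotProduct, smul_dotProduct, mulVec_add, dotProduct_add,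
        dotProduct_smul, pair_pl, map_add, ct_pl, dotProduct_zero, zero_dotProduct, hJ.self, hφT, show fm J (T *ᵥ x) v = -(d * fm J v x) by
          rw [hJ.flip v, hφT], hy₀, smul_eq_mul, zero_smul, smul_zero, mulVec_zero, mul_zero] at h
      linear_combination h
    have hS0 : (Y *ᵥ u₀) ⬝ᵥ K *ᵥ y₀ - u₀ ⬝ᵥ K *ᵥ (Y *ᵥ y₀) = 0 := by
      have h := e f f
      rw [hJ.self, hJ.self, hf, mul_one, mul_one, mul_zero, zero_add] at h
      exact (mul_eq_zero.1 h).resolve_left hd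
    linear_combination e x y - d * (fm J v x * fm J v y) * hS0
  have hTdet : T.det ≠ 0 := by
    intro h0
    have h := congrArg Matrix.det hTs
    rw [det_mul, h0, mul_zero, det_smul] at h
    exact mul_ne_zero (pow_ne_zero _ hd) hJ.det h.symm
  let Tu : GL (Fin m) F := GeneralLinearGroup.mkOfDetNeZero T hTdet
  set Ti := ((Tu⁻¹ : GL (Fin m) F) : Matrix (Fin m) (Fin m) F)
  have hTT : T * Ti = 1 := Tu.mul_inv
  have hTT' : Ti * T = 1 := Tu.inv_mul
  set Y' := d⁻¹ • Y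
  have hXT : Xm J v * T = d • Xm J v := Matrix.ext_of_mulVec_single fun i => by
    rw [← mulVec_mulVec, smul_mulVec, Xm_mulVec, Xm_mulVec, hφT, mul_smul]
  have hGe' : G = (1 + Xm J v ⊗ₖ Y') * (T ⊗ₖ (1 : Matrix μ μ F)) := by
    rw [add_mul, one_mul, ← mul_kronecker_mul, mul_one, hXT, smul_kronecker, ← kronecker_smul, smul_smul,
      mul_inv_cancel₀ hd, one_smul]
    exact hGe
  have hG'e : G' = (Ti ⊗ₖ (1 : Matrix μ μ F)) * (1 - Xm J v ⊗ₖ Y') := by
    rw [hG'def]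
    refine Units.inv_eq_of_mul_eq_one_right ?_
    rw [← hGdef, hGe', mul_assoc, ← mul_assoc (T ⊗ₖ _), ← mul_kronecker_mul, hTT, one_mul, one_kronecker_one, one_mul,
      mul_sub, mul_one, add_mul, one_mul, ← mul_kronecker_mul, hJ.Xm_mul_self, zero_kronecker]
    abel
  obtain ⟨y, hy⟩ := hFin v hv Y' fun A hA => by
    have hTA : Iso J (Ti * A * T) := by
      have hTi : Tiᵀ * J * Ti = d⁻¹ • J := by
        rw [eq_inv_smul_iff₀ hd, ← Matrix.smul_mul, ← Matrix.mul_smul, ← hTs]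
        simp only [mul_assoc, hTT, mul_one]
        rw [← mul_assoc, ← transpose_mul, hTT, transpose_one, one_mul]
      rw [Iso, transpose_mul, transpose_mul,
        show Tᵀ * (Aᵀ * Tiᵀ) * J * (Ti * A * T) = Tᵀ * (Aᵀ * (Tiᵀ * J * Ti) * A) * T by simp only [mul_assoc], hTi,
        Matrix.mul_smul, Matrix.smul_mul, show Aᵀ * J * A = J from hA, Matrix.mul_smul, Matrix.smul_mul, hTs,
        smul_smul, inv_mul_cancel₀ hd, one_smul]
    convert hG1 _ hTA using 1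
    rw [hGe', hG'e, mul_assoc (1 + _), mul_assoc (1 + _), mul_assoc (1 + _)]
    congr 1
    rw [← mul_assoc (T ⊗ₖ _ * _), ← mul_kronecker_mul, ← mul_kronecker_mul, ← mul_assoc T, ← mul_assoc T, hTT, one_mul,
      mul_assoc A, hTT, mul_one, one_mul, one_mul]
  let T₂ := (1 + y • Xm J v) * T
  have hgG : (g : Matrix (Fin m × μ) (Fin m × μ) F) = T₂ ⊗ₖ (τ : Matrix μ μ F) := by
    have h : (g : Matrix (Fin m × μ) (Fin m × μ) F) = G * ((1 : Matrix (Fin m) (Fin m) F) ⊗ₖ (τ : Matrix μ μ F)) := by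
      rw [hGdef, hg₁, Units.val_mul, mul_assoc]
      show _ = _ * ((_ ⊗ₖ _) * _)
      rw [← mul_kronecker_mul, one_mul, Units.inv_mul, one_kronecker_one, mul_one]
    rw [h, hGe', hy, kronecker_smul, ← smul_kronecker, ← one_kronecker_one, ← add_kronecker, ← mul_kronecker_mul,
      ← mul_kronecker_mul, one_mul, mul_one, one_mul]
  have hT₂s : Sim J T₂ := by
    refine Sim.mul (Iso.sim ?_) ⟨d, hd, hTs⟩
    refine iso_of_fm fun x z => ?_
    simp only [add_mulVec, one_mulVec, smul_mulVec, Xm_mulVec, map_add, map_smul, LinearMap.add_apply,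
      LinearMap.smul_apply, smul_eq_mul, hJ.self, hJ.flip v x]
    ring
  have hdet : T₂.det ≠ 0 := by
    obtain ⟨c, hc, h⟩ := hT₂s
    intro h0
    have h' := congrArg Matrix.det h
    rw [det_mul, h0, mul_zero, det_smul] at h'
    exact mul_ne_zero (pow_ne_zero _ hc) hJ.det h'.symm
  exact ⟨GeneralLinearGroup.mkOfDetNeZero T₂ hdet, τ, hT₂s, hτs, hgG⟩

end CfsgLib.TensorSympWreath
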