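import Cfsg.Agent.Lib.TensorSympWreath.Eigen
import Cfsg.Agent.Lib.TensorSympWreath.Split
import Cfsg.Agent.Lib.PSL2.TwoTransvections

/-!
Pairs in characteristic three: the residues, the squaring step, the involution, and the splitting it gives.
-/

set_option autoImplicit false
set_option linter.unusedSectionVars false
set_option linter.unusedSimpArgs false
set_option linter.style.haveILetI false

namespace CfsgLib.TensorSympWreath

open Matrix Polynomial
open scoped Kronecker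
open CfsgLib.TensorWreathMax (In pl ct ct_pl ext_pl kronecker_mulVec_pl pl_eq_zero rank_kronecker_ge exists_perp_eq_one)

attribute [-simp] Matrix.coe_units_inv

variable {F : Type*} [Field F]

namespace SqPair

variable {ι : Type} [Fintype ι] [DecidableEq ι] {p : SqPair F ι}

/-- With three field elements the residue representation is onto, or the root squares to minus one. -/
theorem Res.π_surjective_or (R : p.Res) [Finite F] (hF : Nat.card F = 3) (h2 : (2 : F) ≠ 0) :
    Function.Surjective R.π ∨ (AdjoinRoot.root R.f : R.K) ^ 2 = -1 := by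
  classical
  haveI := R.finite
  letI := Fintype.ofFinite R.K
  letI := Fintype.ofFinite F
  set ω : R.K := AdjoinRoot.root R.f with hω
  have h2K : (2 : R.K) ≠ 0 := by
    rw [← map_ofNat (algebraMap F R.K) 2]
    exact fun h => h2 ((algebraMap F R.K).injective (h.trans (map_zero _).symm))
  obtain ⟨wv, hwv⟩ : ∃ wv : Matrix.SpecialLinearGroup (Fin 2) R.K, wv.1 = !![0, 1; -1, 0] :=
    ⟨⟨!![0, 1; -1, 0], by simp [Matrix.det_fin_two]⟩, rfl⟩
  let θ := (MulAut.conj wv).toMonoidHom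
  set G := (R.π.range).map θ
  let X : Matrix.SpecialLinearGroup (Fin 2) R.K := θ (R.π ⟨_, p.uA_mem (-1)⟩)
  let Y : Matrix.SpecialLinearGroup (Fin 2) R.K := θ (R.π ⟨_, p.uB_mem (-1)⟩)
  have hX : X.1 = !![1, 0; 1, 1] := by
    show (wv * R.π ⟨_, p.uA_mem (-1)⟩ * wv⁻¹).1 = _
    simp only [Matrix.SpecialLinearGroup.coe_mul,
      Matrix.SpecialLinearGroup.coe_inv, R.π_uA, hwv, map_neg, map_one, Matrix.adjugate_fin_two_of]
    ext i j; fin_cases i <;> fin_cases j <;> simp
  have hY : Y.1 = !![1, ω; 0, 1] := by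
    show (wv * R.π ⟨_, p.uB_mem (-1)⟩ * wv⁻¹).1 = _
    simp only [Matrix.SpecialLinearGroup.coe_mul,
      Matrix.SpecialLinearGroup.coe_inv, R.π_uB, hwv, map_neg, map_one, Matrix.adjugate_fin_two_of]
    ext i j; fin_cases i <;> fin_cases j <;> simp [ω]
  have hgen : Subfield.closure ({ω} : Set R.K) = ⊤ := by
    refine eq_top_iff.2 fun x _ => ?_
    set S := Subfield.closure ({ω} : Set R.K)
    have huniv : ({0, 1, -1} : Finset F) = Finset.univ := by
      refine Finset.eq_univ_of_card _ ?_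
      rw [← Nat.card_eq_fintype_card, hF]
      have e1 : (1 : F) ≠ -1 := fun h => h2 (by linear_combination h)
      rw [Finset.card_eq_three]
      exact ⟨0, 1, -1, zero_ne_one, fun h => one_ne_zero (neg_eq_zero.1 h.symm), e1, rfl⟩
    have hF' : ∀ c : F, algebraMap F R.K c ∈ S := fun c => by
      have hc := Finset.mem_univ c
      rw [← huniv] at hc
      simp only [Finset.mem_insert, Finset.mem_singleton] at hc
      rcases hc with rfl | rfl | rfl
      · rw [map_zero]; exact zero_mem S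
      · rw [map_one]; exact one_mem S
      · rw [map_neg, map_one]; exact neg_mem (one_mem S)
    obtain ⟨g, rfl⟩ := AdjoinRoot.mk_surjective x
    induction g using Polynomial.induction_on with
    | C a => rw [AdjoinRoot.mk_C]; exact hF' a
    | add a b ha hb => rw [map_add]; exact add_mem (ha trivial) (hb trivial)
    | monomial n a h =>
      rw [pow_succ, ← mul_assoc, map_mul, AdjoinRoot.mk_X]
      exact mul_mem (h trivial) (Subfield.subset_closure rfl)
  rcases CfsgLib.PSL2.trichotomy hX hY (G := G) ⟨_, ⟨_, rfl⟩, rfl⟩ ⟨_, ⟨_, rfl⟩, rfl⟩ h2K R.root_ne_zero hgen with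
    h | ⟨-, h, -⟩
  · refine Or.inl fun z => ?_
    obtain ⟨_, ⟨g, rfl⟩, hg⟩ := (h.ge (Subgroup.mem_top (θ z)) : θ z ∈ G)
    exact ⟨g, (MulAut.conj wv).injective hg⟩
  · exact Or.inr h

/-- If the residues are roots of a polynomial, it kills the invertible part of the central element. -/
theorem nilpotent_of_roots (Q : F[X]) (h : ∀ R : p.Res, R.f ∣ Q) : IsNilpotent (p.P (X * Q)) := by
  classical
  have hm0 := minpoly.ne_zero (Algebra.IsIntegral.isIntegral (R := F) p.C)
  have key : ∀ a : F[X], a ≠ 0 → (∀ f, Prime f → f ∣ a → f ∣ X * Q) → ∃ n, a ∣ (X * Q) ^ n := by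
    intro a
    induction a using UniqueFactorizationMonoid.induction_on_prime with
    | h₁ => exact fun h => absurd rfl h
    | h₂ x hx => exact fun _ _ => ⟨0, hx.dvd⟩
    | h₃ a f ha hf ih =>
      intro _ hall
      obtain ⟨n, hn⟩ := ih ha fun g hg hga => hall g hg (hga.mul_left f)
      exact ⟨n + 1, by rw [pow_succ']; exact mul_dvd_mul (hall f hf (dvd_mul_right f a)) hn⟩
  obtain ⟨n, r, hr⟩ := key _ hm0 fun f hf hfm => by
    by_cases hfX : f ∣ X
    · exact hfX.mul_right Q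
    obtain ⟨R, rfl⟩ := p.exists_res_of hf.irreducible hfX hfm
    exact (h R).mul_left X
  exact ⟨n, by rw [← map_pow, hr, map_mul, P, minpoly.aeval, zero_mul]⟩

theorem ev_smul (c : F) (a b c' d : F[X]) : c • p.ev a b c' d = p.ev (Polynomial.C c * a) (Polynomial.C c * b)
    (Polynomial.C c * c') (Polynomial.C c * d) := by
  rw [← p.P_ev]
  simp [P, Algebra.smul_def]

theorem ev_A' : p.A = p.ev 0 1 0 0 := by simp [ev]

theorem ev_B' : p.B = p.ev 0 0 1 0 := by simp [ev]

theorem P_eq_ev (q : F[X]) : p.P q = p.ev q 0 0 0 := by simp [ev]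

/-- The pair of the first root element and its conjugate by the second has minus the square as central element. -/
theorem square_C {p' : SqPair F ι} (hA : p'.A = p.A) (hB : p'.B = (1 + p.B) * p.A * (1 - p.B)) :
    p'.C = -(p.C * p.C) := by
  rw [C, hA, hB, ← P_X (p := p), ← map_mul, ← map_neg, P_eq_ev,
    show 1 + p.B = p.ev 1 0 1 0 by simp [ev],
    show 1 - p.B = p.ev 1 0 (-1) 0 by simp [ev, sub_eq_add_neg]]
  rw [ev_A' (p := p)]
  simp only [p.ev_mul, p.ev_add]
  congr 1 <;> ring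

/-- The interchanging element. -/
theorem wW : (1 + p.A) * (1 + p.B) * (1 + p.A) = p.ev (1 + X) (2 + X) 1 0 := by
  rw [show 1 + p.A = p.ev 1 1 0 0 by simp [ev], show 1 + p.B = p.ev 1 0 1 0 by simp [ev], p.ev_mul, p.ev_mul]
  congr 1 <;> ring

theorem weyl_C {p' : SqPair F ι} {W W' : Matrix ι ι F} (hW : W = (1 + p.A) * (1 + p.B) * (1 + p.A))
    (hW' : W' = (1 - p.A) * (1 - p.B) * (1 - p.A)) (hA : p'.A = p.A) (hB : p'.B = W * p.B * W') :
    p'.C = p.P (X * ((1 + X) * (1 + X))) := by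
  rw [C, hA, hB, hW, hW', wW, show 1 - p.A = p.ev 1 (-1) 0 0 by simp [ev, sub_eq_add_neg],
    show 1 - p.B = p.ev 1 0 (-1) 0 by simp [ev, sub_eq_add_neg], ev_A' (p := p), ev_B' (p := p), P_eq_ev]
  simp only [p.ev_mul, p.ev_add]
  congr 1 <;> ring

theorem W_sq {W : Matrix ι ι F} (hW : W = (1 + p.A) * (1 + p.B) * (1 + p.A)) :
    W * W = p.P (2 * (1 + X)) * W - 1 := by
  rw [hW, wW, p.ev_mul, p.P_ev, p.ev_sub_one]
  congr 1 <;> ring

section char_three

variable [CharP F 3] [Nonempty ι]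

/-- The involution of a pair whose central element is a root of `X (X + 1)` up to nilpotents. -/
theorem exists_involution (hN : IsNilpotent (p.C * (p.C + 1))) {W : Matrix ι ι F}
    (hW : W = (1 + p.A) * (1 + p.B) * (1 + p.A)) :
    ∃ (Q : ℕ), Odd Q ∧ p.C ^ Q * p.C ^ Q = -(p.C ^ Q) ∧ W ^ (2 * Q) = 1 - p.C ^ Q := by
  haveI : CharP (Matrix ι ι F) 3 := inferInstance
  haveI : Fact (Nat.Prime 3) := ⟨Nat.prime_three⟩
  obtain ⟨n, hn⟩ := hN
  have h0 : (p.C * (p.C + 1)) ^ 3 ^ n = 0 :=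
    pow_eq_zero_of_le (Nat.lt_pow_self (by norm_num)).le hn
  rw [(show Commute p.C (p.C + 1) from (Commute.refl p.C).add_right (Commute.one_right _)).mul_pow,
    add_pow_char_pow_of_commute (p := 3) _ (Commute.one_right _), one_pow] at h0
  set c := p.C ^ 3 ^ n with hcdef
  have hcc : c * c = -c := by rw [mul_add, mul_one] at h0; exact eq_neg_of_add_eq_zero_left h0
  have hc3 : p.C ^ 3 ^ (n + 1) = c := by
    rw [pow_succ, pow_mul, ← hcdef, pow_succ, pow_two, hcc, neg_mul, hcc, neg_neg]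
  have hsq := p.W_sq hW
  rw [map_mul, map_add, map_one, P_X, map_ofNat] at hsq
  have hCW : Commute p.C W := by
    rw [hW, wW, ← P_X (p := p)]
    exact (p.ev_P_comm X _ _ _ _).symm
  have h3 : (3 : Matrix ι ι F) = 0 := by exact_mod_cast CharP.cast_eq_zero (Matrix ι ι F) 3
  have h2 : (2 : Matrix ι ι F) = -1 := eq_neg_of_add_eq_zero_left (by rw [← h3]; norm_num)
  rw [h2] at hsq
  -- the unipotent part
  have hW1 : (W - 1) * (W - 1) = -(p.C * W) := by
    calc (W - 1) * (W - 1) = W * W - (2 : Matrix ι ι F) * W + 1 := by noncomm_ring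
      _ = -(p.C * W) := by rw [hsq, h2]; noncomm_ring
  have hWc : (1 + c) * (W ^ 3 ^ (n + 1) - 1) = 0 := by
    have h1 : (W ^ 3 ^ n - 1) * (W ^ 3 ^ n - 1) = -(c * W ^ 3 ^ n) := by
      rw [show W ^ 3 ^ n - 1 = (W - 1) ^ 3 ^ n by
        rw [sub_pow_char_pow_of_commute (p := 3) _ (Commute.one_right _), one_pow], ← pow_two, ← pow_mul,
        mul_comm, pow_mul, pow_two, hW1, Odd.neg_pow (Odd.pow (by decide)), hCW.mul_pow]
    rw [pow_succ, pow_mul, show (W ^ 3 ^ n) ^ 3 - 1 = (W ^ 3 ^ n - 1) ^ 3 by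
      rw [sub_pow_char_of_commute 3 (Commute.one_right _), one_pow], pow_succ, pow_two, h1, ← mul_assoc, mul_neg,
      ← mul_assoc, add_mul, one_mul, hcc, add_neg_cancel, zero_mul, neg_zero, zero_mul]
  refine ⟨3 ^ (n + 1), Odd.pow (by decide), by rw [hc3, hcc], ?_⟩
  rw [pow_mul, pow_two, hsq, hc3]
  have hcomm : Commute ((-1) * (1 + p.C) * W) 1 := Commute.one_right _
  rw [sub_pow_char_pow_of_commute (p := 3) _ hcomm, one_pow, mul_assoc, (Commute.neg_one_left _).mul_pow,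
    ((Commute.one_left W).add_left hCW).mul_pow, add_pow_char_pow_of_commute (p := 3) _ (Commute.one_left _), one_pow,
    hc3, Odd.neg_one_pow (Odd.pow (by decide)), mul_sub, mul_one, sub_eq_zero] at *
  rw [hWc, neg_one_mul, sub_eq_iff_eq_add]
  calc -(1 + c) = -(1 : Matrix ι ι F) - c := by abel
    _ = (2 : Matrix ι ι F) - c := by rw [h2]
    _ = 1 - c + 1 := by rw [← one_add_one_eq_two]; abel

end char_three

/-- An idempotent multiple of the central element has rank at most twice its part at a root element. -/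
theorem rank_le_two (k : ℕ) (hk : 1 ≤ k) (hcc : p.C ^ k * p.C ^ k = -(p.C ^ k)) :
    (p.C ^ k).rank ≤ 2 * (p.C ^ k * p.A).rank ∧ (p.C ^ k).rank ≤ 2 * (p.C ^ k * p.B).rank := by
  obtain ⟨j, rfl⟩ : ∃ j, k = j + 1 := ⟨k - 1, by omega⟩
  set c := p.C ^ (j + 1) with hc
  set D := p.C ^ j
  have hcA : Commute c p.A := p.commute_A.pow_left _
  have hcB : Commute c p.B := p.commute_B.pow_left _
  have hDA : Commute D p.A := p.commute_A.pow_left _
  have hDB : Commute D p.B := p.commute_B.pow_left _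
  have e : c = -(c * (p.A * p.B + p.B * p.A) * D) := by
    have h1 : c = -(c * c) := by rw [hcc, neg_neg]
    conv_lhs => rw [h1]
    conv_lhs => arg 1; arg 2; rw [hc, pow_succ', show p.C ^ j = D from rfl, C]
    rw [mul_assoc]
  constructor
  · have e2 : c = c * p.A * -(p.B * D) + -(p.B * D) * (c * p.A) := by
      conv_lhs => rw [e]
      have e3 : p.B * D * (c * p.A) = c * (p.B * p.A) * D := by
        simp only [← mul_assoc]
        rw [mul_assoc p.B D c, ((Commute.refl p.C).pow_pow j (j + 1)).eq, ← mul_assoc, ← hcB.eq, mul_assoc (c * p.B),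
          hDA.eq, ← mul_assoc]
      rw [neg_mul, e3, mul_add, add_mul, neg_add, mul_neg, ← mul_assoc c p.A p.B, ← mul_assoc (c * p.A) p.B D]
    calc c.rank = (c * p.A * -(p.B * D) + -(p.B * D) * (c * p.A)).rank := by rw [← e2]
      _ ≤ (c * p.A * -(p.B * D)).rank + (-(p.B * D) * (c * p.A)).rank := rank_add_le _ _
      _ ≤ (c * p.A).rank + (c * p.A).rank :=
        add_le_add (Matrix.rank_mul_le_left _ _) (Matrix.rank_mul_le_right _ _)
      _ = 2 * (c * p.A).rank := (two_mul _).symm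
  · have e2 : c = -(p.A * D) * (c * p.B) + c * p.B * -(p.A * D) := by
      conv_lhs => rw [e]
      have e3 : p.A * D * (c * p.B) = c * (p.A * p.B) * D := by
        simp only [← mul_assoc]
        rw [mul_assoc p.A D c, ((Commute.refl p.C).pow_pow j (j + 1)).eq, ← mul_assoc, ← hcA.eq, mul_assoc (c * p.A),
          hDB.eq, ← mul_assoc]
      rw [neg_mul, e3, mul_add, add_mul, neg_add, mul_neg, ← mul_assoc c p.B p.A, ← mul_assoc (c * p.B) p.A D]
    calc c.rank = (-(p.A * D) * (c * p.B) + c * p.B * -(p.A * D)).rank := by rw [← e2]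
      _ ≤ (-(p.A * D) * (c * p.B)).rank + (c * p.B * -(p.A * D)).rank := rank_add_le _ _
      _ ≤ (c * p.B).rank + (c * p.B).rank :=
        add_le_add (Matrix.rank_mul_le_right _ _) (Matrix.rank_mul_le_left _ _)
      _ = 2 * (c * p.B).rank := (two_mul _).symm
where
  rank_add_le (X Y : Matrix ι ι F) : (X + Y).rank ≤ X.rank + Y.rank := by
    rw [Matrix.rank, Matrix.rank, Matrix.rank, Matrix.mulVecLin_add]
    exact (Submodule.finrank_mono (LinearMap.range_add_le _ _)).trans (Submodule.finrank_add_le_finrank_add_finrank _ _)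

end SqPair

variable {m : ℕ} {μ : Type} [Fintype μ] [DecidableEq μ]

theorem kron_sub (P : Matrix (Fin m) (Fin m) F) (X Y : Matrix μ μ F) : P ⊗ₖ (X - Y) = P ⊗ₖ X - P ⊗ₖ Y := by
  ext ⟨a, x⟩ ⟨b, y⟩
  simp [mul_sub]

theorem rank_vecMulVec_kron_le (a φ : Fin m → F) (Q : Matrix μ μ F) : (vecMulVec a φ ⊗ₖ Q).rank ≤ Q.rank := by
  refine (Submodule.finrank_mono (t := (LinearMap.range Q.mulVecLin).map (pl a)) ?_).trans (Submodule.finrank_map_le _ _)
  rintro _ ⟨z, rfl⟩
  rw [Matrix.mulVecLin_apply, kron_vecMulVec_mulVec]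
  exact Submodule.mem_map_of_mem ⟨_, rfl⟩

/-- An involutive tensor commuting with a root element and moving few dimensions is a plane reflection. -/
theorem involution_split {J : Matrix (Fin m) (Fin m) F} (hJ : Alt J) (h2 : (2 : F) ≠ 0) (hm : 3 ≤ m) [Nonempty μ]
    {v : Fin m → F} (hv : v ≠ 0) {T : Matrix (Fin m) (Fin m) F} {τ : Matrix μ μ F} {d : F}
    (hTs : Tᵀ * J * T = d • J) (hI : ∀ u, ∃ u', (T ⊗ₖ τ) *ᵥ pl v u = pl v u')
    (hinv : (T ⊗ₖ τ) * (T ⊗ₖ τ) = 1) (hcomm : Commute (T ⊗ₖ τ) (Xm J v ⊗ₖ (1 : Matrix μ μ F)))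
    {e : Matrix (Fin m × μ) (Fin m × μ) F} (hT : T ⊗ₖ τ = 1 - (2 : F) • e) (he0 : e ≠ 0)
    (hrank : e.rank ≤ 2 * (e * (Xm J v ⊗ₖ (1 : Matrix μ μ F))).rank) :
    ∃ (P : Matrix (Fin m) (Fin m) F) (f : Fin m → F), fm J v f = 1 ∧ e = P ⊗ₖ 1 ∧
      ∀ x, P *ᵥ x = fm J v x • f - fm J f x • v := by
  classical
  obtain ⟨x₀⟩ := ‹Nonempty μ›
  obtain ⟨θ, hθ⟩ := CfsgLib.TensorWreathMax.exists_dot_eq_one hv
  set s := θ ⬝ᵥ (T *ᵥ v)
  have hτu : ∀ u, ∃ u', pl (T *ᵥ v) (τ *ᵥ u) = pl v u' ∧ u' = s • (τ *ᵥ u) := fun u => by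
    obtain ⟨u', hu'⟩ := hI u
    rw [kronecker_mulVec_pl] at hu'
    have h1 := congrArg (ct θ) hu'
    rw [ct_pl, ct_pl, hθ, one_smul] at h1
    exact ⟨u', hu', h1.symm⟩
  obtain ⟨u₀, hu₀⟩ : ∃ u, τ *ᵥ u ≠ 0 := by
    by_contra h
    push Not at h
    have h1 := congrArg (· *ᵥ pl v (Pi.single x₀ (1 : F))) hinv
    simp only [← mulVec_mulVec, kronecker_mulVec_pl, h, map_zero, one_mulVec] at h1
    rw [mulVec_zero] at h1
    simpa using pl_eq_zero hv h1.symm
  have hTv : T *ᵥ v = s • v := by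
    obtain ⟨u', hu', rfl⟩ := hτu u₀
    rw [map_smul, ← CfsgLib.TensorWreathMax.pl_smul_left, ← sub_eq_zero, ← CfsgLib.TensorWreathMax.pl_sub_left] at hu'
    by_contra hne
    exact hu₀ (pl_eq_zero (sub_ne_zero.2 hne) hu')
  have hs : s ≠ 0 := fun h0 => by
    obtain ⟨u', hu', rfl⟩ := hτu u₀
    have h1 := congrArg (· *ᵥ pl v u₀) hinv
    simp only [← mulVec_mulVec, kronecker_mulVec_pl, hTv, h0, zero_smul, one_mulVec, mulVec_zero] at h1
    have h2' := congrArg (ct θ) h1
    rw [ct_pl, ct_pl, hθ, one_smul, dotProduct_zero, zero_smul] at h2'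
    exact hu₀ (by rw [← h2', mulVec_zero])
  -- normalise
  set T₁ := s⁻¹ • T with hT₁
  set τ₁ := s • τ with hτ₁
  have hTT : T ⊗ₖ τ = T₁ ⊗ₖ τ₁ := by
    rw [hT₁, hτ₁, smul_kronecker, kronecker_smul, smul_smul, inv_mul_cancel₀ hs, one_smul]
  rw [hTT] at hinv hcomm hT
  clear_value T₁ τ₁
  have hT₁v : T₁ *ᵥ v = v := by rw [hT₁, smul_mulVec, hTv, inv_smul_smul₀ hs]
  have hττ : τ₁ * τ₁ = 1 := Matrix.ext_of_mulVec_single fun i => by
    have h1 := congrArg (fun X => ct θ (X *ᵥ pl v (Pi.single i 1))) hinv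
    simpa only [← mulVec_mulVec, kronecker_mulVec_pl, hT₁v, one_mulVec, ct_pl, hθ, one_smul] using h1
  have hTT1 : T₁ * T₁ = 1 := by
    have h1 := hinv
    rw [← mul_kronecker_mul, hττ, ← one_kronecker_one] at h1
    exact Matrix.ext fun a b => by
      simpa using congrFun (congrFun h1 (a, x₀)) (b, x₀)
  have hfix : ∀ x, fm J v (T₁ *ᵥ x) = fm J v x := fun x => by
    obtain ⟨u, hu⟩ : ∃ u, τ₁ *ᵥ u ≠ 0 := ⟨u₀, by rw [hτ₁, smul_mulVec]; exact smul_ne_zero hs hu₀⟩
    have h1 := congrArg (fun X => ct θ (X *ᵥ pl x u)) hcomm.eq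
    simp only [← mulVec_mulVec, kronecker_mulVec_pl, one_mulVec, Xm_mulVec, mulVec_smul, hT₁v, ct_pl,
      dotProduct_smul, hθ, smul_eq_mul, mul_one] at h1
    rw [← sub_eq_zero, ← sub_smul, smul_eq_zero, or_iff_left hu, sub_eq_zero] at h1
    exact h1.symm
  have hT₁s : ∀ x y, fm J (T₁ *ᵥ x) (T₁ *ᵥ y) = (s⁻¹ * s⁻¹ * d) * fm J x y := fun x y => by
    rw [fm, Matrix.toBilin'_apply', Matrix.toBilin'_apply', ← vecMul_transpose, ← dotProduct_mulVec, mulVec_mulVec,
      mulVec_mulVec, hT₁, transpose_smul, smul_mul_assoc, smul_mul_assoc, mul_smul_comm, hTs, smul_smul, smul_smul,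
      smul_mulVec, dotProduct_smul, smul_eq_mul]
  obtain ⟨f₀, hf₀⟩ := hJ.exists_pair hv
  set f := (2 : F)⁻¹ • (f₀ + T₁ *ᵥ f₀) with hfdef
  have hfT : T₁ *ᵥ f = f := by
    rw [hfdef, mulVec_smul, mulVec_add, mulVec_mulVec, hTT1, one_mulVec, add_comm]
  have hvf : fm J v f = 1 := by
    rw [hfdef, map_smul, map_add, hfix, hf₀, smul_eq_mul, ← two_mul, mul_one, inv_mul_cancel₀ h2]
  have hiso : ∀ x y, fm J (T₁ *ᵥ x) (T₁ *ᵥ y) = fm J x y := by
    have h1 := hT₁s v f
    rw [hT₁v, hfT, hvf, mul_one] at h1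
    exact fun x y => by rw [hT₁s, ← h1, one_mul]
  clear_value f
  clear hfdef
  -- the ranks
  set P := (2 : F)⁻¹ • (1 + T₁) with hP
  set Q := (2 : F)⁻¹ • (1 - τ₁) with hQ
  have hPT : P * T₁ = P := by rw [hP, smul_mul_assoc, add_mul, one_mul, hTT1, add_comm]
  have he : e = (2 : F)⁻¹ • (1 - T₁ ⊗ₖ τ₁) := by
    rw [hT, sub_sub_cancel, smul_smul, inv_mul_cancel₀ h2, one_smul]
  have hXe : (P ⊗ₖ (1 : Matrix μ μ F)) * e = P ⊗ₖ Q := by
    rw [he, mul_smul_comm, mul_sub, mul_one, ← mul_kronecker_mul, hPT, one_mul, hQ, kronecker_smul]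
    rw [kron_sub]
  have hea : e * (Xm J v ⊗ₖ (1 : Matrix μ μ F)) = Xm J v ⊗ₖ Q := by
    rw [he, smul_mul_assoc, sub_mul, one_mul, ← mul_kronecker_mul, mul_one,
      show T₁ * Xm J v = Xm J v from Matrix.ext_of_mulVec_single fun i => by
        rw [← mulVec_mulVec, Xm_mulVec, mulVec_smul, hT₁v], hQ, kronecker_smul]
    rw [kron_sub]
  have hQ0 : 1 ≤ Q.rank := by
    refine CfsgLib.TensorWreathMax.rank_pos fun h0 => he0 ?_
    rw [hea, h0, kronecker_zero, Matrix.rank_zero, mul_zero, Nat.le_zero, Matrix.rank, Submodule.finrank_eq_zero,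
      LinearMap.range_eq_bot] at hrank
    exact Matrix.ext_of_mulVec_single fun i => by
      rw [← Matrix.mulVecLin_apply, hrank, LinearMap.zero_apply, zero_mulVec]
  have hPv : P *ᵥ v = v := by
    rw [hP, smul_mulVec, add_mulVec, one_mulVec, hT₁v, ← two_smul F, inv_smul_smul₀ h2]
  have hPf : P *ᵥ f = f := by
    rw [hP, smul_mulVec, add_mulVec, one_mulVec, hfT, ← two_smul F, inv_smul_smul₀ h2]
  have hli : LinearIndependent F ![v, f] := by
    rw [LinearIndependent.pair_iff]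
    intro a b hab
    have h1 := congrArg (fm J v) hab
    rw [map_add, map_smul, map_smul, hJ.self, hvf, map_zero, smul_zero, zero_add, smul_eq_mul, mul_one] at h1
    subst h1
    rw [zero_smul, add_zero, smul_eq_zero, or_iff_left hv] at hab
    exact ⟨hab, rfl⟩
  have hspan : Submodule.span F (Set.range ![v, f]) ≤ LinearMap.range P.mulVecLin := by
    refine Submodule.span_le.2 ?_
    rintro _ ⟨i, rfl⟩
    fin_cases i
    · exact ⟨v, hPv⟩
    · exact ⟨f, hPf⟩
  have hPge : 2 ≤ P.rank := by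
    have := Submodule.finrank_mono hspan
    rwa [finrank_span_eq_card hli, Fintype.card_fin] at this
  have h4 : P.rank * Q.rank ≤ 2 * Q.rank ∧ (P ⊗ₖ Q).rank = e.rank := by
    have h1 : P.rank * Q.rank ≤ (P ⊗ₖ Q).rank := rank_kronecker_ge P Q
    have h2' : (P ⊗ₖ Q).rank ≤ e.rank := by rw [← hXe]; exact Matrix.rank_mul_le_right _ _
    have h3 : e.rank ≤ 2 * Q.rank := hrank.trans (by rw [hea]; exact Nat.mul_le_mul_left 2 (rank_vecMulVec_kron_le _ _ _))
    refine ⟨by omega, le_antisymm h2' ?_⟩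
    have := Nat.mul_le_mul_right Q.rank hPge
    omega
  have hP2 : P.rank = 2 := le_antisymm (Nat.le_of_mul_le_mul_right h4.1 (by omega)) hPge
  have hrange : Submodule.span F (Set.range ![v, f]) = LinearMap.range P.mulVecLin :=
    Submodule.eq_of_le_of_finrank_le hspan (by rw [finrank_span_eq_card hli, Fintype.card_fin]; exact hP2.le)
  have hTP : ∀ x, T₁ *ᵥ (P *ᵥ x) = P *ᵥ x := fun x => by
    rw [mulVec_mulVec, hP, mul_smul_comm, mul_add, mul_one, hTT1, add_comm]
  have hPx : ∀ x, P *ᵥ x = fm J v x • f - fm J f x • v := fun x => by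
    obtain ⟨α, hα⟩ := (Submodule.mem_span_range_iff_exists_fun F).1 (hrange.ge ⟨x, rfl⟩)
    simp only [Fin.sum_univ_two, Matrix.cons_val_zero, Matrix.cons_val_one, Matrix.cons_val_fin_one,
      Matrix.mulVecLin_apply] at hα
    have ha : ∀ y, T₁ *ᵥ y = y → fm J y (P *ᵥ x) = fm J y x := fun y hy => by
      rw [hP, smul_mulVec, add_mulVec, one_mulVec, map_smul, map_add]
      conv_lhs => arg 2; arg 2; rw [← hy, hiso]
      rw [← two_smul F (fm J y x), inv_smul_smul₀ h2]
    have h1 := ha v hT₁v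
    have h1' := ha f hfT
    rw [← hα, map_add, map_smul, map_smul, hJ.self, hvf] at h1
    rw [← hα, map_add, map_smul, map_smul, hJ.self, hJ.flip v f, hvf] at h1'
    simp only [smul_eq_mul, mul_zero, zero_add, add_zero, mul_one, mul_neg] at h1 h1'
    rw [← hα, h1, ← h1', neg_smul]
    abel
  refine ⟨P, f, hvf, ?_, hPx⟩
  -- the right factor is minus one
  have hTP' : T₁ * P = P := by rw [hP, mul_smul_comm, mul_add, mul_one, hTT1, add_comm]
  have hPP : P * P = P := by
    conv_lhs => arg 2; rw [hP]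
    rw [mul_smul_comm, mul_add, mul_one, hPT, ← two_smul F P, inv_smul_smul₀ h2]
  have heP : e * (P ⊗ₖ (1 : Matrix μ μ F)) = P ⊗ₖ Q := by
    rw [he, smul_mul_assoc, sub_mul, one_mul, ← mul_kronecker_mul, mul_one, hTP', hQ, kronecker_smul]
    rw [kron_sub]
  have hinj : ∀ z, (P ⊗ₖ (1 : Matrix μ μ F)) *ᵥ (e *ᵥ z) = 0 → e *ᵥ z = 0 := fun z hz => by
    set L := (P ⊗ₖ (1 : Matrix μ μ F)).mulVecLin.domRestrict (LinearMap.range e.mulVecLin)
    have hL : LinearMap.ker L = ⊥ := by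
      have h1 := LinearMap.finrank_range_add_finrank_ker L
      have h2' : LinearMap.range L = LinearMap.range (P ⊗ₖ Q).mulVecLin := by
        rw [LinearMap.range_domRestrict, ← LinearMap.range_comp, ← Matrix.mulVecLin_mul, hXe]
      rw [h2'] at h1
      have h5 : Module.finrank F (LinearMap.range (P ⊗ₖ Q).mulVecLin) = Module.finrank F (LinearMap.range e.mulVecLin) := h4.2
      exact Submodule.finrank_eq_zero.1 (by omega)
    exact congrArg Subtype.val (LinearMap.ker_eq_bot'.1 hL ⟨_, z, rfl⟩ hz)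
  have he2 : e = P ⊗ₖ Q := by
    rw [← heP]
    refine Matrix.ext_of_mulVec_single fun i => ?_
    rw [← sub_eq_zero, ← sub_mulVec, show e - e * (P ⊗ₖ (1 : Matrix μ μ F)) = e * (1 - P ⊗ₖ 1) by rw [mul_sub, mul_one],
      ← mulVec_mulVec]
    refine hinj _ ?_
    rw [mulVec_mulVec, hXe, mulVec_mulVec, mul_sub, mul_one, ← mul_kronecker_mul, hPP, mul_one, sub_self, zero_mulVec]
  obtain ⟨y, hy, hPy⟩ : ∃ y, y ≠ 0 ∧ P *ᵥ y = 0 := by
    by_contra h
    push Not at h
    have h1 : P.rank = m := by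
      have hk : LinearMap.ker P.mulVecLin = ⊥ := LinearMap.ker_eq_bot'.2 fun z hz => by_contra fun hne => h z hne hz
      rw [Matrix.rank, LinearMap.finrank_range_of_inj (LinearMap.ker_eq_bot.1 hk), Module.finrank_fintype_fun_eq_card,
        Fintype.card_fin]
    omega
  have hTy : T₁ *ᵥ y = -y := by
    have h1 := hPy
    rw [hP, smul_mulVec, add_mulVec, one_mulVec, smul_eq_zero, or_iff_right (inv_ne_zero h2)] at h1
    exact eq_neg_of_add_eq_zero_right h1
  have hτ : τ₁ = -1 := Matrix.ext_of_mulVec_single fun i => by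
    have h1 := congrArg (· *ᵥ pl y (Pi.single i (1 : F))) (he.symm.trans he2)
    simp only [smul_mulVec, sub_mulVec, one_mulVec, kronecker_mulVec_pl, hPy, hTy] at h1
    have e0 : pl (μ := μ) (0 : Fin m → F) (Q *ᵥ Pi.single i 1) = 0 := by ext; simp [pl]
    have e1 : pl (-y) (τ₁ *ᵥ Pi.single i 1) = -pl y (τ₁ *ᵥ Pi.single i 1) := by ext; simp [pl]
    rw [e0, e1, sub_neg_eq_add, smul_eq_zero, or_iff_right (inv_ne_zero h2), ← map_add] at h1
    rw [neg_mulVec, one_mulVec]
    exact eq_neg_of_add_eq_zero_right (pl_eq_zero hy h1)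
  rw [he2, hQ, hτ, sub_neg_eq_add, ← two_smul F (1 : Matrix μ μ F), inv_smul_smul₀ h2]

end CfsgLib.TensorSympWreath
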