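import Cfsg.Agent.Lib.TensorSympWreath.Core
import Cfsg.Agent.Lib.TensorSympWreath.Three
import Cfsg.Agent.Lib.TensorSympWreath.PairSplit

/-!
A group of isometries of a tensor power containing the slot transvections with only scalar coefficients is
monomial, for three field elements and factors of dimension at least three.
-/

set_option autoImplicit false
set_option linter.unusedSectionVars false
set_option linter.unusedSimpArgs false
set_option linter.style.haveILetI false

namespace CfsgLib.TensorSympWreath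

open Matrix Polynomial
open scoped Kronecker
open CfsgLib.Maximal.TensorPower
open CfsgLib.TensorWreathMax (Idx split rx In Ms in_ms_rx rx_slot_same rx_slot_succAbove tvec rx_mulVec_tvec pl ct
  ct_pl kronecker_mulVec_pl pl_eq_zero)

attribute [-simp] Matrix.coe_units_inv

variable {F : Type*} [Field F] [Finite F] {m t : ℕ}

/-- The pair of a slot transvection and its conjugate by an element. -/
def slotPair {J : Matrix (Fin m) (Fin m) F} (hJ : Alt J) (i : Fin (t + 1)) (v : Fin m → F)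
    (g : GL (Idx m (t + 1)) F) : SqPair F (Idx m (t + 1)) :=
  ⟨slot i (Xm J v), (g : Matrix (Idx m (t + 1)) (Idx m (t + 1)) F) * slot i (Xm J v) *
      ((g⁻¹ : GL (Idx m (t + 1)) F) : Matrix _ _ F), by rw [slot_mul, hJ.Xm_mul_self, map_zero], by
    simp only [mul_assoc, Units.inv_mul_cancel_left]
    rw [← mul_assoc (slot i (Xm J v)) (slot i (Xm J v)), slot_mul, hJ.Xm_mul_self, map_zero, zero_mul, mul_zero]⟩

namespace Step

variable {J : Matrix (Fin m) (Fin m) F} {M : Subgroup (GL (Idx m (t + 1)) F)} {q : ℕ}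
  (hS : Step J M q) {i : Fin (t + 1)} {v : Fin m → F}
include hS

theorem pair_le {g : GL (Idx m (t + 1)) F} (hg : g ∈ M) : (slotPair hS.alt i v g).Gp ≤ M := by
  refine SqPair.Gp.le (fun c => ?_) fun c => ?_
  · obtain ⟨z, hz, he⟩ := hS.setting.root i v c
    rwa [show (slotPair hS.alt i v g).uA c = z from Units.ext (by rw [he]; rfl)]
  · obtain ⟨z, hz, he⟩ := Conj.of_mem hS.setting hg i v c
    rwa [show (slotPair hS.alt i v g).uB c = z from Units.ext (by rw [he]; rfl)]

/-- Residues of pairs have fourth power one. -/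
theorem root_quartic (hF : Nat.card F = 3) (hv : v ≠ 0) {g : GL (Idx m (t + 1)) F} (hg : g ∈ M)
    (R : (slotPair hS.alt i v g).Res) : R.f ∣ X ^ 4 - 1 := by
  rw [← AdjoinRoot.mk_eq_zero, map_sub, map_pow, map_one, AdjoinRoot.mk_X, sub_eq_zero]
  have h1 : (AdjoinRoot.root R.f : R.K) ^ 2 = 1 ∨ (AdjoinRoot.root R.f : R.K) ^ 2 = -1 := by
    rcases R.π_surjective_or hF hS.two with h | h
    · obtain ⟨-, l, hl, -⟩ := hS.scaled hv hg rfl rfl R h R.root_ne_zero
      have hl0 : l ≠ 0 := fun h0 => by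
        rw [h0, map_zero] at hl
        exact R.root_ne_zero (pow_eq_zero_iff (by norm_num) |>.1 hl)
      have hl3 : l ^ 2 = 1 := by
        letI := Fintype.ofFinite F
        have := FiniteField.pow_card_sub_one_eq_one l hl0
        rwa [← Nat.card_eq_fintype_card, hF] at this
      rcases sq_eq_one_iff.1 hl3 with rfl | rfl
      · exact Or.inl (by rw [hl, map_one])
      · exact Or.inr (by rw [hl, map_neg, map_one])
    · exact Or.inr h
  rw [show (4 : ℕ) = 2 * 2 from rfl, pow_mul]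
  rcases h1 with h | h <;> rw [h] <;> norm_num

/-- The conjugate of a non-monomial element. -/
theorem square_step (hv : v ≠ 0) {g : GL (Idx m (t + 1)) F} (hg : g ∈ M) (hgm : ¬ IsMonomial g) :
    ∃ y ∈ M, ¬ IsMonomial y ∧ (slotPair hS.alt i v y).C = -((slotPair hS.alt i v g).C * (slotPair hS.alt i v g).C) := by
  set p := slotPair hS.alt i v g
  refine ⟨p.uB 1, hS.pair_le hg (p.uB_mem 1), fun h => hgm ?_, SqPair.square_C rfl ?_⟩
  · exact (hS.monomial_conj (i := i) hg hv h (by show 1 + (1 : F) • p.B = _; rw [one_smul]; rfl)).1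
  · show (1 + (1 : F) • p.B) * slot i (Xm J v) * (1 - (1 : F) • p.B) = _
    rw [one_smul]; rfl

/-- A non-monomial element gives one whose pair has only the value minus one. -/
theorem exists_good (hF : Nat.card F = 3) (hv : v ≠ 0) {g : GL (Idx m (t + 1)) F} (hg : g ∈ M) (hgm : ¬ IsMonomial g) :
    ∃ y ∈ M, ¬ IsMonomial y ∧ IsNilpotent ((slotPair hS.alt i v y).C * ((slotPair hS.alt i v y).C + 1)) := by
  have h0 := SqPair.nilpotent_of_roots (p := slotPair hS.alt i v g) (X ^ 4 - 1) fun R => hS.root_quartic hF hv hg R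
  rw [map_mul, SqPair.P_X, map_sub, map_pow, map_one, SqPair.P_X] at h0
  obtain ⟨y, hy, hym, hyC⟩ := hS.square_step hv hg hgm
  obtain ⟨z, hz, hzm, hzC⟩ := hS.square_step hv hy hym
  refine ⟨z, hz, hzm, ?_⟩
  rw [hzC, hyC]
  generalize (slotPair hS.alt i v g).C = C at h0 ⊢
  have h1 := Commute.isNilpotent_mul_left (x := C ^ 3)
    (show Commute (C ^ 3) (C * (C ^ 4 - 1)) from ((Commute.refl C).pow_left 3).mul_right
      (((Commute.pow_pow (Commute.refl C) 3 4)).sub_right (Commute.one_right _))) h0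
  have e : -(-(C * C) * -(C * C)) * (-(-(C * C) * -(C * C)) + 1) = C ^ 3 * (C * (C ^ 4 - 1)) := by
    simp only [neg_mul, mul_neg, neg_neg, pow_succ, pow_zero, one_mul, mul_assoc, mul_add, mul_sub, mul_one, neg_add_eq_sub]
    abel
  rw [e]
  exact h1

set_option maxHeartbeats 800000 in
/-- All elements of the group are monomial. -/
theorem all_monomial_three (hF : Nat.card F = 3) (hm3 : 3 ≤ m) {g₀ : GL (Idx m (t + 1)) F} (hg₀ : g₀ ∈ M) :
    IsMonomial g₀ := by
  classical
  haveI := Fact.mk hS.prime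
  haveI := hS.char
  obtain rfl : q = 3 := by
    letI := Fintype.ofFinite F
    obtain ⟨n, hp, hn⟩ := FiniteField.card F q
    rw [← Nat.card_eq_fintype_card, hF] at hn
    exact (Nat.prime_dvd_prime_iff_eq hp Nat.prime_three).1 (hn ▸ dvd_pow_self q n.ne_zero)
  haveI : NeZero m := ⟨by omega⟩
  haveI : Nonempty (Idx m (t + 1)) := ⟨0⟩
  by_contra hgm₀
  have hJ := hS.alt
  let i : Fin (t + 1) := 0
  let v : Fin m → F := Pi.single 0 1
  have hv : v ≠ 0 := by simp [v]
  obtain ⟨g, hg, hgm, hN⟩ := hS.exists_good (i := i) hF hv hg₀ hgm₀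
  obtain ⟨p, hpA, hpB, hp, hN⟩ : ∃ p : SqPair F (Idx m (t + 1)), p.A = slot i (Xm J v) ∧
      p.B = (g : Matrix (Idx m (t + 1)) (Idx m (t + 1)) F) * slot i (Xm J v) *
        ((g⁻¹ : GL (Idx m (t + 1)) F) : Matrix _ _ F) ∧ p.Gp ≤ M ∧ IsNilpotent (p.C * (p.C + 1)) :=
    ⟨slotPair hJ i v g, rfl, rfl, hS.pair_le hg, hN⟩
  have hC : ¬ IsNilpotent p.C := fun hC => by
    have hPg : IsPGroup 3 p.Gp := fun x => by
      obtain ⟨k, hk⟩ := pow_eq_one_of_nilpotent (q := 3) ((SqPair.Gp.exp x.2).nilpotent p hC)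
      exact ⟨k, Subtype.ext hk⟩
    exact hgm (hS.monomial_conj hg hv (hS.pGroup_monomial hPg hp hv (p.uA_mem 1)
      (show 1 + (1 : F) • p.A = _ by rw [one_smul, hpA]) (p.uB_mem 1))
      (show 1 + (1 : F) • p.B = _ by rw [one_smul, hpB])).1
  obtain ⟨R⟩ := p.exists_res hC
  have hroot : (AdjoinRoot.root R.f : R.K) = -1 := by
    obtain ⟨n, hn⟩ := hN
    have h1 : p.P ((X * (X + 1)) ^ n) *ᵥ R.u = 0 := by
      rw [map_pow, map_mul, map_add, map_one, SqPair.P_X, hn, zero_mulVec]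
    have h2 := (R.irr.prime.dvd_of_dvd_pow (R.ann h1))
    have h3 : R.res (X + 1) = 0 := AdjoinRoot.mk_eq_zero.2 ((R.irr.prime.dvd_or_dvd h2).resolve_left R.notX)
    rw [map_add, map_one, AdjoinRoot.mk_X] at h3
    exact eq_neg_of_add_eq_zero_left h3
  -- the element interchanging the root groups
  obtain ⟨w, hwdef⟩ : ∃ w : p.Gp, w = ⟨_, p.uA_mem 1⟩ * ⟨_, p.uB_mem 1⟩ * ⟨_, p.uA_mem 1⟩ := ⟨_, rfl⟩
  set W := ((w : GL (Idx m (t + 1)) F) : Matrix (Idx m (t + 1)) (Idx m (t + 1)) F) with hW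
  set W' := (((w : GL (Idx m (t + 1)) F)⁻¹ : GL (Idx m (t + 1)) F) : Matrix (Idx m (t + 1)) (Idx m (t + 1)) F) with hW'
  have hWe : W = (1 + p.A) * (1 + p.B) * (1 + p.A) := by
    rw [hW, hwdef]
    show (1 + (1 : F) • p.A) * (1 + (1 : F) • p.B) * (1 + (1 : F) • p.A) = _
    rw [one_smul, one_smul]
  have hW'e : W' = (1 - p.A) * (1 - p.B) * (1 - p.A) := by
    rw [hW', hwdef]
    show (1 - (1 : F) • p.A) * ((1 - (1 : F) • p.B) * (1 - (1 : F) • p.A)) = _
    rw [one_smul, one_smul, mul_assoc]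
  set g' := (w : GL (Idx m (t + 1)) F) * g with hg'
  have hY : (g' : Matrix (Idx m (t + 1)) (Idx m (t + 1)) F) * p.A * ((g'⁻¹ : GL (Idx m (t + 1)) F) : Matrix _ _ F) =
      W * p.B * W' := by
    rw [hg', Units.val_mul, _root_.mul_inv_rev, Units.val_mul, hW, hW',
      hpB, hpA]
    simp only [mul_assoc]
  obtain ⟨p', hp'A, hp'B⟩ : ∃ p' : SqPair F (Idx m (t + 1)), p'.A = p.A ∧ p'.B = W * p.B * W' :=
    ⟨⟨p.A, W * p.B * W', p.hA, by
      simp only [hW, hW', mul_assoc, Units.inv_mul_cancel_left]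
      rw [← mul_assoc p.B p.B, p.hB, zero_mul, mul_zero]⟩, rfl, rfl⟩
  have hC' : IsNilpotent p'.C := by
    rw [SqPair.weyl_C hWe hW'e hp'A hp'B, map_mul, map_mul, map_add, map_one, SqPair.P_X, ← mul_assoc, add_comm (1 : Matrix _ _ F)]
    exact Commute.isNilpotent_mul_right (((Commute.refl p.C).add_right (Commute.one_right p.C)).mul_left
      (Commute.refl _)) hN
  have hwc : ∀ c : F, (((w * ⟨_, p.uB_mem c⟩ * w⁻¹ : p.Gp) : GL (Idx m (t + 1)) F) :
      Matrix (Idx m (t + 1)) (Idx m (t + 1)) F) = 1 + c • (W * p.B * W') := fun c => by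
    simp only [Subgroup.coe_mul, Subgroup.coe_inv, Units.val_mul]
    show W * (1 + c • p.B) * W' = _
    rw [mul_add, mul_one, add_mul, hW, hW', Units.mul_inv, mul_smul_comm, smul_mul_assoc]
  have hp'le : p'.Gp ≤ p.Gp := by
    refine SqPair.Gp.le (fun c => ?_) fun c => ?_
    · rw [SqPair.uA_congr hp'A c]; exact p.uA_mem c
    · rw [← SqPair.eq_uB (p := p') (g := ((w * ⟨_, p.uB_mem c⟩ * w⁻¹ : p.Gp) : GL (Idx m (t + 1)) F)) (c := c)
        (by rw [hp'B]; exact hwc c)]
      exact Subtype.mem _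
  have hPg : IsPGroup 3 p'.Gp := fun x => by
    obtain ⟨k, hk⟩ := pow_eq_one_of_nilpotent (q := 3) ((SqPair.Gp.exp x.2).nilpotent p' hC')
    exact ⟨k, Subtype.ext hk⟩
  have hπw : (R.π (w * ⟨_, p.uB_mem 1⟩ * w⁻¹)).1 0 1 ≠ 0 := by
    simp only [hwdef, map_mul, map_inv, Matrix.SpecialLinearGroup.coe_mul, Matrix.SpecialLinearGroup.coe_inv, R.π_uA,
      R.π_uB, map_one, hroot, one_mul, Matrix.mul_fin_two, Matrix.adjugate_fin_two_of]
    simp
  have hA1 : p.uA 1 ∈ p'.Gp := SqPair.uA_congr (p' := p') hp'A.symm 1 ▸ p'.uA_mem 1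
  have hy : ((w * ⟨_, p.uB_mem 1⟩ * w⁻¹ : p.Gp) : GL (Idx m (t + 1)) F) ∈ p'.Gp :=
    (SqPair.eq_uB (p := p') (c := 1) (by rw [hp'B]; exact hwc 1)) ▸ p'.uB_mem 1
  have hyk : (((w * ⟨_, p.uB_mem 1⟩ * w⁻¹ : p.Gp) : GL (Idx m (t + 1)) F) : Matrix (Idx m (t + 1)) (Idx m (t + 1)) F) =
      1 + (g' : Matrix (Idx m (t + 1)) (Idx m (t + 1)) F) * p.A * ((g'⁻¹ : GL (Idx m (t + 1)) F) : Matrix _ _ F) := by
    rw [hwc, one_smul, hY]
  have hg'M : g' ∈ M := M.mul_mem (hp w.2) hg
  have hp'M : p'.Gp ≤ M := hp'le.trans hp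
  obtain ⟨l, hl⟩ := @same_line _ _ _ _ _ J M 3 hS i v hv p hpA hp R p'.Gp hPg hp'M hA1 _ hy g' hg'M hyk hπw
  rw [hY] at hl
  have hWB : W * p.B = l • (p.A * W) := by
    have h1 := congrArg (· * W) hl
    simpa only [smul_mul_assoc, mul_assoc, hW, hW', Units.inv_mul, mul_one] using h1
  have hCC : p.C * (p.C + 1) * p.A = 0 := by
    have h1 := SqPair.weyl (r := (1 : F)) (by rw [hWe, one_smul]) hWB
    rwa [map_mul, map_add, map_one, map_mul, SqPair.P_X, Polynomial.C_1, map_one, one_mul, add_comm (1 : Matrix (Idx m (t + 1)) (Idx m (t + 1)) F)] at h1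
  -- the involution
  obtain ⟨Q, hQ, hcc, hWQ⟩ := SqPair.exists_involution hN hWe
  set c := p.C ^ Q with hc
  have hcA : c * p.A = p.C * p.A := by
    have hstep : p.C * (p.C * p.A) = -(p.C * p.A) := by
      rw [mul_add, mul_one, add_mul, mul_assoc] at hCC
      exact eq_neg_of_add_eq_zero_left hCC
    obtain ⟨j, rfl⟩ := hQ
    rw [hc]
    clear * - hstep
    induction j with
    | zero => rw [mul_zero, zero_add, pow_one]
    | succ j ih =>
      rw [show 2 * (j + 1) + 1 = 2 + (2 * j + 1) by ring, pow_add, mul_assoc, ih, pow_two, mul_assoc, hstep, mul_neg,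
        hstep, neg_neg]
  have hQ1 : 1 ≤ Q := by obtain ⟨j, rfl⟩ := hQ; omega
  obtain ⟨hrA, hrB⟩ := SqPair.rank_le_two (p := p) Q hQ1 (by rw [← hc, hcc])
  rw [← hc] at hrA hrB
  -- at the splitting
  set k := (w : GL (Idx m (t + 1)) F) ^ (2 * Q) with hk
  have hkM : k ∈ M := M.pow_mem (hp w.2) _
  have hkv0 : (k : Matrix (Idx m (t + 1)) (Idx m (t + 1)) F) = 1 - c := by
    rw [hk, Units.val_pow_eq_pow_val, ← hW, hWQ]
  set ks := Cfsg.Geo.glReindex (F := F) (split i) k with hks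
  have hksv : (ks : Matrix _ _ F) = rx i (k : Matrix (Idx m (t + 1)) (Idx m (t + 1)) F) := rfl
  have hksi : ((ks⁻¹ : GL (Fin m × Idx m t) F) : Matrix _ _ F) =
      rx i ((k⁻¹ : GL (Idx m (t + 1)) F) : Matrix (Idx m (t + 1)) (Idx m (t + 1)) F) := rfl
  have hSS := hS.setting.sset hJ hS.scal i
  have hFin := hS.fin t M hS.one_le hS.setting hS.scal i
  obtain ⟨f₀, hf₀⟩ := hJ.exists_pair hv
  have hA : rx i p.A = Xm J v ⊗ₖ (1 : Matrix (Idx m t) (Idx m t) F) := hpA ▸ rx_slot_same i _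
  have hXz : ∀ z, rx i p.A *ᵥ z = pl v (ct (v ᵥ* J) z) := fun z => by
    rw [hA, Xm, kron_vecMulVec_mulVec, one_mulVec]
  have hkA : Commute (k : Matrix (Idx m (t + 1)) (Idx m (t + 1)) F) p.A := by
    rw [hkv0]; exact (Commute.one_left _).sub_left (p.commute_A.pow_left Q)
  have hkv : ∀ u, ∃ u', (ks : Matrix (Fin m × Idx m t) (Fin m × Idx m t) F) *ᵥ pl v u = pl v u' := fun u => by
    refine ⟨ct (v ᵥ* J) ((ks : Matrix (Fin m × Idx m t) (Fin m × Idx m t) F) *ᵥ pl f₀ u), ?_⟩
    rw [← hXz, show pl v u = rx i p.A *ᵥ pl f₀ u by rw [hXz, ct_pl, ← fm_apply, hf₀, one_smul], hksv, mulVec_mulVec,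
      mulVec_mulVec, ← map_mul, ← map_mul, hkA.eq]
  obtain ⟨T, τ, hTs, -, hTτ⟩ := centre_stab hJ hSS (hS.rad t M hS.one_le hS.setting hS.scal i) hFin
    (Iso.sim (hSS.iso ks (by
      show Cfsg.Geo.glReindex (F := F) (split i).symm (Cfsg.Geo.glReindex (F := F) (split i) k) ∈ M
      convert hkM
      ext x y
      simp [Cfsg.Geo.glReindex])))
    (fun B hB => by
      have h1 := in_ms_rx (i := i).2 ((Conj.of_mem hS.setting hkM).slot_iso hJ hS.setting
        (hS.setting.iso k hkM).sim hB i)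
      rwa [map_mul, map_mul, rx_slot_same, ← hksv, ← hksi] at h1) hv hkv
  obtain ⟨d, -, hTs⟩ := hTs
  rw [hksv, hkv0] at hTτ
  have h3 : (3 : F) = 0 := by exact_mod_cast CharP.cast_eq_zero F 3
  have hc2 : (1 - c) * (1 - c) = 1 := by
    rw [mul_sub, mul_one, sub_mul, one_mul, hcc]
    have : (3 : F) • c = 0 := by rw [h3, zero_smul]
    linear_combination (norm := module) -this
  have he : rx i (1 - c) = 1 - (2 : F) • rx i (-c) := by
    have : (3 : F) • rx i c = 0 := by rw [h3, zero_smul]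
    rw [map_sub, map_one, map_neg]
    linear_combination (norm := module) -this
  have hc0 : c ≠ 0 := fun h0 => hC ⟨Q, h0⟩
  obtain ⟨P, f, hvf, heP, hPx⟩ := involution_split hJ hS.two hm3 hv hTs
    (fun u => by
      obtain ⟨u', hu'⟩ := hkv u
      exact ⟨u', by rw [← hTτ, ← hkv0, ← hksv]; exact hu'⟩)
    (by rw [← hTτ, ← map_mul, hc2, map_one])
    (by rw [← hTτ, ← hA]; exact (show Commute (1 - c) p.A from hkv0 ▸ hkA).map (rx i))
    (hTτ.symm.trans he) (fun h0 => hc0 (neg_eq_zero.1 ((rx i).injective (h0.trans (map_zero _).symm))))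
    (by
      rw [← hA, ← map_mul, CfsgLib.TensorWreathMax.rank_rx, CfsgLib.TensorWreathMax.rank_rx, neg_mul,
        rank_neg', rank_neg']
      exact hrA)
  -- the parts agree
  have heA : c * p.A = -p.A := by
    refine (rx i).injective ?_
    have h1 : P * Xm J v = Xm J v := Matrix.ext_of_mulVec_single fun l => by
      rw [← mulVec_mulVec, Xm_mulVec, mulVec_smul, hPx, hJ.self, hJ.flip v f, hvf]; simp
    rw [← neg_neg c, neg_mul, map_neg, map_neg, map_mul, heP, hA, ← mul_kronecker_mul, one_mul, h1]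
  have hCA : p.C * p.A = -p.A := hcA ▸ heA
  have hP2 : 2 ≤ P.rank := by
    have hli : LinearIndependent F ![v, f] := by
      rw [LinearIndependent.pair_iff]
      intro a b hab
      have h1 := congrArg (fm J v) hab
      rw [map_add, map_smul, map_smul, hJ.self, hvf, map_zero, smul_zero, zero_add, smul_eq_mul, mul_one] at h1
      subst h1
      rw [zero_smul, add_zero, smul_eq_zero, or_iff_left hv] at hab
      exact ⟨hab, rfl⟩
    have hle : Submodule.span F (Set.range ![v, f]) ≤ LinearMap.range P.mulVecLin := by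
      refine Submodule.span_le.2 ?_
      rintro _ ⟨l, rfl⟩
      fin_cases l
      · exact ⟨v, by simp [hPx, hJ.self, hJ.flip v f, hvf]⟩
      · exact ⟨f, by simp [hPx, hJ.self, hvf]⟩
    have := Submodule.finrank_mono hle
    rwa [finrank_span_eq_card hli, Fintype.card_fin] at this
  -- the second part
  have hcB : Commute c p.B := p.commute_B.pow_left Q
  have hBrank : p.B.rank = m ^ t := by
    rw [hpB, CfsgLib.TensorWreathMax.rank_conj, rank_root hJ hv]
  have hinj : ∀ z, c *ᵥ (p.B *ᵥ z) = 0 → p.B *ᵥ z = 0 := by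
    have hrc : 2 * m ^ t ≤ c.rank := by
      have h1 := CfsgLib.TensorWreathMax.rank_kronecker_ge P (1 : Matrix (Idx m t) (Idx m t) F)
      rw [← heP, CfsgLib.TensorWreathMax.rank_rx, rank_neg', Matrix.rank_one] at h1
      simp only [Fintype.card_fun, Fintype.card_fin] at h1
      exact (Nat.mul_le_mul_right _ hP2).trans h1
    intro z hz
    set L := c.mulVecLin.domRestrict (LinearMap.range p.B.mulVecLin)
    have hL : LinearMap.ker L = ⊥ := by
      have h1 := LinearMap.finrank_range_add_finrank_ker L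
      have h2' : LinearMap.range L = LinearMap.range (c * p.B).mulVecLin := by
        rw [LinearMap.range_domRestrict, ← LinearMap.range_comp, ← Matrix.mulVecLin_mul]
      rw [h2'] at h1
      have h4 : Module.finrank F (LinearMap.range (c * p.B).mulVecLin) = (c * p.B).rank := rfl
      have h5 : Module.finrank F (LinearMap.range p.B.mulVecLin) = p.B.rank := rfl
      exact Submodule.finrank_eq_zero.1 (by omega)
    exact congrArg Subtype.val (LinearMap.ker_eq_bot'.1 hL ⟨_, z, rfl⟩ hz)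
  have heB : c * p.B = -p.B := by
    refine Matrix.ext_of_mulVec_single fun l => ?_
    have h1 : p.B *ᵥ ((1 + c) *ᵥ Pi.single l 1) = 0 := hinj _ (by
      rw [mulVec_mulVec, mulVec_mulVec, hcB.eq, mul_assoc, mul_add, mul_one, hcc, add_neg_cancel, mul_zero, zero_mulVec])
    rw [mulVec_mulVec, mul_add, mul_one, ← hcB.eq, add_mulVec] at h1
    rw [neg_mulVec]
    exact eq_neg_of_add_eq_zero_right h1
  have hcC : c = p.C := by
    have h1 : c * p.C = -p.C := by
      rw [SqPair.C, mul_add, ← mul_assoc, ← mul_assoc, heA, heB, neg_mul, neg_mul, ← neg_add]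
    have h2 : p.C * p.C = -p.C := by
      conv_lhs => arg 2; rw [SqPair.C]
      have hCB : p.C * p.B = -p.B := by
        have h2 : (p.C + 1) * (p.C * p.B) = 0 := by
          rw [← p.BAB, ← mul_assoc, ← mul_assoc, ((p.commute_B).add_left (Commute.one_left _)).eq, mul_assoc p.B,
            add_mul, one_mul, hCA, neg_add_cancel, mul_zero, zero_mul]
        have h3' : (p.C + 1) * (c * p.B) = 0 := by
          obtain ⟨j, hj⟩ : ∃ j, Q = j + 1 := ⟨Q - 1, by omega⟩
          rw [hc, hj, pow_succ, mul_assoc (p.C ^ j), ← mul_assoc (p.C + 1),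
            (((Commute.refl p.C).add_left (Commute.one_left _)).pow_right j).eq, mul_assoc, h2, mul_zero]
        rw [heB, mul_neg, neg_eq_zero, add_mul, one_mul] at h3'
        exact eq_neg_of_add_eq_zero_left h3'
      rw [mul_add, ← mul_assoc, ← mul_assoc, hCA, hCB, neg_mul, neg_mul, ← neg_add]
      rfl
    obtain ⟨j, rfl⟩ := hQ
    rw [hc]
    clear * - h2
    induction j with
    | zero => rw [mul_zero, zero_add, pow_one]
    | succ j ih => rw [show 2 * (j + 1) + 1 = 2 + (2 * j + 1) by ring, pow_add, ih, pow_two, h2, neg_mul, h2, neg_neg]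
  obtain ⟨a, ha, hb⟩ := pair_split hJ hSS hFin hv hvf hPx (b := rx i p.B) (by rw [← map_mul, p.hB, map_zero])
    (by rw [← hA, ← map_mul, ← map_mul, ← map_add, ← heP, ← map_neg, hcC, neg_neg]; rfl)
    (by rw [← heP, ← map_mul, neg_mul, heB, neg_neg])
    (by rw [← heP, ← map_mul, mul_neg, ← hcB.eq, heB, neg_neg])
    (fun r => by
      have h1 := in_ms_rx (i := i).2 (Conj.of_mem hS.setting hg i v r)
      rw [← hpB] at h1
      rwa [map_add, map_one, map_smul] at h1)
  have hB : p.B = slot i (Xm J a) := (rx i).injective (by rw [hb, rx_slot_same])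
  refine hgm (centre_map hJ hS.two_le hS.fin hS.rad hS.one_le hS.ih hS.setting hS.scal
    (hS.setting.iso g hg).sim (Conj.of_mem hS.setting hg) (i := i) (j := i) ha hv fun u => ?_)
  refine ⟨(g : Matrix (Idx m (t + 1)) (Idx m (t + 1)) F) *ᵥ u, ?_⟩
  rw [← hB]
  rw [hpB]
  simp only [← mulVec_mulVec, GeomClasses.gl_inv_mulVec_mulVec]
where
  rank_neg' {ι : Type} [Fintype ι] [DecidableEq ι] (X : Matrix ι ι F) : (-X).rank = X.rank := by
    refine le_antisymm ?_ ?_
    · rw [show -X = (-1 : Matrix ι ι F) * X by rw [neg_one_mul]]; exact Matrix.rank_mul_le_right _ _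
    · conv_lhs => rw [show X = (-1 : Matrix ι ι F) * -X by rw [neg_one_mul, neg_neg]]
      exact Matrix.rank_mul_le_right _ _

end Step

/-- Everything conjugating the slot transvections into the group is monomial. -/
theorem rigid_three {J : Matrix (Fin m) (Fin m) F} (hJ : Alt J) (hm : 3 ≤ m) (h2 : (2 : F) ≠ 0) (hF : Nat.card F = 3)
    (hR : RadAll J) : ∀ t, 1 ≤ t → Rigid J t :=
  rigid_of hJ (by omega) h2 (finAll_of_perp hJ hm h2 hR) hR fun _ _ _ hS _ hg => hS.all_monomial_three hF hm hg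

end CfsgLib.TensorSympWreath
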