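import Cfsg.Agent.Lib.TensorSympWreath.Blocks

/-!
The radical of a slot parabolic contains only scalar elements when the slot transvections have only scalar
coefficients.
-/

set_option autoImplicit false
set_option linter.unusedSectionVars false
set_option linter.unusedSimpArgs false

namespace CfsgLib.TensorSympWreath

open Matrix
open scoped Kronecker
open CfsgLib.Maximal.TensorPower
open CfsgLib.TensorWreathMax (Idx split rx In Ms Gam rightHom in_ms_rx rx_slot_same rx_slot_succAbove pl ct ct_pl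
  kronecker_mulVec_pl eq_sum_pl ext_pl pl_eq_zero exists_dot_eq_one exists_dot_eq_one' pl_smul_left pl_sub_left
  pl_add_left exists_perp_perp)

attribute [-simp] Matrix.coe_units_inv

variable {F : Type*} [Field F] {m n : ℕ}

/-- A group containing the slot transvections spans all operators. -/
theorem eq_zero_of_sandwich {J : Matrix (Fin m) (Fin m) F} (hJ : Alt J) {G : Subgroup (GL (Idx m n) F)}
    (hG : ∀ i a, In G (1 + slot i (Xm J a))) {Y : Matrix (Idx m n) (Idx m n) F}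
    (h : ∀ g ∈ G, Y * (g : Matrix (Idx m n) (Idx m n) F) * Y = 0) : Y = 0 := by
  classical
  set S := Submodule.span F (Set.range fun g : G => ((g : GL (Idx m n) F) : Matrix (Idx m n) (Idx m n) F))
  have hone : (1 : Matrix (Idx m n) (Idx m n) F) ∈ S := Submodule.subset_span ⟨1, rfl⟩
  have hmul : ∀ A ∈ S, ∀ B ∈ S, A * B ∈ S := fun A hA B hB => by
    have h1 := Submodule.mul_mem_mul hA hB
    rw [Submodule.span_mul_span] at h1
    refine Submodule.span_mono ?_ h1
    rintro _ ⟨_, ⟨a, rfl⟩, _, ⟨b, rfl⟩, rfl⟩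
    exact ⟨a * b, by simp⟩
  have hzero : ∀ Z ∈ S, Y * Z * Y = 0 := fun Z hZ => by
    induction hZ using Submodule.span_induction with
    | mem x hx => obtain ⟨g, rfl⟩ := hx; exact h g.1 g.2
    | zero => simp
    | add x y _ _ hx hy => rw [mul_add, add_mul, hx, hy, add_zero]
    | smul c x _ hx => rw [mul_smul_comm, smul_mul_assoc, hx, smul_zero]
  have hX : ∀ i a, slot i (Xm J a) ∈ S := fun i a => by
    obtain ⟨g, hg, he⟩ := hG i a
    have h1 : 1 + slot i (Xm J a) ∈ S := Submodule.subset_span ⟨⟨g, hg⟩, he⟩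
    have h2 := Submodule.sub_mem _ h1 hone
    rwa [add_sub_cancel_left] at h2
  have hout : ∀ i a θ, slot i (vecMulVec a θ) ∈ S := by
    intro i a θ
    obtain ⟨Ju, hJu⟩ := (Matrix.isUnit_iff_isUnit_det J).2 hJ.det.isUnit
    have h1 : ∀ b, fm J a b ≠ 0 → slot i (vecMulVec a (b ᵥ* J)) ∈ S := fun b hb => by
      have h2 := hmul _ (hX i a) _ (hX i b)
      rw [slot_mul, Xm, Xm, vecMulVec_mul_vecMulVec, vecMulVec_smul, map_smul, ← fm_apply] at h2
      have h3 := Submodule.smul_mem _ (fm J a b)⁻¹ h2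
      rwa [smul_smul, inv_mul_cancel₀ hb, one_smul] at h3
    rcases eq_or_ne a 0 with rfl | ha
    · simp
    obtain ⟨b₀, hb₀⟩ : ∃ b₀, b₀ ᵥ* J = θ := ⟨θ ᵥ* ((Ju⁻¹ : GL (Fin m) F) : Matrix (Fin m) (Fin m) F), by
      rw [vecMul_vecMul, ← hJu, Units.inv_mul, vecMul_one]⟩
    obtain ⟨f, hf⟩ := hJ.exists_pair ha
    rw [← hb₀]
    rcases ne_or_eq (fm J a b₀) 0 with h' | h'
    · exact h1 _ h'
    · have h2 := Submodule.sub_mem _ (h1 (b₀ + f) (by rw [map_add, h', hf, zero_add]; exact one_ne_zero))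
        (h1 f (by rw [hf]; exact one_ne_zero))
      rwa [← map_sub, ← vecMulVec_sub, add_vecMul, add_sub_cancel_right] at h2
  have hslot : ∀ i X, slot i X ∈ S := fun i X => by
    rw [Matrix.matrix_eq_sum_single X, map_sum]
    refine Submodule.sum_mem _ fun a _ => ?_
    rw [map_sum]
    refine Submodule.sum_mem _ fun b _ => ?_
    convert hout i (Pi.single a (X a b)) (Pi.single b 1) using 2
    ext p q
    simp only [Matrix.single_apply, vecMulVec_apply, Pi.single_apply]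
    by_cases hp : a = p <;> by_cases hq : b = q <;> simp [hp, hq, Ne.symm]
  have hpm : ∀ as : Fin n → Matrix (Fin m) (Fin m) F, pm as ∈ S := by
    intro as
    have key : ∀ s : Finset (Fin n), pm (fun l => if l ∈ s then as l else 1) ∈ S := by
      intro s
      induction s using Finset.induction_on with
      | empty => simpa [show pm (fun _ : Fin n => (1 : Matrix (Fin m) (Fin m) F)) = 1 from pm_one] using hone
      | insert l s hl ih =>
        convert hmul _ (hslot l (as l)) _ ih using 1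
        rw [slot_apply, pm_mul]
        congr 1
        funext j
        rcases eq_or_ne j l with rfl | hj
        · simp [hl]
        · simp [hj]
    simpa using key Finset.univ
  ext x y
  have h1 := congrFun (congrFun (hzero _ (hpm fun l => Matrix.single (y l) (x l) 1)) x) y
  have h2 : (pm fun l => Matrix.single (y l) (x l) (1 : F)) = Matrix.single y x 1 := by
    ext u w
    simp only [pm, Matrix.single_apply]
    by_cases hu : y = u ∧ x = w
    · obtain ⟨rfl, rfl⟩ := hu; simp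
    · rw [if_neg hu]
      by_cases hy : y = u
      · obtain ⟨l, hl⟩ := Function.ne_iff.1 (fun hx => hu ⟨hy, hx⟩)
        exact Finset.prod_eq_zero (Finset.mem_univ l) (by simp [hl])
      · obtain ⟨l, hl⟩ := Function.ne_iff.1 hy
        exact Finset.prod_eq_zero (Finset.mem_univ l) (by simp [hl])
  rw [h2] at h1
  simp [Matrix.mul_apply, Matrix.single_apply, ite_and, mul_ite, ite_mul, Finset.sum_ite_eq, Finset.sum_ite_eq',
    mul_self_eq_zero] at h1
  simpa using h1

/-- Isometries: the pairing of an element of the radical. -/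
theorem pair_radical {J : Matrix (Fin m) (Fin m) F} {K : Matrix (Idx m n) (Idx m n) F} (Ku : GL (Idx m n) F)
    (hKu : (Ku : Matrix (Idx m n) (Idx m n) F) = K) {v c : Fin m → F} {η : Matrix (Fin m × Idx m n) (Fin m × Idx m n) F}
    {D : Matrix (Idx m n) (Idx m n) F} (hiso : Iso (J ⊗ₖ K) (1 + η)) (h2 : ∀ z, ct (v ᵥ* J) (η *ᵥ z) = 0)
    (hD : ∀ u, η *ᵥ pl c u = pl v (D *ᵥ u)) (z : Fin m × Idx m n → F) :
    ct (c ᵥ* J) (η *ᵥ z) =
      -((((Ku⁻¹ : GL (Idx m n) F) : Matrix (Idx m n) (Idx m n) F) * Dᵀ * K) *ᵥ ct (v ᵥ* J) z) := by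
  refine GeomClasses.gl_mulVec_injective Ku ?_
  show (Ku : Matrix (Idx m n) (Idx m n) F) *ᵥ _ = (Ku : Matrix (Idx m n) (Idx m n) F) *ᵥ _
  rw [mulVec_neg, mulVec_mulVec, ← mul_assoc, ← mul_assoc, Units.mul_inv, one_mul, hKu]
  refine dotProduct_eq _ _ fun u => ?_
  rw [dotProduct_comm, dotProduct_comm _ u, dotProduct_neg, ← mulVec_mulVec _ Dᵀ K, dotProduct_mulVec u Dᵀ, vecMul_transpose]
  have h := congrArg (fun X => pl c u ⬝ᵥ X *ᵥ z) hiso
  simp only [← mulVec_mulVec, dotProduct_mulVec (pl c u) ((1 + η)ᵀ), vecMul_transpose, add_mulVec, one_mulVec,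
    mulVec_add, dotProduct_add, add_dotProduct, hD, pair_pl, h2, mulVec_zero, dotProduct_zero, add_zero] at h
  linear_combination h

/-- The commutator of two radical elements. -/
theorem in_comm {ι : Type} [Fintype ι] [DecidableEq ι] {M : Subgroup (GL ι F)} {A B : Matrix ι ι F}
    (hA : In M (1 + A)) (hB : In M (1 + B)) (h1 : (A * B - B * A) * A = 0) (h2 : (A * B - B * A) * B = 0) :
    In M (1 + (A * B - B * A)) := by
  obtain ⟨a, ha, hA⟩ := hA
  obtain ⟨b, hb, hB⟩ := hB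
  refine ⟨a * b * (b * a)⁻¹, mul_mem (mul_mem ha hb) (inv_mem (mul_mem hb ha)), ?_⟩
  have e : (a * b : GL ι F).1 = (1 + (A * B - B * A)) * (b * a : GL ι F).1 := by
    rw [Units.val_mul, Units.val_mul, hA, hB]
    simp only [add_mul, one_mul, mul_add, mul_one, ← mul_assoc]
    rw [h1, h2, zero_mul]
    abel
  rw [Units.val_mul, e, mul_assoc, Units.mul_inv, mul_one]

theorem iso_root {J : Matrix (Fin m) (Fin m) F} (hJ : Alt J) (u : Fin m → F) (e : F) : Iso J (1 + e • Xm J u) := by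
  refine iso_of_fm fun x y => ?_
  simp only [add_mulVec, one_mulVec, smul_mulVec, Xm_mulVec, map_add, map_smul, LinearMap.add_apply,
    LinearMap.smul_apply, smul_eq_mul, hJ.self, hJ.flip u x]
  ring

theorem root_mul {J : Matrix (Fin m) (Fin m) F} (hJ : Alt J) (u : Fin m → F) (e : F) :
    (1 + e • Xm J u) * (1 + (-e) • Xm J u) = 1 := by
  rw [add_mul, one_mul, mul_add, mul_one, smul_mul_smul_comm, hJ.Xm_mul_self, smul_zero, add_zero, neg_smul]
  abel

theorem ct_kron_left {μ : Type} [Fintype μ] [DecidableEq μ] (φ : Fin m → F) (A : Matrix (Fin m) (Fin m) F)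
    (z : Fin m × μ → F) : ct φ ((A ⊗ₖ (1 : Matrix μ μ F)) *ᵥ z) = ct (φ ᵥ* A) z := by
  conv_lhs => rw [eq_sum_pl z, mulVec_sum, map_sum]
  conv_rhs => rw [eq_sum_pl z, map_sum]
  refine Finset.sum_congr rfl fun k _ => ?_
  rw [kronecker_mulVec_pl, one_mulVec, ct_pl, ct_pl, dotProduct_mulVec]

theorem ct_kron_right {μ : Type} [Fintype μ] [DecidableEq μ] (φ : Fin m → F) (B : Matrix μ μ F)
    (z : Fin m × μ → F) : ct φ (((1 : Matrix (Fin m) (Fin m) F) ⊗ₖ B) *ᵥ z) = B *ᵥ ct φ z := by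
  conv_lhs => rw [eq_sum_pl z, mulVec_sum, map_sum]
  conv_rhs => rw [eq_sum_pl z, map_sum, mulVec_sum]
  refine Finset.sum_congr rfl fun k _ => ?_
  rw [kronecker_mulVec_pl, one_mulVec, ct_pl, ct_pl, mulVec_smul]

/-- The isometry carries the functional of a vector to that of its preimage. -/
theorem iso_row {J A A' : Matrix (Fin m) (Fin m) F} (hA : Iso J A) (hAA : A * A' = 1) (c : Fin m → F) :
    (c ᵥ* J) ᵥ* A = (A' *ᵥ c) ᵥ* J := by
  have h : J * A = A'ᵀ * J := by
    conv_rhs => rw [← show Aᵀ * J * A = J from hA]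
    rw [← mul_assoc, ← mul_assoc, ← transpose_mul, hAA, transpose_one, one_mul]
  rw [vecMul_vecMul, h, ← vecMul_vecMul, vecMul_transpose]

/-- A vector orthogonal to the orthogonal complement of `v` is on the line of `v`. -/
theorem eq_pl_of_perp {J : Matrix (Fin m) (Fin m) F} (hJ : Alt J) {μ : Type} [Fintype μ] [DecidableEq μ]
    {v f : Fin m → F} (hf : fm J v f = 1) {x : Fin m × μ → F} (h : ∀ c, fm J v c = 0 → ct (c ᵥ* J) x = 0) :
    x = pl v (ct (-(f ᵥ* J)) x) := by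
  have key : ∀ θ : Fin m → F, ct θ x = (θ ⬝ᵥ v) • ct (-(f ᵥ* J)) x := by
    intro θ
    obtain ⟨Ju, hJu⟩ := (Matrix.isUnit_iff_isUnit_det J).2 hJ.det.isUnit
    obtain ⟨s, rfl⟩ : ∃ s, s ᵥ* J = θ := ⟨θ ᵥ* ((Ju⁻¹ : GL (Fin m) F) : Matrix (Fin m) (Fin m) F), by
      rw [vecMul_vecMul, ← hJu, Units.inv_mul, vecMul_one]⟩
    have e : s ᵥ* J = (s - fm J v s • f) ᵥ* J + fm J v s • (f ᵥ* J) := by
      rw [sub_vecMul, smul_vecMul, sub_add_cancel]
    conv_lhs => rw [e, ct_add, h _ (by rw [map_sub, map_smul, hf, smul_eq_mul, mul_one, sub_self]), zero_add, ct_smul]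
    rw [← fm_apply, hJ.flip v s, show -(f ᵥ* J) = (-1 : F) • (f ᵥ* J) by simp, ct_smul, smul_smul]
    congr 1
    ring
  conv_lhs => rw [eq_sum_pl x]
  conv_rhs => rw [eq_sum_pl (pl v _)]
  refine Finset.sum_congr rfl fun k _ => ?_
  rw [ct_pl, key]

/-- An element of the radical with given coefficients. -/
def Rd (J : Matrix (Fin m) (Fin m) F) (M : Subgroup (GL (Fin m × Idx m n) F)) (v : Fin m → F)
    (L : (Fin m → F) →ₗ[F] Matrix (Idx m n) (Idx m n) F) : Prop :=
  L v = 0 ∧ ∃ g ∈ M,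
    (∀ z, ct (v ᵥ* J) ((g : Matrix (Fin m × Idx m n) (Fin m × Idx m n) F) *ᵥ z) = ct (v ᵥ* J) z) ∧
    (∀ c u, fm J v c = 0 →
      (g : Matrix (Fin m × Idx m n) (Fin m × Idx m n) F) *ᵥ pl c u = pl c u + pl v (L c *ᵥ u)) ∧
    ∀ c z, fm J v c = 0 → ct (c ᵥ* J) ((g : Matrix (Fin m × Idx m n) (Fin m × Idx m n) F) *ᵥ z) =
      ct (c ᵥ* J) z + L c *ᵥ ct (v ᵥ* J) z

namespace Rd

variable {J : Matrix (Fin m) (Fin m) F} {M : Subgroup (GL (Fin m × Idx m n) F)} {v : Fin m → F}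
  {L L' : (Fin m → F) →ₗ[F] Matrix (Idx m n) (Idx m n) F}

theorem add (hJ : Alt J) (h : Rd J M v L) (h' : Rd J M v L') : Rd J M v (L + L') := by
  obtain ⟨hv, g, hg, hφ, hr, hc⟩ := h
  obtain ⟨hv', k, hk, hψ, hs, hd⟩ := h'
  refine ⟨by simp [hv, hv'], g * k, mul_mem hg hk, fun z => ?_, fun c u hvc => ?_, fun c z hvc => ?_⟩
  · rw [Units.val_mul, ← mulVec_mulVec, hφ, hψ]
  · rw [Units.val_mul, ← mulVec_mulVec, hs c u hvc, mulVec_add, hr c u hvc, hr v _ (hJ.self v), hv, zero_mulVec,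
      map_zero, add_zero, LinearMap.add_apply, add_mulVec, map_add]
    abel
  · rw [Units.val_mul, ← mulVec_mulVec, hc c _ hvc, hd c z hvc, hψ, LinearMap.add_apply, add_mulVec]
    abel

theorem neg (hJ : Alt J) (h : Rd J M v L) : Rd J M v (-L) := by
  obtain ⟨hv, g, hg, hφ, hr, hc⟩ := h
  have hφ' : ∀ z, ct (v ᵥ* J) (((g⁻¹ : GL (Fin m × Idx m n) F) : Matrix (Fin m × Idx m n) (Fin m × Idx m n) F) *ᵥ z) =
      ct (v ᵥ* J) z := fun z => by
    conv_rhs => rw [← GeomClasses.gl_mulVec_inv_mulVec g z, hφ]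
  refine ⟨by simp [hv], g⁻¹, inv_mem hg, hφ', fun c u hvc => ?_, fun c z hvc => ?_⟩
  · refine GeomClasses.gl_mulVec_injective g ?_
    show (g : Matrix (Fin m × Idx m n) (Fin m × Idx m n) F) *ᵥ _ = (g : Matrix (Fin m × Idx m n) (Fin m × Idx m n) F) *ᵥ _
    rw [GeomClasses.gl_mulVec_inv_mulVec, mulVec_add, hr c u hvc, hr v _ (hJ.self v), hv, zero_mulVec, map_zero,
      add_zero, LinearMap.neg_apply, neg_mulVec, map_neg]
    abel
  · have h1 := hc c (((g⁻¹ : GL (Fin m × Idx m n) F) : Matrix (Fin m × Idx m n) (Fin m × Idx m n) F) *ᵥ z) hvc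
    rw [GeomClasses.gl_mulVec_inv_mulVec, hφ'] at h1
    rw [h1, LinearMap.neg_apply, neg_mulVec]
    abel

/-- Conjugation by an isometry of the left factor fixing `v`. -/
theorem conj_left {K : Matrix (Idx m n) (Idx m n) F} (hS : SSet J K M) (h : Rd J M v L)
    {A A' : Matrix (Fin m) (Fin m) F} (hA : Iso J A) (hAA : A * A' = 1) (hAv : A *ᵥ v = v) :
    Rd J M v (L ∘ₗ A'.mulVecLin) := by
  have hA'v : A' *ᵥ v = v := by
    conv_lhs => rw [← hAv, mulVec_mulVec, mul_eq_one_comm.1 hAA, one_mulVec]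
  have hA' : Iso J A' := by
    have h1 : A'ᵀ * (Aᵀ * J * A) * A' = A'ᵀ * J * A' := by rw [show Aᵀ * J * A = J from hA]
    rw [Iso, ← h1]
    simp only [mul_assoc, hAA, mul_one]
    rw [← mul_assoc, ← transpose_mul, hAA, transpose_one, one_mul]
  have hrow : ∀ c, (c ᵥ* J) ᵥ* A' = (A *ᵥ c) ᵥ* J := fun c => iso_row hA' (mul_eq_one_comm.1 hAA) c
  have hperp : ∀ c, fm J v c = 0 → fm J v (A' *ᵥ c) = 0 := fun c hc => by
    rw [fm_apply] at hc ⊢
    rw [dotProduct_mulVec, hrow, hAv]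
    exact hc
  obtain ⟨hv, g, hg, hφ, hr, hc⟩ := h
  obtain ⟨a, ha, haA⟩ := hS.isom A hA
  have ha' : ((a⁻¹ : GL (Fin m × Idx m n) F) : Matrix (Fin m × Idx m n) (Fin m × Idx m n) F) = A' ⊗ₖ 1 :=
    Units.inv_eq_of_mul_eq_one_right (by rw [haA, ← mul_kronecker_mul, hAA, one_mul, one_kronecker_one])
  refine ⟨by simp [hA'v, hv], a * g * a⁻¹, mul_mem (mul_mem ha hg) (inv_mem ha), fun z => ?_, fun c u hvc => ?_,
    fun c z hvc => ?_⟩
  · rw [Units.val_mul, Units.val_mul, ha', haA, ← mulVec_mulVec, ← mulVec_mulVec, ct_kron_left, iso_row hA hAA, hA'v, hφ,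
      ct_kron_left, hrow, hAv]
  · rw [Units.val_mul, Units.val_mul, ha', haA, ← mulVec_mulVec, ← mulVec_mulVec, kronecker_mulVec_pl, one_mulVec,
      hr _ u (hperp c hvc), mulVec_add, kronecker_mulVec_pl, kronecker_mulVec_pl, one_mulVec, one_mulVec, hAv,
      mulVec_mulVec, hAA, one_mulVec]
    rfl
  · rw [Units.val_mul, Units.val_mul, ha', haA, ← mulVec_mulVec, ← mulVec_mulVec, ct_kron_left, iso_row hA hAA,
      hc _ _ (hperp c hvc), ct_kron_left, ct_kron_left, hrow, hrow, mulVec_mulVec, hAA, one_mulVec, hAv]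
    rfl

/-- Conjugation by a right factor. -/
theorem conj_right {X X' : Matrix (Idx m n) (Idx m n) F} (h : Rd J M v L)
    (hX : In M ((1 : Matrix (Fin m) (Fin m) F) ⊗ₖ X)) (hXX : X * X' = 1) :
    Rd J M v ((LinearMap.mulLeft F X ∘ₗ LinearMap.mulRight F X') ∘ₗ L) := by
  obtain ⟨hv, g, hg, hφ, hr, hc⟩ := h
  obtain ⟨a, ha, haX⟩ := hX
  have ha' : ((a⁻¹ : GL (Fin m × Idx m n) F) : Matrix (Fin m × Idx m n) (Fin m × Idx m n) F) =
      (1 : Matrix (Fin m) (Fin m) F) ⊗ₖ X' :=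
    Units.inv_eq_of_mul_eq_one_right (by rw [haX, ← mul_kronecker_mul, hXX, one_mul, one_kronecker_one])
  refine ⟨by simp [hv], a * g * a⁻¹, mul_mem (mul_mem ha hg) (inv_mem ha), fun z => ?_, fun c u hvc => ?_,
    fun c z hvc => ?_⟩
  · rw [Units.val_mul, Units.val_mul, ha', haX, ← mulVec_mulVec, ← mulVec_mulVec, ct_kron_right, hφ, ct_kron_right,
      mulVec_mulVec, hXX, one_mulVec]
  · rw [Units.val_mul, Units.val_mul, ha', haX, ← mulVec_mulVec, ← mulVec_mulVec, kronecker_mulVec_pl, one_mulVec,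
      hr _ _ hvc, mulVec_add, kronecker_mulVec_pl, kronecker_mulVec_pl, one_mulVec, one_mulVec, mulVec_mulVec, hXX,
      one_mulVec]
    simp [mulVec_mulVec, mul_assoc]
  · rw [Units.val_mul, Units.val_mul, ha', haX, ← mulVec_mulVec, ← mulVec_mulVec, ct_kron_right, hc _ _ hvc,
      ct_kron_right, ct_kron_right, mulVec_add, mulVec_mulVec, hXX, one_mulVec]
    simp [mulVec_mulVec, mul_assoc]

theorem skew {K : Matrix (Idx m n) (Idx m n) F} (hS : SSet J K M) (h : Rd J M v L) {c : Fin m → F}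
    (hvc : fm J v c = 0) {f : Fin m → F} (hf : fm J v f = 1) : (L c)ᵀ * K = -(K * L c) := by
  obtain ⟨hv, g, hg, hφ, hr, hc⟩ := h
  obtain ⟨Ku, hKu⟩ := hS.Kunit
  have hη : (g : Matrix (Fin m × Idx m n) (Fin m × Idx m n) F) =
      1 + ((g : Matrix (Fin m × Idx m n) (Fin m × Idx m n) F) - 1) := (add_sub_cancel _ _).symm
  have h1 : ∀ u, L c *ᵥ u = -((((Ku⁻¹ : GL (Idx m n) F) : Matrix (Idx m n) (Idx m n) F) * (L c)ᵀ * K) *ᵥ u) := fun u => by
    have h2 := pair_radical (c := c) (D := L c) Ku hKu (η := (g : Matrix (Fin m × Idx m n) (Fin m × Idx m n) F) - 1)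
      (by rw [← hη]; exact hS.iso g hg) (fun z => by rw [sub_mulVec, one_mulVec, map_sub, hφ, sub_self])
      (fun u => by rw [sub_mulVec, one_mulVec, hr c u hvc, add_sub_cancel_left]) (pl f u)
    rwa [sub_mulVec, one_mulVec, map_sub, hc c _ hvc, add_sub_cancel_left, ct_pl _ f, ← fm_apply, hf, one_smul] at h2
  have h2 : L c = -(((Ku⁻¹ : GL (Idx m n) F) : Matrix (Idx m n) (Idx m n) F) * (L c)ᵀ * K) :=
    Matrix.ext_of_mulVec_single fun x => by rw [h1, neg_mulVec]
  conv_rhs => rw [h2]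
  rw [mul_neg, neg_neg, ← mul_assoc, ← mul_assoc, ← hKu, Units.mul_inv, one_mul]

/-- The commutator of two radical elements of one direction each. -/
theorem anticomm (hJ : Alt J) {K : Matrix (Idx m n) (Idx m n) F} (hS : SSet J K M) (hv : v ≠ 0) {b b' : Fin m → F}
    (hb : fm J v b = 0) (hb' : fm J v b' = 0) (hbb : fm J b b' ≠ 0) {D D' : Matrix (Idx m n) (Idx m n) F}
    (h : Rd J M v ((fm J b).smulRight D)) (h' : Rd J M v ((fm J b').smulRight D')) :
    ∃ c : F, D * D' + D' * D = c • 1 := by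
  obtain ⟨f, hf⟩ := hJ.exists_pair hv
  obtain ⟨-, g, hg, hφ, hr, hc⟩ := h
  obtain ⟨-, k, hk, hψ, hs, hd⟩ := h'
  have hline : ∀ {E : Matrix (Idx m n) (Idx m n) F} {e : Fin m → F} {x : GL (Fin m × Idx m n) F}, fm J v e = 0 →
      (∀ z, ct (v ᵥ* J) ((x : Matrix (Fin m × Idx m n) (Fin m × Idx m n) F) *ᵥ z) = ct (v ᵥ* J) z) →
      (∀ c z, fm J v c = 0 → ct (c ᵥ* J) ((x : Matrix (Fin m × Idx m n) (Fin m × Idx m n) F) *ᵥ z) =
        ct (c ᵥ* J) z + (fm J e).smulRight E c *ᵥ ct (v ᵥ* J) z) →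
      ∀ z, ∃ w, (x : Matrix (Fin m × Idx m n) (Fin m × Idx m n) F) *ᵥ z = z - pl e (E *ᵥ ct (v ᵥ* J) z) + pl v w := by
    intro E e x he hxφ hxc z
    refine ⟨_, (sub_eq_iff_eq_add'.1 (eq_pl_of_perp hJ hf
      (x := (x : Matrix (Fin m × Idx m n) (Fin m × Idx m n) F) *ᵥ z - (z - pl e (E *ᵥ ct (v ᵥ* J) z))) ?_))⟩
    intro c hvc
    rw [map_sub, map_sub, hxc c z hvc, ct_pl, ← fm_apply, hJ.flip e c, LinearMap.smulRight_apply, smul_mulVec,
      neg_smul]
    abel
  have hkey : ∀ z, (g : Matrix (Fin m × Idx m n) (Fin m × Idx m n) F) *ᵥ ((k : Matrix _ _ F) *ᵥ z) -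
      (k : Matrix (Fin m × Idx m n) (Fin m × Idx m n) F) *ᵥ ((g : Matrix _ _ F) *ᵥ z) =
        pl v ((-fm J b b') • ((D * D' + D' * D) *ᵥ ct (v ᵥ* J) z)) := by
    intro z
    obtain ⟨w, hw⟩ := hline hb hφ hc z
    obtain ⟨w', hw'⟩ := hline hb' hψ hd z
    have hgv : ∀ u, (g : Matrix (Fin m × Idx m n) (Fin m × Idx m n) F) *ᵥ pl v u = pl v u := fun u => by
      rw [hr v u (hJ.self v), LinearMap.smulRight_apply, hJ.flip v b, hb, neg_zero, zero_smul, zero_mulVec, map_zero,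
        add_zero]
    have hkv : ∀ u, (k : Matrix (Fin m × Idx m n) (Fin m × Idx m n) F) *ᵥ pl v u = pl v u := fun u => by
      rw [hs v u (hJ.self v), LinearMap.smulRight_apply, hJ.flip v b', hb', neg_zero, zero_smul, zero_mulVec, map_zero,
        add_zero]
    have e1 : (g : Matrix (Fin m × Idx m n) (Fin m × Idx m n) F) *ᵥ ((k : Matrix _ _ F) *ᵥ z) =
        z - pl b (D *ᵥ ct (v ᵥ* J) z) + pl v w - (pl b' (D' *ᵥ ct (v ᵥ* J) z) +
          pl v ((fm J b b' • D) *ᵥ (D' *ᵥ ct (v ᵥ* J) z))) + pl v w' := by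
      rw [hw', mulVec_add, mulVec_sub, hgv, hr b' _ hb', hw]; rfl
    have e2 : (k : Matrix (Fin m × Idx m n) (Fin m × Idx m n) F) *ᵥ ((g : Matrix _ _ F) *ᵥ z) =
        z - pl b' (D' *ᵥ ct (v ᵥ* J) z) + pl v w' - (pl b (D *ᵥ ct (v ᵥ* J) z) +
          pl v ((fm J b' b • D') *ᵥ (D *ᵥ ct (v ᵥ* J) z))) + pl v w := by
      rw [hw, mulVec_add, mulVec_sub, hkv, hs b _ hb, hw']; rfl
    rw [e1, e2, hJ.flip b b']
    simp only [smul_mulVec, neg_mulVec, add_mulVec, ← mulVec_mulVec, map_add, map_smul, map_neg]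
    module
  obtain ⟨c, hc'⟩ := hS.scal v hv ((-fm J b b') • (D * D' + D' * D)) ⟨g * k * (k * g)⁻¹,
    mul_mem (mul_mem hg hk) (inv_mem (mul_mem hk hg)), by
    have e : (g * k).1 = (1 + Xm J v ⊗ₖ ((-fm J b b') • (D * D' + D' * D))) * (k * g).1 := by
      refine Matrix.ext_of_mulVec_single fun x => ?_
      rw [← mulVec_mulVec, add_mulVec, one_mulVec, Xm, kron_vecMulVec_mulVec, Units.val_mul, Units.val_mul,
        ← mulVec_mulVec, ← mulVec_mulVec, hψ, hφ, smul_mulVec, ← sub_eq_iff_eq_add']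
      exact hkey _
    rw [Units.val_mul, e, mul_assoc, Units.mul_inv, mul_one]⟩
  refine ⟨(-fm J b b')⁻¹ * c, ?_⟩
  rw [← smul_smul, ← hc', smul_smul, inv_mul_cancel₀ (neg_ne_zero.2 hbb), one_smul]

end Rd

end CfsgLib.TensorSympWreath
namespace CfsgLib.TensorSympWreath

open Matrix
open scoped Kronecker
open CfsgLib.Maximal.TensorPower
open CfsgLib.TensorWreathMax (Idx split rx In Ms Gam rightHom in_ms_rx rx_slot_same rx_slot_succAbove pl ct ct_pl
  kronecker_mulVec_pl eq_sum_pl ext_pl pl_eq_zero exists_dot_eq_one exists_dot_eq_one' pl_smul_left pl_sub_left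
  pl_add_left exists_perp_perp exists_perp_eq_one)

variable {F : Type*} [Field F] {m n : ℕ}

theorem smulRight_add' (φ : (Fin m → F) →ₗ[F] F) (D D' : Matrix (Idx m n) (Idx m n) F) :
    φ.smulRight D + φ.smulRight D' = φ.smulRight (D + D') := by
  refine LinearMap.ext fun c => ?_; simp [smul_add]

theorem smulRight_neg' (φ : (Fin m → F) →ₗ[F] F) (D : Matrix (Idx m n) (Idx m n) F) :
    -φ.smulRight D = φ.smulRight (-D) := by
  refine LinearMap.ext fun c => ?_; simp

/-- A radical element of one direction with skew coefficient is trivial. -/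
theorem rd_eq_zero {J : Matrix (Fin m) (Fin m) F} (hJ : Alt J) (h2 : (2 : F) ≠ 0)
    {M : Subgroup (GL (Idx m (n + 1 + 1)) F)} (hM : Setting J M) (hs : Scal J M) (i : Fin (n + 1 + 1))
    {v b : Fin m → F} (hv : v ≠ 0) (hvb : fm J v b = 0) (hind : ∀ a : F, b ≠ a • v)
    {D : Matrix (Idx m (n + 1)) (Idx m (n + 1)) F} (hD : Rd J (Ms i M) v ((fm J b).smulRight D)) : D = 0 := by
  classical
  have hm0 : m ≠ 0 := by rintro rfl; exact hv (Subsingleton.elim _ _)
  haveI : NeZero m := ⟨hm0⟩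
  set K := Jt J (n + 1)
  have hS := hM.sset hJ hs i
  obtain ⟨hG, hGs⟩ := hM.gam hJ hs i
  set G := Gam i M
  obtain ⟨f, hf⟩ := hJ.exists_pair hv
  obtain ⟨b', hb'v, hb'⟩ : ∃ b', fm J v b' = 0 ∧ fm J b b' = 1 := by
    obtain ⟨θ, hθ, hθ'⟩ := exists_perp_eq_one (x := v ᵥ* J) (y := b ᵥ* J) (fun a ha => hind a (sub_eq_zero.1
      (hJ.nondeg.1 _ fun y => by
        rw [map_sub, LinearMap.sub_apply, map_smul, LinearMap.smul_apply, fm_apply, fm_apply, ha, smul_dotProduct,
          sub_self])))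
    exact ⟨θ, by rw [fm_apply, dotProduct_comm, hθ], by rw [fm_apply, dotProduct_comm, hθ']⟩
  have hm : 3 ≤ m := by
    have hli : LinearIndependent F ![v, b, f] := by
      rw [Fintype.linearIndependent_iff]
      intro g hg
      simp only [Fin.sum_univ_three, Matrix.cons_val_zero, Matrix.cons_val_one, Matrix.cons_val] at hg
      have h0 := congrArg (fm J v) hg
      simp only [map_add, map_smul, hJ.self, hvb, hf, smul_eq_mul, mul_zero, zero_add, mul_one, map_zero] at h0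
      rw [h0, zero_smul, add_zero] at hg
      have h1 : g 1 = 0 := by
        by_contra h
        refine hind (-(g 1)⁻¹ * g 0) ?_
        rw [← smul_smul, eq_neg_of_add_eq_zero_left hg, smul_neg, neg_smul, neg_neg, smul_smul, inv_mul_cancel₀ h, one_smul]
      rw [h1, zero_smul, add_zero] at hg
      intro l
      fin_cases l
      · exact (smul_eq_zero.1 hg).resolve_right hv
      · exact h1
      · exact h0
    simpa using hli.fintype_card_le_finrank
  have hsw : ∀ E, Rd J (Ms i M) v ((fm J b).smulRight E) → Rd J (Ms i M) v ((fm J b').smulRight (-E)) := by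
    intro E hE
    set u := b + b' with hu
    have hA' : Iso J (1 + (1 : F) • Xm J u) := iso_root hJ u 1
    have hAv : (1 + (1 : F) • Xm J u) *ᵥ v = v := by
      rw [add_mulVec, one_mulVec, smul_mulVec, Xm_mulVec, hJ.flip v u, hu, map_add, hvb, hb'v, add_zero, neg_zero,
        zero_smul, smul_zero, add_zero]
    convert hE.conj_left hS hA' (root_mul hJ u 1) hAv using 1
    refine LinearMap.ext fun c => ?_
    rw [LinearMap.comp_apply, LinearMap.smulRight_apply, LinearMap.smulRight_apply, Matrix.mulVecLin_apply, smul_neg,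
      ← neg_smul]
    congr 1
    rw [add_mulVec, one_mulVec, smul_mulVec, Xm_mulVec, map_add, map_smul, map_smul, hu, map_add, LinearMap.add_apply,
      map_add, hJ.self, hb', smul_eq_mul, smul_eq_mul, zero_add, mul_one]
    ring
  have hconj : ∀ E, Rd J (Ms i M) v ((fm J b).smulRight E) → ∀ X X', In G X → X * X' = 1 →
      Rd J (Ms i M) v ((fm J b).smulRight (X * E * X')) := by
    intro E hE X X' hX hXX
    obtain ⟨g, hg, hgX⟩ := hX
    have h1 : In (Ms i M) ((1 : Matrix (Fin m) (Fin m) F) ⊗ₖ X) := ⟨rightHom m (Idx m (n + 1)) g, hg, by rw [← hgX]; rfl⟩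
    convert hE.conj_right h1 hXX using 1
    refine LinearMap.ext fun c => ?_
    simp [mul_assoc]
  have hanti : ∀ E E', Rd J (Ms i M) v ((fm J b).smulRight E) → Rd J (Ms i M) v ((fm J b).smulRight E') →
      ∃ c : F, E * E' + E' * E = c • 1 := by
    intro E E' hE hE'
    obtain ⟨c, hc⟩ := Rd.anticomm hJ hS hv hvb hb'v (by rw [hb']; exact one_ne_zero) hE (hsw E' hE')
    refine ⟨-c, ?_⟩
    rw [neg_smul, ← hc, mul_neg, neg_mul]; abel
  have hzero : ∀ l, SlotZero J D l := by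
    intro l a
    rcases eq_or_ne a 0 with rfl | ha
    · rw [show Xm J (0 : Fin m → F) = 0 by ext p q; simp [Xm, vecMulVec_apply]]; simp
    set X := slot l (Xm J a) with hX
    have hXX : X * X = 0 := by rw [hX, slot_mul, hJ.Xm_mul_self, map_zero]
    have hp := hconj D hD (1 + X) (1 - X) (by simpa using hG.root l a 1) (by
      rw [add_mul, one_mul, mul_sub, mul_one, hXX]; abel)
    have hn := hconj D hD (1 - X) (1 + X) (by simpa [sub_eq_add_neg] using hG.root l a (-1)) (by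
      rw [sub_mul, one_mul, mul_add, mul_one, hXX]; abel)
    have hR0 : Rd J (Ms i M) v ((fm J b).smulRight ((-2 : F) • (X * D * X))) := by
      have h1 := (hp.add hJ hn).add hJ ((hD.add hJ hD).neg hJ)
      rw [smulRight_add', smulRight_add', smulRight_neg', smulRight_add'] at h1
      rw [show (-2 : F) • (X * D * X) = (1 + X) * D * (1 - X) + (1 - X) * D * (1 + X) + -(D + D) by
        simp only [add_mul, sub_mul, mul_add, mul_sub, one_mul, mul_one, mul_assoc]
        module]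
      exact h1
    set Y : Matrix (Idx m n) (Idx m n) F := Matrix.of fun x y => (-2 : F) * fm J a (blk (rx l D) x y *ᵥ a) with hY
    have hRY : rx l ((-2 : F) • (X * D * X)) = Xm J a ⊗ₖ Y := by
      refine blk_ext fun x y => ?_
      rw [map_smul, map_mul, map_mul, hX, rx_slot_same, ← Matrix.smul_mul, ← Matrix.smul_mul, ← smul_kronecker,
        blk_sandwich, blk_kron, Matrix.smul_mul, Matrix.smul_mul, Xm_mul_mul, hY, Matrix.of_apply, smul_smul]
      rfl
    obtain ⟨p, hp'⟩ := hJ.exists_pair ha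
    obtain ⟨A, hAa, hAi, hAG⟩ := hJ.exists_move ha (w := p) (fun h => by rw [h, map_zero] at hp'; exact zero_ne_one hp')
    obtain ⟨hG', -⟩ := hG.gam hJ hGs l
    have hY0 : Y = 0 := by
      refine eq_zero_of_sandwich hJ (G := Gam l G) (fun j a => by simpa using hG'.root j a 1) fun γ hγ => ?_
      set hγM := Cfsg.Geo.glReindex (F := F) (split l).symm (rightHom m (Idx m n) γ) with hhγ
      have hγG : hγM ∈ G := hγ
      have hγrx : rx l (hγM : Matrix (Idx m (n + 1)) (Idx m (n + 1)) F) =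
          (1 : Matrix (Fin m) (Fin m) F) ⊗ₖ (γ : Matrix (Idx m n) (Idx m n) F) := by
        ext x y
        simp [hhγ, Cfsg.Geo.glReindex, rightHom]
      obtain ⟨g, hg, hgA⟩ := hAG hG l
      set X₁ := ((g * hγM : GL (Idx m (n + 1)) F) : Matrix (Idx m (n + 1)) (Idx m (n + 1)) F) with hX₁
      set X₂ := (((g * hγM)⁻¹ : GL (Idx m (n + 1)) F) : Matrix (Idx m (n + 1)) (Idx m (n + 1)) F) with hX₂
      obtain ⟨c, hc⟩ := hanti _ _ hR0 (hconj _ hR0 X₁ X₂ ⟨_, mul_mem hg hγG, rfl⟩ (Units.mul_inv _))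
      have hX₁e : rx l X₁ = (A : Matrix (Fin m) (Fin m) F) ⊗ₖ (γ : Matrix (Idx m n) (Idx m n) F) := by
        rw [hX₁, Units.val_mul, map_mul, hgA, rx_slot_same, hγrx, ← mul_kronecker_mul, mul_one, one_mul]
      have hX₂e : rx l X₂ = ((A⁻¹ : GL (Fin m) F) : Matrix (Fin m) (Fin m) F) ⊗ₖ
          ((γ⁻¹ : GL (Idx m n) F) : Matrix (Idx m n) (Idx m n) F) := by
        have h1 : rx l X₁ * rx l X₂ = 1 := by rw [← map_mul, hX₁, hX₂, Units.mul_inv, map_one]
        have h2' : (((A⁻¹ : GL (Fin m) F) : Matrix (Fin m) (Fin m) F) ⊗ₖ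
            ((γ⁻¹ : GL (Idx m n) F) : Matrix (Idx m n) (Idx m n) F)) * rx l X₁ = 1 := by
          rw [hX₁e, ← mul_kronecker_mul, Units.inv_mul, Units.inv_mul, one_kronecker_one]
        exact (left_inv_eq_right_inv h2' h1).symm
      have hc' := congrArg (rx l) hc
      rw [map_add, map_smul (rx l) c, map_one, map_mul (rx l) _ (X₁ * _ * X₂), map_mul (rx l) (X₁ * _ * X₂),
        map_mul (rx l) (X₁ * _) X₂, map_mul (rx l) X₁, hRY, hX₁e, hX₂e, ← mul_kronecker_mul, ← mul_kronecker_mul, hJ.conj_Xm' one_ne_zero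
        (show _ = (1 : F) • J from hAi.trans (one_smul F J).symm), hAa, inv_one, one_smul, ← mul_kronecker_mul,
        ← mul_kronecker_mul] at hc'
      set Z := (γ : Matrix (Idx m n) (Idx m n) F) * Y * ((γ⁻¹ : GL (Idx m n) F) : Matrix (Idx m n) (Idx m n) F)
      have hap : (Xm J a * Xm J p) *ᵥ a = -a := by
        rw [← mulVec_mulVec]
        simp only [Xm_mulVec, mulVec_smul, map_smul, smul_eq_mul, smul_smul, hJ.flip a p, hp', mul_one, neg_mul,
          one_mul, neg_smul, one_smul, map_neg]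
      have hpa : (Xm J p * Xm J a) *ᵥ a = 0 := by
        rw [← mulVec_mulVec]
        simp only [Xm_mulVec, hJ.self, zero_smul, mulVec_zero, map_zero]
      obtain ⟨e, he0, hea, hep⟩ := exists_perp_perp hm (a ᵥ* J) (p ᵥ* J)
      rw [dotProduct_comm, ← fm_apply] at hea hep
      have hc0 : c = 0 := by
        have h1 := congrArg (· *ᵥ pl e (Pi.single (0 : Idx m n) 1)) hc'
        simp only [add_mulVec, kronecker_mulVec_pl, smul_mulVec, one_mulVec] at h1
        rw [← mulVec_mulVec (v := e) (M := Xm J a), ← mulVec_mulVec (v := e) (M := Xm J p)] at h1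
        simp only [Xm_mulVec, hea, hep, zero_smul, mulVec_zero, map_zero] at h1
        rw [show pl (μ := Idx m n) (0 : Fin m → F) = 0 by ext u x; simp [pl]] at h1
        simp only [LinearMap.zero_apply, add_zero] at h1
        exact (smul_eq_zero.1 h1.symm).resolve_right fun h => by
          simpa using congrFun (pl_eq_zero he0 h) 0
      have hYZ : Y * Z = 0 := Matrix.ext_of_mulVec_single fun x => by
        have h1 := congrArg (· *ᵥ pl a (Pi.single x 1)) hc'
        simp only [add_mulVec, kronecker_mulVec_pl, smul_mulVec, one_mulVec, hap, hpa, hc0, zero_smul] at h1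
        rw [show pl (μ := Idx m n) (0 : Fin m → F) = 0 by ext u x; simp [pl]] at h1
        rw [zero_mulVec]
        refine pl_eq_zero (neg_ne_zero.2 ha) ?_
        simpa using h1
      calc Y * (γ : Matrix (Idx m n) (Idx m n) F) * Y = Y * Z * (γ : Matrix (Idx m n) (Idx m n) F) := by
            simp only [Z, mul_assoc, Units.inv_mul, mul_one]
        _ = 0 := by rw [hYZ, zero_mul]
    have h1 : rx l ((-2 : F) • (X * D * X)) = 0 := by rw [hRY, hY0, kronecker_zero]
    rw [map_smul] at h1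
    exact (rx l).injective (by rw [(smul_eq_zero.1 h1).resolve_left (neg_ne_zero.2 h2), map_zero])
  have hsk := hD.skew hS (c := b') hb'v hf
  rw [LinearMap.smulRight_apply, hb', one_smul] at hsk
  have h1 := transpose_of_slotZero hJ hzero
  rw [transpose_mul, Jt_transpose hJ, Matrix.mul_smul, hsk, smul_neg] at h1
  have h3 : (2 : F) • ((-1 : F) ^ (n + 1) • (Jt J (n + 1) * D)) = 0 := by
    rw [two_smul]; nth_rw 1 [← h1]; rw [neg_add_cancel]
  rw [smul_smul, smul_eq_zero, or_iff_right (mul_ne_zero h2 (pow_ne_zero _ (neg_ne_zero.2 one_ne_zero)))] at h3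
  obtain ⟨u, hu⟩ := Jt_isUnit (t := n + 1) hJ
  rw [← hu] at h3
  exact (Units.mul_right_eq_zero u).1 h3

/-- The radical is scalar at every splitting. -/
theorem radAll {J : Matrix (Fin m) (Fin m) F} (hJ : Alt J) (h2 : (2 : F) ≠ 0) : RadAll J := by
  classical
  intro t M ht hM hs i v c₀ hv hvc₀ hind η hηv hηφ hηker hin
  obtain ⟨n, rfl⟩ : ∃ n, t = n + 1 := ⟨t - 1, by omega⟩
  have hm0 : m ≠ 0 := by rintro rfl; exact hv (Subsingleton.elim _ _)
  haveI : NeZero m := ⟨hm0⟩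
  have hS := hM.sset hJ hs i
  obtain ⟨Ku, hKu⟩ := hS.Kunit
  obtain ⟨g, hg, hgη⟩ := hin
  obtain ⟨f, hf⟩ := hJ.exists_pair hv
  obtain ⟨θ, hθ⟩ := exists_dot_eq_one hv
  let L : (Fin m → F) →ₗ[F] Matrix (Idx m (n + 1)) (Idx m (n + 1)) F :=
    { toFun := fun c => LinearMap.toMatrix' (ct θ ∘ₗ η.mulVecLin ∘ₗ pl c)
      map_add' := fun c d => by
        rw [← map_add]; congr 1; refine LinearMap.ext fun u => ?_
        simp [pl_add_left, mulVec_add]
      map_smul' := fun a c => by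
        rw [RingHom.id_apply, ← map_smul]; congr 1; refine LinearMap.ext fun u => ?_
        simp [pl_smul_left, mulVec_smul] }
  have hL : ∀ c u, fm J v c = 0 → η *ᵥ pl c u = pl v (L c *ᵥ u) := by
    intro c u hc
    obtain ⟨w, hw⟩ := hηker (pl c u) (by rw [ct_pl, ← fm_apply, hc, zero_smul])
    rw [hw]
    congr 1
    show w = LinearMap.toMatrix' (ct θ ∘ₗ η.mulVecLin ∘ₗ pl c) *ᵥ u
    rw [LinearMap.toMatrix'_mulVec]
    simp [hw, ct_pl, hθ]
  have hLv : L v = 0 := Matrix.ext_of_mulVec_single fun x => by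
    rw [zero_mulVec]
    refine pl_eq_zero hv ?_
    rw [← hL v _ (hJ.self v), hηv]
  let adj : Matrix (Idx m (n + 1)) (Idx m (n + 1)) F → Matrix (Idx m (n + 1)) (Idx m (n + 1)) F :=
    fun D => ((Ku⁻¹ : GL (Idx m (n + 1)) F) : Matrix (Idx m (n + 1)) (Idx m (n + 1)) F) * Dᵀ * Jt J (n + 1)
  have hiso : Iso (J ⊗ₖ Jt J (n + 1)) (1 + η) := by rw [← hgη]; exact hS.iso g hg
  have hct : ∀ c z, fm J v c = 0 → ct (c ᵥ* J) (η *ᵥ z) = -(adj (L c) *ᵥ ct (v ᵥ* J) z) := fun c z hc =>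
    pair_radical Ku hKu hiso hηφ (fun u => hL c u hc) z
  -- the symmetric part
  have hsym : ∀ c, fm J v c = 0 → ∃ e : F, L c + adj (L c) = e • 1 := by
    intro c hc
    set S := Srt J v c ⊗ₖ (1 : Matrix (Idx m (n + 1)) (Idx m (n + 1)) F)
    have hSin : In (Ms i M) (1 + S) := by
      have h1 := hS.isom _ (hJ.iso_srt (v := v) hc)
      rwa [add_kronecker, one_kronecker_one] at h1
    have hSz : ∀ z, S *ᵥ z = pl c (ct (v ᵥ* J) z) + pl v (ct (c ᵥ* J) z) := Srt_kron_mulVec J v c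
    have hN : η * S - S * η = Xm J v ⊗ₖ (L c + adj (L c)) := Matrix.ext_of_mulVec_single fun x => by
      rw [sub_mulVec, ← mulVec_mulVec, ← mulVec_mulVec, hSz, hSz, mulVec_add, hL c _ hc, hηv, hηφ, map_zero, zero_add,
        hct c _ hc, map_neg, add_zero, Xm, kron_vecMulVec_mulVec, add_mulVec, map_add, sub_neg_eq_add]
    have hk : ∀ (Y : Matrix (Idx m (n + 1)) (Idx m (n + 1)) F) (R : Matrix (Fin m × Idx m (n + 1)) (Fin m × Idx m (n + 1)) F),
        (∀ z, ct (v ᵥ* J) (R *ᵥ z) = 0) → (Xm J v ⊗ₖ Y) * R = 0 := fun Y R hR => Matrix.ext_of_mulVec_single fun x => by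
      rw [← mulVec_mulVec, Xm, kron_vecMulVec_mulVec, hR, mulVec_zero, map_zero, zero_mulVec]
    refine hS.scal v hv _ ?_
    rw [← hN]
    refine in_comm ⟨g, hg, hgη⟩ hSin ?_ ?_
    · rw [hN]; exact hk _ _ hηφ
    · rw [hN]
      refine hk _ _ fun z => ?_
      rw [hSz, map_add, ct_pl, ct_pl, ← fm_apply, ← fm_apply, hc, hJ.self, zero_smul, zero_smul, add_zero]
  let x₀ : Idx m (n + 1) := 0
  let ψ : (Fin m → F) →ₗ[F] F :=
    { toFun := fun c => (2 : F)⁻¹ * ((L (c - fm J v c • f) + adj (L (c - fm J v c • f))) x₀ x₀)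
      map_add' := fun c d => by
        rw [← mul_add]; congr 1
        rw [map_add, add_smul, show c + d - (fm J v c • f + fm J v d • f) = (c - fm J v c • f) + (d - fm J v d • f) by abel,
          map_add]
        simp only [adj, Matrix.add_apply, transpose_add, mul_add, add_mul]
        ring
      map_smul' := fun a c => by
        rw [RingHom.id_apply, smul_eq_mul, ← mul_left_comm]
        congr 1
        rw [map_smul, smul_eq_mul, mul_smul, ← smul_sub, map_smul]
        simp only [adj, Matrix.add_apply, transpose_smul, Matrix.smul_apply, Matrix.mul_smul, Matrix.smul_mul, smul_eq_mul]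
        ring }
  have hψ : ∀ c, fm J v c = 0 → L c + adj (L c) = (2 * ψ c) • 1 := by
    intro c hc
    obtain ⟨e, he⟩ := hsym c hc
    rw [he]
    congr 1
    show e = 2 * ((2 : F)⁻¹ * _)
    rw [hc, zero_smul, sub_zero, he, ← mul_assoc, mul_inv_cancel₀ h2, one_mul]
    simp
  obtain ⟨Ju, hJu⟩ := (Matrix.isUnit_iff_isUnit_det J).2 hJ.det.isUnit
  obtain ⟨c₁, hc₁⟩ : ∃ c₁, ∀ c, fm J c₁ c = ψ c := by
    refine ⟨(fun k => ψ (Pi.single k 1)) ᵥ* ((Ju⁻¹ : GL (Fin m) F) : Matrix (Fin m) (Fin m) F), fun c => ?_⟩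
    rw [fm_apply, vecMul_vecMul, ← hJu, Units.inv_mul, vecMul_one]
    conv_rhs => rw [pi_eq_sum_univ' c, map_sum]
    simp [dotProduct, mul_comm]
  have hvc₁ : fm J v c₁ = 0 := by
    rw [hJ.flip c₁ v, hc₁, neg_eq_zero]
    have h0 : L v + adj (L v) = (2 * ψ v) • 1 := hψ v (hJ.self v)
    rw [hLv] at h0
    have h0' := congrFun (congrFun h0 x₀) x₀
    simp [adj] at h0'
    exact (h0'.resolve_left h2)
  -- remove it
  obtain ⟨a, ha, haS⟩ := hS.isom _ (hJ.iso_srt (v := v) (c := -c₁) (by rw [map_neg, hvc₁, neg_zero]))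
  rw [add_kronecker, one_kronecker_one] at haS
  have haz : ∀ z, (a : Matrix (Fin m × Idx m (n + 1)) (Fin m × Idx m (n + 1)) F) *ᵥ z =
      z + (pl (-c₁) (ct (v ᵥ* J) z) + pl v (ct ((-c₁) ᵥ* J) z)) := fun z => by
    rw [haS, add_mulVec, one_mulVec, Srt_kron_mulVec]
  let L' := L - ψ.smulRight 1
  have hL'v : L' v = 0 := by
    have h0 : ψ v = 0 := by rw [← hc₁, hJ.flip v c₁, hvc₁, neg_zero]
    simp [L', hLv, h0]
  have hP : (∀ z, ct (v ᵥ* J) (((g * a : GL (Fin m × Idx m (n + 1)) F) : Matrix (Fin m × Idx m (n + 1)) (Fin m × Idx m (n + 1)) F) *ᵥ z) = ct (v ᵥ* J) z) ∧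
      (∀ c u, fm J v c = 0 → ((g * a : GL (Fin m × Idx m (n + 1)) F) : Matrix (Fin m × Idx m (n + 1)) (Fin m × Idx m (n + 1)) F) *ᵥ pl c u =
        pl c u + pl v (L' c *ᵥ u)) ∧
      ∀ c z, fm J v c = 0 → ct (c ᵥ* J) (((g * a : GL (Fin m × Idx m (n + 1)) F) : Matrix (Fin m × Idx m (n + 1)) (Fin m × Idx m (n + 1)) F) *ᵥ z) =
        ct (c ᵥ* J) z + L' c *ᵥ ct (v ᵥ* J) z := by
    refine ⟨fun z => ?_, fun c u hc => ?_, fun c z hc => ?_⟩
    · rw [Units.val_mul, ← mulVec_mulVec, hgη, add_mulVec, one_mulVec, map_add, hηφ, add_zero, haz, map_add, map_add,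
        ct_pl, ct_pl, ← fm_apply, ← fm_apply, map_neg, hvc₁, hJ.self, neg_zero, zero_smul, zero_smul, add_zero, add_zero]
    · rw [Units.val_mul, ← mulVec_mulVec, haz, ct_pl, ct_pl, ← fm_apply, ← fm_apply, hc, zero_smul, map_zero, zero_add,
        hgη, add_mulVec, one_mulVec, mulVec_add, hL c u hc, hηv, add_zero, map_neg, LinearMap.neg_apply, hc₁,
        LinearMap.sub_apply, LinearMap.smulRight_apply, sub_mulVec, smul_mulVec, one_mulVec, map_sub, neg_smul, map_neg]
      abel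
    · have hα : ct (v ᵥ* J) ((a : Matrix (Fin m × Idx m (n + 1)) (Fin m × Idx m (n + 1)) F) *ᵥ z) = ct (v ᵥ* J) z := by
        rw [haz, map_add, map_add, ct_pl, ct_pl, ← fm_apply, ← fm_apply, map_neg, hvc₁, hJ.self, neg_zero, zero_smul,
          zero_smul, add_zero, add_zero]
      rw [Units.val_mul, ← mulVec_mulVec, hgη, add_mulVec, one_mulVec, map_add, hct c _ hc, hα, haz, map_add, map_add,
        ct_pl, ct_pl, ← fm_apply, ← fm_apply, show fm J c v = 0 by rw [hJ.flip v c, hc, neg_zero], zero_smul, add_zero,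
        map_neg, hJ.flip c₁ c, hc₁, neg_neg, LinearMap.sub_apply, LinearMap.smulRight_apply, sub_mulVec, smul_mulVec,
        one_mulVec, eq_sub_of_add_eq' (hψ c hc), sub_mulVec, smul_mulVec, one_mulVec]
      module
  have hRd : Rd J (Ms i M) v L' := ⟨hL'v, g * a, mul_mem hg ha, hP⟩
  have hL0 : ∀ c, fm J v c = 0 → L' c = 0 := by
    intro u hu
    by_cases hline : ∃ s : F, u = s • v
    · obtain ⟨s, rfl⟩ := hline
      rw [map_smul, hRd.1, smul_zero]
    push Not at hline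
    have hA' := iso_root hJ u 1
    have hAv : (1 + (1 : F) • Xm J u) *ᵥ v = v := by
      rw [add_mulVec, one_mulVec, smul_mulVec, Xm_mulVec, hJ.flip v u, hu, neg_zero, zero_smul, smul_zero, add_zero]
    have h1 := (hRd.conj_left hS hA' (root_mul hJ u 1) hAv).add hJ (hRd.neg hJ)
    have e : L' ∘ₗ (1 + (-1 : F) • Xm J u).mulVecLin + -L' = (fm J u).smulRight (-L' u) := by
      refine LinearMap.ext fun c => ?_
      simp only [LinearMap.add_apply, LinearMap.comp_apply, Matrix.mulVecLin_apply, LinearMap.neg_apply, add_mulVec,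
        one_mulVec, smul_mulVec, neg_mulVec, Xm_mulVec, map_add, map_smul, map_neg, LinearMap.smulRight_apply, smul_neg,
        neg_smul, one_smul]
      abel
    rw [e] at h1
    exact neg_eq_zero.1 (rd_eq_zero hJ h2 hM hs i hv hu hline h1)
  obtain ⟨hkφ, hkr, hkc⟩ := hP
  set k := g * a with hkdef
  have hk : k ∈ Ms i M := mul_mem hg ha
  let E := LinearMap.toMatrix' (ct (-(f ᵥ* J)) ∘ₗ
    (((k : Matrix (Fin m × Idx m (n + 1)) (Fin m × Idx m (n + 1)) F) - 1).mulVecLin ∘ₗ pl f))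
  have hkE : (k : Matrix (Fin m × Idx m (n + 1)) (Fin m × Idx m (n + 1)) F) = 1 + Xm J v ⊗ₖ E := by
    refine ext_pl fun c u => ?_
    have hc : fm J v (c - fm J v c • f) = 0 := by rw [map_sub, map_smul, hf, smul_eq_mul, mul_one, sub_self]
    have hperp : ∀ d, fm J v d = 0 →
        ct (d ᵥ* J) ((k : Matrix (Fin m × Idx m (n + 1)) (Fin m × Idx m (n + 1)) F) *ᵥ pl f u - pl f u) = 0 := fun d hd => by
      rw [map_sub, hkc d _ hd, hL0 d hd, zero_mulVec, add_zero, sub_self]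
    have hkf := eq_pl_of_perp hJ hf hperp
    rw [sub_eq_iff_eq_add'] at hkf
    have hEu : E *ᵥ u = ct (-(f ᵥ* J)) ((k : Matrix (Fin m × Idx m (n + 1)) (Fin m × Idx m (n + 1)) F) *ᵥ pl f u - pl f u) := by
      rw [LinearMap.toMatrix'_mulVec]
      simp [sub_mulVec]
    conv_lhs => rw [← sub_add_cancel c (fm J v c • f), pl_add_left, mulVec_add, hkr _ u hc, hL0 _ hc, zero_mulVec,
      map_zero, add_zero, pl_smul_left, mulVec_smul, hkf, ← hEu, pl_sub_left, pl_smul_left, smul_add]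
    rw [add_mulVec, one_mulVec, Xm, kron_vecMulVec_mulVec, ct_pl, ← fm_apply, mulVec_smul, map_smul]
    abel
  obtain ⟨e, he⟩ := hS.scal v hv E ⟨k, hk, hkE⟩
  refine ⟨c₁, e, hvc₁, ?_⟩
  rw [hkdef, Units.val_mul, hgη, haS, he, kronecker_smul, ← smul_kronecker] at hkE
  set S₁ := Srt J v c₁ ⊗ₖ (1 : Matrix (Idx m (n + 1)) (Idx m (n + 1)) F)
  set X₁ := (e • Xm J v) ⊗ₖ (1 : Matrix (Idx m (n + 1)) (Idx m (n + 1)) F)
  have hneg : Srt J v (-c₁) ⊗ₖ (1 : Matrix (Idx m (n + 1)) (Idx m (n + 1)) F) = -S₁ := by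
    rw [show -S₁ = (-1 : F) • S₁ by simp, ← smul_kronecker]
    congr 1
    simp [Srt, neg_vecMulVec, vecMulVec_neg, neg_vecMul]
  have hSS : S₁ * S₁ = 0 := Matrix.ext_of_mulVec_single fun x => by
    rw [← mulVec_mulVec, Srt_kron_mulVec, Srt_kron_mulVec, zero_mulVec]
    simp [map_add, ct_pl, ← fm_apply, hvc₁, hJ.self, show fm J c₁ v = 0 by rw [hJ.flip v c₁, hvc₁, neg_zero]]
  have hXS : X₁ * S₁ = 0 := Matrix.ext_of_mulVec_single fun x => by
    rw [← mulVec_mulVec, Srt_kron_mulVec, zero_mulVec]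
    simp [X₁, smul_kronecker, smul_mulVec, Xm, kron_vecMulVec_mulVec, map_add, ct_pl, ← fm_apply, hvc₁, hJ.self]
  rw [hneg] at hkE
  rw [add_kronecker]
  have h1 := congrArg (· * (1 + S₁)) hkE
  simp only [mul_assoc] at h1
  rw [show (1 + -S₁) * (1 + S₁) = 1 by rw [add_mul, one_mul, neg_mul, mul_add, mul_one, hSS]; abel, mul_one, add_mul,
    one_mul, mul_add, mul_one, hXS, add_zero, add_assoc, add_right_inj] at h1
  exact h1

end CfsgLib.TensorSympWreath
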