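import Cfsg.Agent.Lib.TensorSympWreath.Maximal
import Cfsg.Agent.Lib.TensorSympWreath.Radical

/-!
The stabiliser of an odd tensor power of a symplectic space is maximal for fields of odd order at least five.
-/

set_option autoImplicit false

namespace CfsgLib.TensorSympWreath

variable {F : Type*} [Field F] [Fintype F]

theorem two_ne_zero_of_odd (hodd : Odd (Fintype.card F)) : (2 : F) ≠ 0 :=
  Ring.two_ne_zero fun h => by
    have := FiniteField.even_card_of_char_two h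
    rw [Nat.odd_iff] at hodd
    omega

theorem exists_sq_ne_one (hq : 4 ≤ Fintype.card F) : ∃ a : F, a ≠ 0 ∧ a ^ 2 ≠ 1 := by
  classical
  obtain ⟨a, -, ha⟩ := Finset.exists_mem_notMem_of_card_lt_card (s := ({0, 1, -1} : Finset F)) (t := Finset.univ) (by
    rw [Finset.card_univ]
    exact lt_of_le_of_lt Finset.card_le_three (by omega))
  simp only [Finset.mem_insert, Finset.mem_singleton, not_or] at ha
  exact ⟨a, ha.1, fun h => (sq_eq_one_iff.1 h).elim ha.2.1 ha.2.2⟩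

theorem two_le_of_symplectic {k : ℕ} {f₁ : (Fin k → F) → (Fin k → F) → F} (hf₁ : Cfsg.Geo.IsSymplecticForm f₁)
    (hk : k ≠ 0) : 2 ≤ k := by
  by_contra h
  obtain rfl : k = 1 := by omega
  obtain ⟨x, hx⟩ := (hf₁.nondegenerate (fun _ => 1) fun h0 => one_ne_zero (congrFun h0 0)).2
  rw [show x = x 0 • (fun _ => 1 : Fin 1 → F) from funext fun i => by fin_cases i; simp,
    CfsgLib.GeomClasses.Symp.smul_right hf₁, hf₁.alternating, mul_zero] at hx
  exact hx rfl

/-- Maximality for fields of odd order at least five. -/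
theorem maximal_five {k t : ℕ} (hodd : Odd (Fintype.card F)) (hq : 4 ≤ Fintype.card F) (hk : 2 ≤ k) (ht : Odd t)
    (ht3 : 3 ≤ t) {n : ℕ} (e : (Fin n ⊕ Fin n) ≃ (Fin t → Fin k)) (P : GL (Fin n ⊕ Fin n) F)
    {f₁ : (Fin k → F) → (Fin k → F) → F} (hf₁ : Cfsg.Geo.IsSymplecticForm f₁)
    (hT : Cfsg.Geo.IsTensorPowerFormStructure id (Cfsg.sympForm n F) f₁ e P) :
    Cfsg.Geo.IsMaximalIn (Cfsg.spGL n F) (Cfsg.Geo.tensorWreathSubgroup k t e P ⊓ Cfsg.spGL n F) := by
  obtain ⟨a₀, ha₀, ha₀2⟩ := exists_sq_ne_one hq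
  have h2 := two_ne_zero_of_odd hodd
  have hfm : ∀ u v, fm (Cfsg.Geo.gramMatrix f₁) u v = f₁ u v := fun u v => by
    rw [fm, Matrix.toBilin'_apply]
    exact (CfsgLib.Maximal.TensorTools.bilinear_expand hf₁.bilinear u v).symm
  have hJ : Alt (Cfsg.Geo.gramMatrix f₁) := ⟨fun v => by rw [← fm_apply, hfm, hf₁.alternating], fun h0 => by
    obtain ⟨v, hv, hvJ⟩ := Matrix.exists_vecMul_eq_zero_iff.2 h0
    obtain ⟨x, hx⟩ := (hf₁.nondegenerate v hv).2
    exact hx (by rw [← hfm, fm_apply, hvJ, zero_dotProduct])⟩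
  exact maximal hk h2 ht ht3 e P hf₁ hT
    (rigid hJ hk h2 (by rw [Nat.card_eq_fintype_card]; omega) ha₀ ha₀2 (radAll hJ h2) t (by omega))

end CfsgLib.TensorSympWreath
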