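import Cfsg.Agent.Lib.TensorSympWreath.Centre

/-!
Operators on a tensor power one slot at a time: sandwiches by transvection directions.
-/

set_option autoImplicit false
set_option linter.unusedSectionVars false
set_option linter.unusedSimpArgs false

namespace CfsgLib.TensorSympWreath

open Matrix
open scoped Kronecker
open CfsgLib.Maximal.TensorPower
open CfsgLib.TensorWreathMax (Idx split rx rx_slot_same split_symm_apply pl ct exists_perp_eq_one exists_dot_eq_one)

attribute [-simp] Matrix.coe_units_inv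

variable {F : Type*} [Field F] {m n : ℕ} {μ : Type} [Fintype μ] [DecidableEq μ]

/-- The block of an operator at two indices of the other slots. -/
def blk (R : Matrix (Fin m × μ) (Fin m × μ) F) (x y : μ) : Matrix (Fin m) (Fin m) F :=
  Matrix.of fun p q => R (p, x) (q, y)

theorem blk_ext {R S : Matrix (Fin m × μ) (Fin m × μ) F} (h : ∀ x y, blk R x y = blk S x y) : R = S := by
  ext ⟨p, x⟩ ⟨q, y⟩; exact congrFun (congrFun (h x y) p) q

theorem blk_kron (A : Matrix (Fin m) (Fin m) F) (Y : Matrix μ μ F) (x y : μ) : blk (A ⊗ₖ Y) x y = Y x y • A := by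
  ext p q; simp [blk, mul_comm]

theorem blk_sandwich (A B : Matrix (Fin m) (Fin m) F) (R : Matrix (Fin m × μ) (Fin m × μ) F) (x y : μ) :
    blk ((A ⊗ₖ (1 : Matrix μ μ F)) * R * (B ⊗ₖ (1 : Matrix μ μ F))) x y = A * blk R x y * B := by
  ext p q
  simp [blk, Matrix.mul_apply, Fintype.sum_prod_type, Matrix.one_apply, mul_ite, ite_mul, Finset.sum_ite_eq,
    Finset.sum_ite_eq']

theorem blk_add (R S : Matrix (Fin m × μ) (Fin m × μ) F) (x y : μ) : blk (R + S) x y = blk R x y + blk S x y := by
  ext p q; simp [blk]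

/-- The isotropic direction pair. -/
def Am (J : Matrix (Fin m) (Fin m) F) (a b : Fin m → F) : Matrix (Fin m) (Fin m) F :=
  vecMulVec b (a ᵥ* J) - vecMulVec a (b ᵥ* J)

theorem Xm_mul_mul (J : Matrix (Fin m) (Fin m) F) (B : Matrix (Fin m) (Fin m) F) (a b : Fin m → F) :
    Xm J a * B * Xm J b = fm J a (B *ᵥ b) • vecMulVec a (b ᵥ* J) := by
  rw [Xm, Xm, vecMulVec_mul, vecMulVec_mul_vecMulVec, ← dotProduct_mulVec, ← fm_apply, vecMulVec_smul]

/-- A block all of whose sandwiches vanish is self-adjoint. -/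
theorem alt_of_sandwich {J : Matrix (Fin m) (Fin m) F} (hJ : Alt J) {B : Matrix (Fin m) (Fin m) F}
    (h : ∀ a, Xm J a * B * Xm J a = 0) (a : Fin m → F) : fm J a (B *ᵥ a) = 0 := by
  rcases eq_or_ne a 0 with rfl | ha
  · simp
  have h1 := h a
  rw [Xm_mul_mul] at h1
  exact (smul_eq_zero.1 h1).resolve_right (hJ.Xm_ne_zero ha)

theorem flip_of_sandwich {J : Matrix (Fin m) (Fin m) F} (hJ : Alt J) {B : Matrix (Fin m) (Fin m) F}
    (h : ∀ a, Xm J a * B * Xm J a = 0) (a b : Fin m → F) : fm J a (B *ᵥ b) = -fm J b (B *ᵥ a) := by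
  have h1 := alt_of_sandwich hJ h (a + b)
  simp only [mulVec_add, map_add, LinearMap.add_apply, alt_of_sandwich hJ h a, alt_of_sandwich hJ h b, zero_add,
    add_zero] at h1
  exact eq_neg_of_add_eq_zero_right h1

/-- Two sandwiches in an isotropic pair give a multiple of its direction pair. -/
theorem sandwich_pair {J : Matrix (Fin m) (Fin m) F} (hJ : Alt J) {B : Matrix (Fin m) (Fin m) F}
    (h : ∀ a, Xm J a * B * Xm J a = 0) (a b : Fin m → F) :
    Xm J a * B * Xm J b + Xm J b * B * Xm J a = fm J b (B *ᵥ a) • Am J a b := by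
  rw [Xm_mul_mul, Xm_mul_mul, flip_of_sandwich hJ h a b, Am, smul_sub, neg_smul]
  abel

/-- If the isotropic pairs vanish as well the block is a scalar. -/
theorem scalar_of_sandwich {J : Matrix (Fin m) (Fin m) F} (hJ : Alt J) [NeZero m] {B : Matrix (Fin m) (Fin m) F}
    (h : ∀ a, Xm J a * B * Xm J a = 0)
    (h' : ∀ a b, fm J a b = 0 → Xm J a * B * Xm J b + Xm J b * B * Xm J a = 0) : ∃ c : F, B = c • 1 := by
  have hperp : ∀ a b, fm J a b = 0 → fm J b (B *ᵥ a) = 0 := by
    intro a b hab
    have h1 := h' a b hab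
    rw [sandwich_pair hJ h] at h1
    refine (smul_eq_zero.1 h1).elim id fun h2 => ?_
    by_cases hb : ∃ s : F, b = s • a
    · obtain ⟨s, rfl⟩ := hb
      rw [map_smul, LinearMap.smul_apply, alt_of_sandwich hJ h a, smul_zero]
    · push Not at hb
      rcases eq_or_ne a 0 with rfl | ha
      · simp
      exfalso
      obtain ⟨θ, hθa, hθb⟩ := exists_perp_eq_one (x := a) (y := b) hb
      obtain ⟨f, hf⟩ := hJ.exists_pair ha
      have h3 := congrArg (fun X => θ ⬝ᵥ X *ᵥ f) h2
      simp only [Am, sub_mulVec, vecMulVec_mulVec, op_smul_eq_smul, ← fm_apply, hf, one_smul, dotProduct_sub,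
        dotProduct_smul, hθa, hθb, smul_zero, sub_zero, zero_mulVec, dotProduct_zero] at h3
      exact one_ne_zero h3
  have hline : ∀ a, ∃ s : F, B *ᵥ a = s • a := by
    intro a
    by_cases hcol : ∀ s : F, B *ᵥ a ≠ s • a
    · exfalso
      obtain ⟨θ, hθ, hθ'⟩ := exists_perp_eq_one (x := a) (y := B *ᵥ a) hcol
      obtain ⟨Ju, hJu⟩ := (Matrix.isUnit_iff_isUnit_det J).2 hJ.det.isUnit
      have hb : (θ ᵥ* ((Ju⁻¹ : GL (Fin m) F) : Matrix (Fin m) (Fin m) F)) ᵥ* J = θ := by
        rw [vecMul_vecMul, ← hJu, Units.inv_mul, vecMul_one]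
      set b := θ ᵥ* ((Ju⁻¹ : GL (Fin m) F) : Matrix (Fin m) (Fin m) F)
      have h1 := hperp a b (by rw [hJ.flip b a, fm_apply, hb, hθ, neg_zero])
      rw [fm_apply, hb, hθ'] at h1
      exact one_ne_zero h1
    · push Not at hcol
      exact hcol
  -- all the eigenvalues agree
  obtain ⟨s₀, hs₀⟩ := hline (Pi.single 0 1)
  refine ⟨s₀, Matrix.ext_of_mulVec_single fun l => ?_⟩
  rw [smul_mulVec, one_mulVec]
  rcases eq_or_ne l 0 with rfl | hl
  · exact hs₀
  obtain ⟨s, hs⟩ := hline (Pi.single l 1)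
  obtain ⟨r, hr⟩ := hline (Pi.single 0 1 + Pi.single l 1)
  rw [mulVec_add, hs₀, hs, smul_add] at hr
  have e0 := congrFun hr 0
  have el := congrFun hr l
  simp [Pi.single_apply, hl, Ne.symm hl] at e0 el
  rw [hs, el, e0]

/-- All sandwiches in a slot vanish. -/
def SlotZero (J : Matrix (Fin m) (Fin m) F) (Z : Matrix (Idx m n) (Idx m n) F) (l : Fin n) : Prop :=
  ∀ a, slot l (Xm J a) * Z * slot l (Xm J a) = 0

theorem SlotZero.blk_eq {J : Matrix (Fin m) (Fin m) F} {Z : Matrix (Idx m (n + 1)) (Idx m (n + 1)) F} {l : Fin (n + 1)}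
    (h : SlotZero J Z l) (x y : Idx m n) (a : Fin m → F) :
    Xm J a * blk (rx l Z) x y * Xm J a = 0 := by
  have h1 := congrArg (fun R => blk R x y) (congrArg (rx l) (h a))
  simp only [map_mul, map_zero, rx_slot_same, blk_sandwich] at h1
  rw [h1]; ext p q; rfl

/-- The form of a slot-wise self-adjoint operator changes sign on exchanging a slot. -/
theorem SlotZero.swap {J : Matrix (Fin m) (Fin m) F} (hJ : Alt J) {Z : Matrix (Idx m n) (Idx m n) F} {l : Fin n}
    (h : SlotZero J Z l) (x y : Idx m n) :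
    (Jt J n * Z) (Function.update x l (y l)) (Function.update y l (x l)) = -(Jt J n * Z) x y := by
  obtain ⟨n, rfl⟩ : ∃ n', n = n' + 1 := ⟨n - 1, by have := l.pos; omega⟩
  set R := rx l Z
  have hB : ∀ z w (p q : Fin m), (J * blk R z w) p q = -(J * blk R z w) q p := fun z w p q => by
    have h1 := flip_of_sandwich hJ (fun a => h.blk_eq z w a) (Pi.single p 1) (Pi.single q 1)
    simpa [fm_apply, mulVec_single_one, Matrix.mul_apply, dotProduct, R] using h1
  have hM : ∀ u w : Idx m (n + 1), (Jt J (n + 1) * Z) u w = ∑ z, Jt J n (l.removeNth u) z * (J * blk R z (l.removeNth w)) (u l) (w l) := by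
    intro u w
    simp only [Matrix.mul_apply]
    rw [← Equiv.sum_comp (split l).symm, Fintype.sum_prod_type, Finset.sum_comm]
    refine Finset.sum_congr rfl fun z _ => ?_
    rw [Finset.mul_sum]
    refine Finset.sum_congr rfl fun s _ => ?_
    simp only [R, blk, Matrix.of_apply, Matrix.reindexAlgEquiv_apply, Matrix.reindex_apply, Matrix.submatrix_apply,
      split_symm_apply, Fin.insertNth_self_removeNth, Jt, pm]
    rw [Fin.prod_univ_succAbove _ l]
    simp [Fin.removeNth]
    ring
  rw [hM, hM, ← Finset.sum_neg_distrib]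
  refine Finset.sum_congr rfl fun z _ => ?_
  rw [Fin.removeNth_update, Fin.removeNth_update, Function.update_self, Function.update_self, hB, mul_neg]

/-- An operator all of whose slot sandwiches vanish is self-adjoint. -/
theorem transpose_of_slotZero {J : Matrix (Fin m) (Fin m) F} (hJ : Alt J) {Z : Matrix (Idx m n) (Idx m n) F}
    (h : ∀ l, SlotZero J Z l) : (Jt J n * Z)ᵀ = (-1 : F) ^ n • (Jt J n * Z) := by
  classical
  have hS : ∀ S : Finset (Fin n), ∀ x y : Idx m n,
      (Jt J n * Z) (fun i => if i ∈ S then y i else x i) (fun i => if i ∈ S then x i else y i) =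
        (-1 : F) ^ S.card * (Jt J n * Z) x y := by
    intro S
    induction S using Finset.induction_on with
    | empty => intro x y; simp
    | insert l S hl ih =>
      intro x y
      rw [Finset.card_insert_of_notMem hl, pow_succ', mul_assoc, ← ih x y, neg_one_mul, ← (h l).swap hJ]
      refine congrArg₂ _ ?_ ?_ <;>
      · funext i
        rcases eq_or_ne i l with rfl | hi
        · simp [hl]
        · simp [hi]
  ext x y
  have h1 := hS Finset.univ x y
  simpa using h1

end CfsgLib.TensorSympWreath
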