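import Cfsg.Agent.Lib.TensorSympWreath.Classify

/-!
Elements conjugating the slot transvections into a group: those mapping a centre to a centre are monomial.
-/

set_option autoImplicit false
set_option linter.unusedSectionVars false
set_option linter.unusedSimpArgs false

namespace CfsgLib.TensorSympWreath

open Matrix
open scoped Kronecker
open CfsgLib.Maximal.TensorPower
open CfsgLib.TensorWreathMax (Idx split rx In Ms Gam rightHom in_ms_rx rx_pm rx_slot_same rx_slot_succAbove permM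
  permM_mulVec permM_mul_pm Mon isMonomial_mul isMonomial_inv isMonomial_of_one exists_monomial tvec tvec_tp
  rx_mulVec_tvec pl ct ct_pl kronecker_mulVec_pl)

attribute [-simp] Matrix.coe_units_inv

variable {F : Type*} [Field F] {m t : ℕ}

/-- The slot transvections are conjugated into the group. -/
def Conj (J : Matrix (Fin m) (Fin m) F) (M : Subgroup (GL (Idx m t) F)) (g : GL (Idx m t) F) : Prop :=
  ∀ i v (c : F), In M (1 + c • ((g : Matrix (Idx m t) (Idx m t) F) * slot i (Xm J v) *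
    ((g⁻¹ : GL (Idx m t) F) : Matrix _ _ F)))

/-- What is to be proved for `t` factors. -/
def Rigid (J : Matrix (Fin m) (Fin m) F) (t : ℕ) : Prop :=
  ∀ M : Subgroup (GL (Idx m t) F), Setting J M → Scal J M → ∀ g : GL (Idx m t) F,
    Sim (Jt J t) (g : Matrix (Idx m t) (Idx m t) F) → Conj J M g → IsMonomial g

/-- The final step holds at each splitting. -/
def FinAll (J : Matrix (Fin m) (Fin m) F) : Prop :=
  ∀ (t : ℕ) (M : Subgroup (GL (Idx m (t + 1)) F)), 1 ≤ t → Setting J M → Scal J M → ∀ i, Fin' J (Ms i M)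

/-- The radical is scalar at each splitting. -/
def RadAll (J : Matrix (Fin m) (Fin m) F) : Prop :=
  ∀ (t : ℕ) (M : Subgroup (GL (Idx m (t + 1)) F)), 1 ≤ t → Setting J M → Scal J M → ∀ i, Rad J (Ms i M)

theorem Conj.of_mem {J : Matrix (Fin m) (Fin m) F} {M : Subgroup (GL (Idx m t) F)} (hM : Setting J M)
    {g : GL (Idx m t) F} (hg : g ∈ M) : Conj J M g := fun i v c => by
  convert In.conj hg (hM.root i v c) using 2
  rw [mul_smul_comm, smul_mul_assoc]

/-- The slot isometries are in the group. -/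
theorem Setting.slot_iso {J : Matrix (Fin m) (Fin m) F} (hJ : Alt J) {M : Subgroup (GL (Idx m t) F)}
    (hM : Setting J M) {A : Matrix (Fin m) (Fin m) F} (hA : Iso J A) (i : Fin t) : In M (slot i A) := by
  have hdet : A.det ≠ 0 := fun h0 => by
    have h := congrArg Matrix.det hA
    rw [det_mul, h0, mul_zero] at h
    exact hJ.det h.symm
  let u : GL (Fin m) F := GeneralLinearGroup.mkOfDetNeZero A hdet
  let e : (Fin m → F) ≃ₗ[F] (Fin m → F) :=
    { toFun := fun x => A *ᵥ x
      map_add' := fun x y => mulVec_add A x y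
      map_smul' := fun a x => mulVec_smul A a x
      invFun := fun x => ((u⁻¹ : GL (Fin m) F) : Matrix (Fin m) (Fin m) F) *ᵥ x
      left_inv := fun x => GeomClasses.gl_inv_mulVec_mulVec u x
      right_inv := fun x => GeomClasses.gl_mulVec_inv_mulVec u x }
  have he : e ∈ CfsgLib.Sp.transvGroup (fm J) hJ.isAlt := by
    rw [← CfsgLib.Sp.isom_eq_transvGroup hJ.isAlt hJ.nondeg.1]
    intro x y
    show fm J (A *ᵥ x) (A *ᵥ y) = fm J x y
    rw [fm, Matrix.toBilin'_apply', Matrix.toBilin'_apply', ← vecMul_transpose, ← dotProduct_mulVec, mulVec_mulVec,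
      mulVec_mulVec, show Aᵀ * J * A = J from hA]
  convert hM.slot_isom hJ he i using 2
  exact (Matrix.ext_of_mulVec_single fun l => by rw [LinearMap.toMatrix'_mulVec]; rfl)

/-- The slot isometries are conjugated into the group. -/
theorem Conj.slot_iso {J : Matrix (Fin m) (Fin m) F} (hJ : Alt J) {M : Subgroup (GL (Idx m t) F)}
    (hM : Setting J M) {g : GL (Idx m t) F} (hgs : Sim (Jt J t) (g : Matrix (Idx m t) (Idx m t) F))
    (hg : Conj J M g) {A : Matrix (Fin m) (Fin m) F} (hA : Iso J A) (i : Fin t) :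
    In M ((g : Matrix (Idx m t) (Idx m t) F) * slot i A * ((g⁻¹ : GL (Idx m t) F) : Matrix _ _ F)) := by
  have hval : ∀ x : GL (Idx m t) F, ((MulAut.conj g).toMonoidHom x : Matrix (Idx m t) (Idx m t) F) =
      (g : Matrix (Idx m t) (Idx m t) F) * (x : Matrix _ _ F) * ((g⁻¹ : GL (Idx m t) F) : Matrix _ _ F) := fun x => by
    simp [MulAut.conj_apply]
  obtain ⟨c, hc, h1⟩ := hgs
  have hM' : Setting J (M.comap (MulAut.conj g).toMonoidHom) := by
    refine ⟨fun x hx => ?_, fun l u d => ?_⟩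
    · have h2 : Iso (Jt J t) _ := hM.iso _ hx
      rw [hval] at h2
      have h3 : (x : Matrix (Idx m t) (Idx m t) F)ᵀ * (c • Jt J t) * (x : Matrix _ _ F) = c • Jt J t := by
        rw [← h1]
        conv_rhs => rw [← show _ * Jt J t * _ = Jt J t from h2]
        simp only [transpose_mul, mul_assoc, Units.inv_mul, mul_one]
        simp only [← mul_assoc, ← transpose_mul, Units.inv_mul, transpose_one, one_mul]
        simp only [Units.inv_mul_cancel_right]
      rw [Matrix.mul_smul, Matrix.smul_mul] at h3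
      exact smul_right_injective _ hc h3
    · obtain ⟨z, hz, hzX⟩ := hg l u d
      have hmem : (MulAut.conj g).symm z ∈ M.comap (MulAut.conj g).toMonoidHom := by
        show (MulAut.conj g) ((MulAut.conj g).symm z) ∈ M
        rwa [MulEquiv.apply_symm_apply]
      refine ⟨_, hmem, ?_⟩
      rw [MulAut.conj_symm_apply, Units.val_mul, Units.val_mul, hzX, mul_add, mul_one, add_mul, Units.inv_mul,
        mul_smul_comm, smul_mul_assoc]
      congr 2
      simp [mul_assoc]
  obtain ⟨x, hx, hxA⟩ := hM'.slot_iso hJ hA i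
  exact ⟨_, hx, (hval x).trans (by rw [hxA])⟩

theorem Setting.sset {J : Matrix (Fin m) (Fin m) F} (hJ : Alt J) [NeZero m] {M : Subgroup (GL (Idx m (t + 1)) F)}
    (hM : Setting J M) (hs : Scal J M) (i : Fin (t + 1)) : SSet J (Jt J t) (Ms i M) := by
  refine ⟨Jt_isUnit hJ, fun g hg => ?_, fun A hA => ?_, fun v hv Y hY => ?_⟩
  · have h1 := hM.iso _ hg
    have e : rx i ((Cfsg.Geo.glReindex (F := F) (split i).symm g : GL (Idx m (t + 1)) F) :
        Matrix (Idx m (t + 1)) (Idx m (t + 1)) F) = (g : Matrix (Fin m × Idx m t) (Fin m × Idx m t) F) := by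
      ext x y; simp [Cfsg.Geo.glReindex]
    have h2 := rx_iso i (c := (1 : F)) (h1.trans (one_smul F _).symm)
    rw [one_smul] at h2
    rw [← e]
    exact h2
  · have h := in_ms_rx (i := i).2 (hM.slot_iso hJ hA i)
    rwa [rx_slot_same] at h
  · set Y' := (rx i).symm ((1 : Matrix (Fin m) (Fin m) F) ⊗ₖ Y)
    have hc : ∀ Z, Y' * slot i Z = slot i Z * Y' := fun Z => by
      refine (rx i).injective ?_
      rw [map_mul, map_mul, AlgEquiv.apply_symm_apply, rx_slot_same, ← mul_kronecker_mul, ← mul_kronecker_mul]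
      simp only [one_mul, mul_one]
    have hin : In M (1 + slot i (Xm J v) * Y') := by
      refine in_ms_rx (i := i).1 ?_
      rw [map_add, map_one, map_mul, AlgEquiv.apply_symm_apply, rx_slot_same, ← mul_kronecker_mul, mul_one, one_mul]
      exact hY
    obtain ⟨c, hc'⟩ := hs i v hv Y' hc hin
    refine ⟨c, ?_⟩
    have h1 := congrArg (rx i) hc'
    rw [AlgEquiv.apply_symm_apply, map_smul, map_one, ← one_kronecker_one, ← kronecker_smul] at h1
    exact kron_left_cancel one_ne_zero h1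

theorem in_gam {i : Fin (t + 1)} [NeZero m] {M : Subgroup (GL (Idx m (t + 1)) F)} {X : Matrix (Idx m t) (Idx m t) F}
    (h : In (Ms i M) ((1 : Matrix (Fin m) (Fin m) F) ⊗ₖ X)) : In (Gam i M) X := by
  obtain ⟨g, hg, hX⟩ := h
  have hdet : X.det ≠ 0 := by
    intro h0
    have h1 : (g : Matrix (Fin m × Idx m t) (Fin m × Idx m t) F).det ≠ 0 :=
      ((Matrix.isUnit_iff_isUnit_det _).1 ⟨g, rfl⟩).ne_zero
    rw [hX, Matrix.det_kronecker, h0, zero_pow (by simp [NeZero.ne]), mul_zero] at h1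
    exact h1 rfl
  refine ⟨GeneralLinearGroup.mkOfDetNeZero X hdet, ?_, rfl⟩
  show rightHom m (Idx m t) _ ∈ Ms i M
  convert hg
  exact Units.ext hX.symm

theorem Setting.gam {J : Matrix (Fin m) (Fin m) F} (hJ : Alt J) [NeZero m] {M : Subgroup (GL (Idx m (t + 1)) F)}
    (hM : Setting J M) (hs : Scal J M) (i : Fin (t + 1)) : Setting J (Gam i M) ∧ Scal J (Gam i M) := by
  have hS := hM.sset hJ hs i
  refine ⟨⟨fun g hg => ?_, fun j v c => in_gam ?_⟩, fun j v hv Y hY hin => ?_⟩
  · have h1 : Iso (J ⊗ₖ Jt J t) ((1 : Matrix (Fin m) (Fin m) F) ⊗ₖ (g : Matrix (Idx m t) (Idx m t) F)) :=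
      hS.iso (rightHom m (Idx m t) g) hg
    rw [Iso, ← Matrix.kroneckerMap_transpose, ← mul_kronecker_mul, ← mul_kronecker_mul, transpose_one, one_mul,
      mul_one] at h1
    exact kron_left_cancel (fun h0 => hJ.det (by rw [h0, det_zero])) h1
  · have h1 := in_ms_rx (i := i).2 (hM.root (i.succAbove j) v c)
    rwa [map_add, map_one, map_smul, rx_slot_succAbove, ← kronecker_smul, ← one_kronecker_one, ← kronecker_add] at h1
  · obtain ⟨g, hg, hgX⟩ := hin
    set Y' := (rx i).symm ((1 : Matrix (Fin m) (Fin m) F) ⊗ₖ Y)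
    have hc : ∀ Z, Y' * slot (i.succAbove j) Z = slot (i.succAbove j) Z * Y' := fun Z => by
      refine (rx i).injective ?_
      rw [map_mul, map_mul, AlgEquiv.apply_symm_apply, rx_slot_succAbove, ← mul_kronecker_mul, ← mul_kronecker_mul,
        hY]
    have hin : In M (1 + slot (i.succAbove j) (Xm J v) * Y') := by
      refine in_ms_rx (i := i).1 ⟨_, hg, ?_⟩
      rw [map_add, map_one, map_mul, AlgEquiv.apply_symm_apply, rx_slot_succAbove, ← mul_kronecker_mul, one_mul,
        ← one_kronecker_one, ← kronecker_add, ← hgX]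
      rfl
    obtain ⟨c, hc'⟩ := hs _ v hv Y' hc hin
    refine ⟨c, ?_⟩
    have h1 := congrArg (rx i) hc'
    rw [AlgEquiv.apply_symm_apply, map_smul, map_one, ← one_kronecker_one, ← kronecker_smul] at h1
    exact kron_left_cancel one_ne_zero h1

/-- The monomial isometry swapping two factors and then acting on one of them. -/
theorem exists_swap {J : Matrix (Fin m) (Fin m) F} (hJ : Alt J) (i j : Fin t) {A : GL (Fin m) F}
    (hA : Iso J (A : Matrix (Fin m) (Fin m) F)) :
    ∃ h : GL (Idx m t) F, IsMonomial h ∧ Iso (Jt J t) (h : Matrix (Idx m t) (Idx m t) F) ∧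
      (∀ X, (h : Matrix (Idx m t) (Idx m t) F) * slot i X =
        slot j ((A : Matrix (Fin m) (Fin m) F) * X * ((A⁻¹ : GL (Fin m) F) : Matrix (Fin m) (Fin m) F)) *
          (h : Matrix (Idx m t) (Idx m t) F)) ∧
      ∀ l v, ∃ (l' : Fin t) (v' : Fin m → F), (h : Matrix (Idx m t) (Idx m t) F) * slot l (Xm J v) =
        slot l' (Xm J v') * (h : Matrix (Idx m t) (Idx m t) F) := by
  classical
  obtain ⟨h, hh⟩ := exists_monomial (F := F) (m := m) (Equiv.swap i j) (Function.update 1 j A)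
  have hcomm : ∀ l X, (h : Matrix (Idx m t) (Idx m t) F) * slot (Equiv.swap i j l) X = slot l
      ((Function.update (1 : Fin t → GL (Fin m) F) j A l : Matrix (Fin m) (Fin m) F) * X *
        (((Function.update (1 : Fin t → GL (Fin m) F) j A l)⁻¹ : GL (Fin m) F) : Matrix (Fin m) (Fin m) F)) *
      (h : Matrix (Idx m t) (Idx m t) F) := fun l X => CfsgLib.TensorWreathMax.Mon.slot_comm' hh l X
  have hfac : (h : Matrix (Idx m t) (Idx m t) F) = slot j (A : Matrix (Fin m) (Fin m) F) * permM (Equiv.swap i j) :=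
    ext_tp fun xs => by
      rw [← Matrix.mulVec_mulVec, permM_mulVec, slot_mulVec, hh]
      congr 1
      funext l
      rcases eq_or_ne l j with rfl | hl
      · simp
      · simp [hl]
  refine ⟨h, ⟨_, _, hh⟩, ?_, fun X => ?_, fun l v => ?_⟩
  · rw [hfac]
    refine (iso_slot hA j).mul ?_
    have e : (permM (Equiv.swap i j) : Matrix (Idx m t) (Idx m t) F)ᵀ = permM (Equiv.swap i j) := by
      ext x y
      simp only [Matrix.transpose_apply, permM, Equiv.symm_swap]
      refine if_congr ⟨fun h => ?_, fun h => ?_⟩ rfl rfl <;>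
      · rw [h]; funext l; simp [Function.comp]
    rw [Iso, e, Jt, CfsgLib.TensorWreathMax.permM_conj_pm (Equiv.swap_mul_self i j)]
  · have h1 := hcomm j X
    rwa [Equiv.swap_apply_right, Function.update_self] at h1
  · have h1 := hcomm (Equiv.swap i j l) (Xm J v)
    rw [Equiv.swap_apply_self] at h1
    rcases eq_or_ne (Equiv.swap i j l) j with hl | hl
    · rw [hl, Function.update_self, hJ.conj_Xm' one_ne_zero (show _ = (1 : F) • J from hA.trans (one_smul F J).symm),
        inv_one, one_smul] at h1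
      exact ⟨j, _, h1⟩
    · rw [Function.update_of_ne hl, Pi.one_apply, inv_one, Units.val_one, one_mul, mul_one] at h1
      exact ⟨_, v, h1⟩

theorem finAll_of_torus {J : Matrix (Fin m) (Fin m) F} (hJ : Alt J) (hm : 2 ≤ m) {a : F} (ha : a ≠ 0) (ha2 : a ^ 2 ≠ 1) :
    FinAll J := fun _ _ _ hM hs i =>
  haveI : NeZero m := ⟨by omega⟩
  fin'_of_torus hJ (hM.sset hJ hs i) ha ha2

/-- A perpendicular pair and the radical settle the final step in dimension at least three. -/
theorem finAll_of_perp {J : Matrix (Fin m) (Fin m) F} (hJ : Alt J) (hm : 3 ≤ m) (h2 : (2 : F) ≠ 0) (hR : RadAll J) :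
    FinAll J := fun t M ht hM hs i => by
  haveI : NeZero m := ⟨by omega⟩
  exact fin'_of_perp hJ hm h2 (hM.sset hJ hs i) (hR t M ht hM hs i)

variable [Finite F]

/-- What maps a centre into a centre is monomial. -/
theorem centre_map {J : Matrix (Fin m) (Fin m) F} (hJ : Alt J) (hm : 2 ≤ m) (hF : FinAll J)
    (hR : RadAll J) (ht : 1 ≤ t) (IH : Rigid J t) {M : Subgroup (GL (Idx m (t + 1)) F)}
    (hM : Setting J M) (hs : Scal J M) {g : GL (Idx m (t + 1)) F}
    (hgs : Sim (Jt J (t + 1)) (g : Matrix (Idx m (t + 1)) (Idx m (t + 1)) F)) (hg : Conj J M g)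
    {i j : Fin (t + 1)} {v w : Fin m → F} (hv : v ≠ 0) (hw : w ≠ 0)
    (hmap : ∀ u, ∃ u', (g : Matrix (Idx m (t + 1)) (Idx m (t + 1)) F) *ᵥ (slot j (Xm J w) *ᵥ u) =
      slot i (Xm J v) *ᵥ u') : IsMonomial g := by
  classical
  have : NeZero m := ⟨by omega⟩
  obtain ⟨A, hAv, hAi, -⟩ := hJ.exists_move hv hw
  obtain ⟨h, hhm, hhi, hh, hhr⟩ := exists_swap hJ i j hAi
  suffices hgh : IsMonomial (g * h) by simpa using isMonomial_mul hgh (isMonomial_inv hhm)
  set g' := g * h with hg'def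
  have hg's : Sim (Jt J (t + 1)) (g' : Matrix (Idx m (t + 1)) (Idx m (t + 1)) F) := by
    rw [hg'def, Units.val_mul]; exact hgs.mul hhi.sim
  have hg' : Conj J M g' := fun l u c => by
    obtain ⟨l', u', e⟩ := hhr l u
    convert hg l' u' c using 3
    rw [hg'def, Units.val_mul, _root_.mul_inv_rev, Units.val_mul,
      mul_assoc (g : Matrix (Idx m (t + 1)) (Idx m (t + 1)) F), e]
    simp only [mul_assoc, Units.mul_inv_cancel_left]
  set gs := Cfsg.Geo.glReindex (F := F) (split i) g' with hgs'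
  have hgsv : (gs : Matrix _ _ F) = rx i (g' : Matrix (Idx m (t + 1)) (Idx m (t + 1)) F) := rfl
  have hgsi : ((gs⁻¹ : GL (Fin m × Idx m t) F) : Matrix _ _ F) =
      rx i ((g'⁻¹ : GL (Idx m (t + 1)) F) : Matrix (Idx m (t + 1)) (Idx m (t + 1)) F) := rfl
  have hS := hM.sset hJ hs i
  obtain ⟨f, hf⟩ := hJ.exists_pair hv
  have hgsim : Sim (J ⊗ₖ Jt J t) (gs : Matrix (Fin m × Idx m t) (Fin m × Idx m t) F) := by
    obtain ⟨c, hc, h1⟩ := hg's
    exact ⟨c, hc, rx_iso i h1⟩
  have hconj : ∀ B, Iso J B → In (Ms i M) ((gs : Matrix _ _ F) * (B ⊗ₖ (1 : Matrix (Idx m t) (Idx m t) F)) *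
      ((gs⁻¹ : GL (Fin m × Idx m t) F) : Matrix _ _ F)) := by
    intro B hB
    have h1 := in_ms_rx (i := i).2 (hg'.slot_iso hJ hM hg's hB i)
    rwa [map_mul, map_mul, rx_slot_same, ← hgsv, ← hgsi] at h1
  have hI : ∀ u, ∃ u', (gs : Matrix (Fin m × Idx m t) (Fin m × Idx m t) F) *ᵥ pl v u = pl v u' := by
    intro u
    have hX : ∀ z, rx i (slot i (Xm J v)) *ᵥ z = pl v (ct (v ᵥ* J) z) := fun z => by
      rw [rx_slot_same, Xm, kron_vecMulVec_mulVec, one_mulVec]
    obtain ⟨z, hz⟩ := (tvec i).surjective (pl f u)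
    obtain ⟨u', hu'⟩ := hmap ((h : Matrix (Idx m (t + 1)) (Idx m (t + 1)) F) *ᵥ z)
    refine ⟨ct (v ᵥ* J) (tvec i u'), ?_⟩
    have e : (g' : Matrix (Idx m (t + 1)) (Idx m (t + 1)) F) *ᵥ (slot i (Xm J v) *ᵥ z) = slot i (Xm J v) *ᵥ u' := by
      rw [hg'def, Units.val_mul, ← mulVec_mulVec, mulVec_mulVec _ (h : Matrix (Idx m (t + 1)) (Idx m (t + 1)) F), hh,
        hJ.conj_Xm' one_ne_zero (show _ = (1 : F) • J from hAi.trans (one_smul F J).symm), hAv, inv_one, one_smul,
        ← mulVec_mulVec]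
      exact hu'
    have h1 := congrArg (tvec i) e
    rw [← rx_mulVec_tvec, ← rx_mulVec_tvec, ← rx_mulVec_tvec, hX, hX, hz, ct_pl, ← fm_apply, hf, one_smul] at h1
    exact h1
  obtain ⟨T, τ, hTs, hτs, hTτ⟩ := centre_stab hJ hS (hR t M ht hM hs i) (hF t M ht hM hs i) hgsim hconj hv hI
  have hinv : ((gs⁻¹ : GL (Fin m × Idx m t) F) : Matrix _ _ F) =
      ((T⁻¹ : GL (Fin m) F) : Matrix (Fin m) (Fin m) F) ⊗ₖ Units.val (τ⁻¹ : GL (Idx m t) F) := by
    refine Units.inv_eq_of_mul_eq_one_right ?_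
    rw [hTτ, ← Matrix.mul_kronecker_mul, Units.mul_inv, Units.mul_inv, one_kronecker_one]
  obtain ⟨hM₁, hs₁⟩ := hM.gam hJ hs i
  have hτm : IsMonomial τ := by
    refine IH _ hM₁ hs₁ τ hτs fun l u c => in_gam ?_
    have h1 := in_ms_rx (i := i).2 (hg' (i.succAbove l) u c)
    rw [map_add, map_one, map_smul, map_mul, map_mul, rx_slot_succAbove, ← hgsv, ← hgsi, hinv, hTτ,
      ← Matrix.mul_kronecker_mul, ← Matrix.mul_kronecker_mul, Matrix.mul_one, Units.mul_inv, ← kronecker_smul,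
      ← one_kronecker_one, ← kronecker_add] at h1
    exact h1
  obtain ⟨σ, as, hσ⟩ := hτm
  let σ' : Equiv.Perm (Fin (t + 1)) := ((finSuccEquiv' i).trans σ.optionCongr).trans (finSuccEquiv' i).symm
  have hσi : σ' i = i := by simp [σ', finSuccEquiv'_at]
  have hσs : ∀ l, σ' (i.succAbove l) = i.succAbove (σ l) := fun l => by simp [σ']
  refine ⟨σ', i.insertNth T as, fun xs => (tvec i).injective ?_⟩
  rw [← rx_mulVec_tvec, ← hgsv, hTτ, tvec_tp, tvec_tp, kronecker_mulVec_pl]
  congr 1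
  · congr 1
    simp [hσi]
  · rw [hσ]
    congr 1
    funext l
    simp [Fin.removeNth, hσs]

theorem rank_root {J : Matrix (Fin m) (Fin m) F} (hJ : Alt J) {i : Fin (t + 1)} {v : Fin m → F} (hv : v ≠ 0) :
    (slot i (Xm J v) : Matrix (Idx m (t + 1)) (Idx m (t + 1)) F).rank = m ^ t :=
  CfsgLib.TensorWreathMax.rank_root hv (hJ.vecMul_ne_zero hv)

/-- What conjugates a slot transvection to a monomial element is monomial. -/
theorem monomial_of_conj {J : Matrix (Fin m) (Fin m) F} (hJ : Alt J) (hm : 2 ≤ m) (h2 : (2 : F) ≠ 0) (hF : FinAll J)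
    (hR : RadAll J) (ht : 1 ≤ t) (IH : Rigid J t)
    {M : Subgroup (GL (Idx m (t + 1)) F)} (hM : Setting J M) (hs : Scal J M) {g : GL (Idx m (t + 1)) F}
    (hgs : Sim (Jt J (t + 1)) (g : Matrix (Idx m (t + 1)) (Idx m (t + 1)) F)) (hg : Conj J M g)
    {i : Fin (t + 1)} {v : Fin m → F} (hv : v ≠ 0) {z : GL (Idx m (t + 1)) F} (hzm : IsMonomial z)
    (hz : (z : Matrix (Idx m (t + 1)) (Idx m (t + 1)) F) = 1 + (g : Matrix (Idx m (t + 1)) (Idx m (t + 1)) F) *
      slot i (Xm J v) * ((g⁻¹ : GL (Idx m (t + 1)) F) : Matrix _ _ F)) :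
    IsMonomial g ∧ ∃ j a c, a ≠ 0 ∧ c ≠ (0 : F) ∧ (g : Matrix (Idx m (t + 1)) (Idx m (t + 1)) F) *
      slot i (Xm J v) * ((g⁻¹ : GL (Idx m (t + 1)) F) : Matrix _ _ F) = c • slot j (Xm J a) := by
  obtain ⟨σ, as, hσ⟩ := hzm
  obtain ⟨z', hz', hzX⟩ := hg i v 1
  rw [one_smul] at hzX
  obtain ⟨j, a, c, ha, hc, he⟩ := classify hJ hm h2 hσ (by rw [hz, ← hzX]; exact hM.iso _ hz')
    (by
      rw [hz, add_sub_cancel_left]
      simp only [mul_assoc, Units.inv_mul_cancel_left]
      rw [← mul_assoc (slot i (Xm J v)) (slot i (Xm J v)), slot_mul, hJ.Xm_mul_self, map_zero, zero_mul, mul_zero])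
    (by rw [hz, add_sub_cancel_left, CfsgLib.TensorWreathMax.rank_conj, rank_root hJ hv])
  rw [hz, add_right_inj] at he
  refine ⟨centre_map hJ hm hF hR ht IH hM hs hgs hg (i := j) (j := i) ha hv fun u => ?_, j, a, c, ha, hc, he⟩
  refine ⟨c • ((g : Matrix (Idx m (t + 1)) (Idx m (t + 1)) F) *ᵥ u), ?_⟩
  rw [mulVec_smul, ← smul_mulVec, ← he, mulVec_mulVec, mulVec_mulVec]
  simp [mul_assoc]

end CfsgLib.TensorSympWreath
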