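import Cfsg.Agent.Lib.TensorSympWreath.Split

/-!
Monomial isometries of the shape of a conjugated slot transvection are slot transvections.
-/

set_option autoImplicit false
set_option linter.unusedSectionVars false
set_option linter.unusedSimpArgs false
set_option linter.style.haveILetI false

namespace CfsgLib.TensorSympWreath

open Matrix
open scoped Kronecker
open CfsgLib.Maximal.TensorPower
open CfsgLib.TensorWreathMax (Idx split rx rx_pm rx_slot_same rank_rx rank_kronecker_ge rank_pos Mon dot_tp pm_pow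
  pm_smul exists_vecMulVec_of_rank_le_one exists_dot_eq_one exists_dot_eq_one')

attribute [-simp] Matrix.coe_units_inv

variable {F : Type*} [Field F] {m t : ℕ}

theorem exists_perp (hm : 2 ≤ m) (x : Fin m → F) : ∃ θ : Fin m → F, θ ≠ 0 ∧ θ ⬝ᵥ x = 0 := by
  let f : (Fin m → F) →ₗ[F] F := (dotProductBilin F F).flip x
  obtain ⟨θ, hθ, hθ0⟩ := (Submodule.ne_bot_iff _).1 (LinearMap.ker_ne_bot_of_finrank_lt (f := f)
    (by rw [Module.finrank_self, Module.finrank_fintype_fun_eq_card, Fintype.card_fin]; omega))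
  exact ⟨θ, hθ0, by simpa [f] using hθ⟩

theorem slot_injective [NeZero m] {i : Fin t} {X : Matrix (Fin m) (Fin m) F} (h : slot i X = 0) : X = 0 := by
  ext a b
  have := congrFun (congrFun h (Function.update (0 : Idx m t) i a)) (Function.update (0 : Idx m t) i b)
  rw [slot_apply] at this
  simp only [pm, Matrix.zero_apply] at this ⊢
  rw [← Finset.mul_prod_erase _ _ (Finset.mem_univ i), Finset.prod_eq_one fun j hj => ?_] at this
  · simpa using this
  · simp [Finset.ne_of_mem_erase hj]

/-- Factors of a scalar tensor product are scalars. -/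
theorem exists_smul_of_pm_eq [NeZero m] {bs : Fin t → Matrix (Fin m) (Fin m) F} {c : F} (hc : c ≠ 0)
    (h : pm bs = c • 1) (i : Fin t) : ∃ d : F, bs i = d • 1 := by
  classical
  have hd : ∀ x : Idx m t, ∏ j, bs j (x j) (x j) = c := fun x => by
    have := congrFun (congrFun h x) x
    simpa [pm] using this
  have hne : ∀ j a, bs j a a ≠ 0 := fun j a h0 =>
    hc ((hd fun _ => a).symm.trans (Finset.prod_eq_zero (Finset.mem_univ j) h0))
  have hsp : ∀ a b : Fin m, ∏ j, bs j ((Function.update (0 : Idx m t) i a) j) ((Function.update (0 : Idx m t) i b) j) =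
      bs i a b * ∏ j ∈ Finset.univ.erase i, bs j 0 0 := fun a b => by
    rw [← Finset.mul_prod_erase _ _ (Finset.mem_univ i), Function.update_self, Function.update_self]
    congr 1
    refine Finset.prod_congr rfl fun j hj => ?_
    rw [Function.update_of_ne (Finset.ne_of_mem_erase hj), Function.update_of_ne (Finset.ne_of_mem_erase hj)]
    rfl
  have hR : ∏ j ∈ Finset.univ.erase i, bs j 0 0 ≠ 0 := Finset.prod_ne_zero_iff.2 fun j _ => hne j 0
  refine ⟨bs i 0 0, Matrix.ext fun a b => ?_⟩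
  rw [Matrix.smul_apply, Matrix.one_apply]
  rcases eq_or_ne a b with rfl | hab
  · rw [if_pos rfl, smul_eq_mul, mul_one]
    refine mul_right_cancel₀ hR ?_
    rw [← hsp, ← hsp, hd, hd]
  · rw [if_neg hab, smul_zero]
    refine mul_right_cancel₀ hR ?_
    rw [← hsp, zero_mul]
    have := congrFun (congrFun h (Function.update 0 i a)) (Function.update 0 i b)
    rw [Matrix.smul_apply, Matrix.one_apply, if_neg, smul_zero] at this
    · exact this
    · exact fun e => hab (by simpa using congrFun e i)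

/-- A scalar monomial operator permutes no factors. -/
theorem perm_eq_one (hm : 2 ≤ m) {σ : Equiv.Perm (Fin t)} {as : Fin t → GL (Fin m) F} {c : F} (hc : c ≠ 0)
    (h : Mon (c • (1 : Matrix (Idx m t) (Idx m t) F)) σ as) : σ = 1 := by
  classical
  refine Equiv.ext fun j => by_contra fun hj => ?_
  change σ j ≠ j at hj
  haveI : NeZero m := ⟨by omega⟩
  let e₀ : Fin m → F := Pi.single 0 1
  obtain ⟨θ, hθ, hθa⟩ := exists_perp hm ((as j : Matrix (Fin m) (Fin m) F) *ᵥ e₀)
  obtain ⟨v, hv⟩ := exists_dot_eq_one' hθ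
  have h1 := congrArg (tp (Function.update (fun _ => e₀) j θ) ⬝ᵥ ·) (h (Function.update (fun _ => e₀) j v))
  simp only [Matrix.smul_mulVec, Matrix.one_mulVec, dotProduct_smul, dot_tp] at h1
  rw [Finset.prod_eq_one, smul_eq_mul, mul_one] at h1
  · refine hc (h1.trans (Finset.prod_eq_zero (Finset.mem_univ j) ?_))
    simp [hj, hθa]
  · intro i _
    rcases eq_or_ne i j with rfl | hij
    · simpa using hv
    · simp [hij, e₀, single_dotProduct]

theorem rx_iso {J : Matrix (Fin m) (Fin m) F} (i : Fin (t + 1)) {X : Matrix (Idx m (t + 1)) (Idx m (t + 1)) F}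
    {c : F} (h : Xᵀ * Jt J (t + 1) * X = c • Jt J (t + 1)) :
    (rx i X)ᵀ * (J ⊗ₖ Jt J t) * rx i X = c • (J ⊗ₖ Jt J t) := by
  rw [← rx_Jt J i, ← map_smul, ← h, map_mul, map_mul]
  congr 2

theorem kron_right_cancel {μ ν : Type} [Fintype μ] [DecidableEq μ] [Fintype ν] [DecidableEq ν]
    {K : Matrix ν ν F} (hK : K ≠ 0) {P Q : Matrix μ μ F} (h : P ⊗ₖ K = Q ⊗ₖ K) : P = Q := by
  obtain ⟨x, hx⟩ := Function.ne_iff.1 hK
  obtain ⟨y, hy⟩ := Function.ne_iff.1 hx
  ext a b
  exact mul_right_cancel₀ hy (congrFun (congrFun h (a, x)) (b, y))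

theorem kron_left_cancel {μ ν : Type} [Fintype μ] [DecidableEq μ] [Fintype ν] [DecidableEq ν]
    {K : Matrix μ μ F} (hK : K ≠ 0) {P Q : Matrix ν ν F} (h : K ⊗ₖ P = K ⊗ₖ Q) : P = Q := by
  obtain ⟨x, hx⟩ := Function.ne_iff.1 hK
  obtain ⟨y, hy⟩ := Function.ne_iff.1 hx
  ext a b
  exact mul_left_cancel₀ hy (congrFun (congrFun h (x, a)) (y, b))

theorem Jt_ne_zero {J : Matrix (Fin m) (Fin m) F} (hJ : Alt J) [NeZero m] : Jt J t ≠ 0 := fun h => by
  obtain ⟨u, hu⟩ := Jt_isUnit (t := t) hJ
  exact u.ne_zero (hu.trans h)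

variable [Finite F]

set_option maxHeartbeats 800000 in
/-- A monomial isometry differing from one by a square zero map of the least rank. -/
theorem classify {J : Matrix (Fin m) (Fin m) F} (hJ : Alt J) (hm : 2 ≤ m) (h2 : (2 : F) ≠ 0)
    {z : Matrix (Idx m (t + 1)) (Idx m (t + 1)) F} {σ : Equiv.Perm (Fin (t + 1))} {as : Fin (t + 1) → GL (Fin m) F}
    (hz : Mon z σ as) (hzi : Iso (Jt J (t + 1)) z) (hN : (z - 1) * (z - 1) = 0) (hr : (z - 1).rank = m ^ t) :
    ∃ i a c, a ≠ 0 ∧ c ≠ (0 : F) ∧ z = 1 + c • slot i (Xm J a) := by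
  classical
  haveI : NeZero m := ⟨by omega⟩
  obtain ⟨p, hp⟩ := CharP.exists F
  haveI : Fact p.Prime := ⟨CharP.char_is_prime F p⟩
  have hp2 : 2 ≤ p := (CharP.char_is_prime F p).two_le
  have hpodd : Odd p := (CharP.char_is_prime F p).odd_of_ne_two fun h => h2 (by subst h; exact_mod_cast CharP.cast_eq_zero F 2)
  haveI : CharP (Matrix (Idx m (t + 1)) (Idx m (t + 1)) F) p := inferInstance
  have hzp : z ^ p = 1 := by
    have h1 : (z - 1) ^ p = 0 := pow_eq_zero_of_le hp2 (by rw [pow_two, hN])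
    rwa [sub_pow_char_of_commute p (Commute.one_right z), one_pow, sub_eq_zero] at h1
  obtain ⟨bs, hbs⟩ := hz.pow p
  rw [hzp, ← one_smul F (1 : Matrix (Idx m (t + 1)) _ F)] at hbs
  have hσp : σ ^ p = 1 := perm_eq_one hm one_ne_zero hbs
  -- no factor moves
  obtain rfl : σ = 1 := by
    refine Equiv.ext fun j => by_contra fun hj => ?_
    change σ j ≠ j at hj
    have hk : σ (σ j) ≠ j := fun h => by
      obtain ⟨q, rfl⟩ := hpodd
      have e : ∀ n : ℕ, (σ ^ (2 * n)) j = j := fun n => by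
        induction n with
        | zero => rfl
        | succ n ih =>
          rw [show 2 * (n + 1) = 2 + 2 * n by ring, pow_add, Equiv.Perm.mul_apply, ih, pow_two, Equiv.Perm.mul_apply, h]
      have h1 : (σ ^ (2 * q + 1)) j = σ j := by rw [pow_succ', Equiv.Perm.mul_apply, e]
      rw [hσp] at h1
      exact hj h1.symm
    have hkj : σ (σ j) ≠ σ j := fun h => hj (σ.injective h)
    let e₀ : Fin m → F := Pi.single 0 1
    obtain ⟨θ, hθ, hθ1⟩ := exists_perp hm ((as j : Matrix (Fin m) (Fin m) F) *ᵥ e₀)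
    obtain ⟨v, hv⟩ := exists_dot_eq_one' hθ
    set M := (as j : Matrix (Fin m) (Fin m) F) * (as (σ j) : Matrix (Fin m) (Fin m) F)
    obtain ⟨u, hu, hu1⟩ := exists_perp hm (θ ᵥ* M)
    rw [dotProduct_comm, ← dotProduct_mulVec] at hu1
    obtain ⟨θu, hθu⟩ := exists_dot_eq_one hu
    set xs := Function.update (Function.update (fun _ : Fin (t + 1) => e₀) j v) (σ (σ j)) u
    set θs := Function.update (Function.update (fun _ : Fin (t + 1) => e₀) j θ) (σ (σ j)) θu
    have h1 : z *ᵥ (z *ᵥ tp xs) + tp xs = z *ᵥ tp xs + z *ᵥ tp xs := by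
      have h := congrArg (· *ᵥ tp xs) hN
      simp only [← Matrix.mulVec_mulVec, Matrix.sub_mulVec, Matrix.one_mulVec, Matrix.mulVec_sub, Matrix.zero_mulVec,
        sub_eq_zero] at h
      have h' := sub_eq_iff_eq_add.1 h
      rw [h']; abel
    rw [hz, hz] at h1
    have h2' := congrArg (tp θs ⬝ᵥ ·) h1
    simp only [dotProduct_add, dot_tp] at h2'
    have hxs : xs (σ j) = e₀ := by simp [xs, hj, hkj.symm]
    have hxs2 : xs (σ (σ j)) = u := by simp [xs]
    have hθj : θs j = θ := by simp [θs, hk.symm]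
    rw [Finset.prod_eq_zero (Finset.mem_univ j) (by rw [hθj, hxs2, mulVec_mulVec]; exact hu1),
      Finset.prod_eq_one (fun i _ => by
        rcases eq_or_ne i (σ (σ j)) with rfl | hi
        · simpa [θs, xs] using hθu
        rcases eq_or_ne i j with rfl | hij
        · simpa [θs, xs, hi] using hv
        · simp [θs, xs, hi, hij, e₀, single_dotProduct]),
      Finset.prod_eq_zero (Finset.mem_univ j) (by rw [hθj, hxs]; exact hθ1)] at h2'
    simp at h2'
  have hzas : z = pm fun i => (as i : Matrix (Fin m) (Fin m) F) := ext_tp fun xs => by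
    rw [hz, pm_mulVec]; rfl
  have hfrob : ∀ c : F, ∃ d, d ^ p = c := fun c =>
    (Finite.injective_iff_surjective.1 (frobenius_inj F p)) c
  have hpow := hzp
  rw [hzas, pm_pow, ← one_smul F (1 : Matrix (Idx m (t + 1)) _ F)] at hpow
  choose c hc using exists_smul_of_pm_eq (one_ne_zero (α := F)) hpow
  choose d hd using fun i => hfrob (c i)
  have hd0 : ∀ i, d i ≠ 0 := fun i h0 => by
    have h1 : ((as i ^ p : GL (Fin m) F) : Matrix (Fin m) (Fin m) F) = 0 := by
      rw [Units.val_pow_eq_pow_val, hc, ← hd, h0, zero_pow (by omega), zero_smul]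
    exact Units.ne_zero _ h1
  let u : Fin (t + 1) → Matrix (Fin m) (Fin m) F := fun i => (d i)⁻¹ • (as i : Matrix (Fin m) (Fin m) F)
  have hup : ∀ i, u i ^ p = 1 := fun i => by
    rw [show u i = (d i)⁻¹ • (as i : Matrix (Fin m) (Fin m) F) from rfl, smul_pow, hc, smul_smul, inv_pow, hd,
      inv_mul_cancel₀ (by rw [← hd]; exact pow_ne_zero _ (hd0 i)), one_smul]
  have hzu : z = (∏ i, d i) • pm u := by
    rw [← pm_smul, hzas]
    congr 1
    funext i
    simp only [u]
    rw [smul_smul, mul_inv_cancel₀ (hd0 i), one_smul]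
  have hD : ∏ i, d i = 1 := by
    have h1 := hzp
    rw [hzu, smul_pow, pm_pow] at h1
    simp only [hup] at h1
    rw [show pm (fun _ : Fin (t + 1) => (1 : Matrix (Fin m) (Fin m) F)) = 1 from pm_one] at h1
    have h2 := congrFun (congrFun h1 0) 0
    simp at h2
    exact frobenius_inj F p (by rw [frobenius_def, frobenius_def, h2, one_pow])
  rw [hD, one_smul] at hzu
  haveI : CharP (Matrix (Fin m) (Fin m) F) p := inferInstance
  have hnil : ∀ i, (u i - 1) ^ p = 0 := fun i => by
    rw [sub_pow_char_of_commute p (Commute.one_right (u i)), hup, one_pow, sub_self]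
  obtain ⟨i, hi⟩ : ∃ i, u i ≠ 1 := by
    by_contra h
    push Not at h
    rw [hzu, show u = 1 from funext h, pm_one, sub_self, Matrix.rank_zero] at hr
    exact absurd hr.symm (pow_ne_zero _ (by omega))
  set α := u i - 1
  set β := pm (i.removeNth u) - 1
  have hNr : α ⊗ₖ (1 + β) + (1 : Matrix (Fin m) (Fin m) F) ⊗ₖ β = rx i (z - 1) := by
    have h1 : u i = α + 1 := (sub_add_cancel _ _).symm
    have h3 : pm (i.removeNth u) = 1 + β := (add_sub_cancel _ _).symm
    rw [hzu, map_sub, map_one, rx_pm, h1, h3, add_kronecker, kronecker_add (1 : Matrix (Fin m) (Fin m) F),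
      one_kronecker_one]
    abel
  have hsq : (α * α) ⊗ₖ ((1 + β) * (1 + β)) + (2 : F) • (α ⊗ₖ (β + β * β)) + (1 : Matrix (Fin m) (Fin m) F) ⊗ₖ (β * β) = 0 := by
    have h1 := congrArg (rx i) hN
    rw [map_mul, map_zero, ← hNr] at h1
    rw [← h1]
    simp only [add_mul, mul_add, ← mul_kronecker_mul, one_mul, mul_one, kronecker_add, two_smul]
    abel
  obtain ⟨r, hr1, hr0, hrs⟩ : ∃ r, 1 ≤ r ∧ α ^ r ≠ 0 ∧ α ^ (r + 1) = 0 := by
    have hn : IsNilpotent α := ⟨p, hnil i⟩
    have := nilpotencyClass_eq_succ_iff.1 (show nilpotencyClass α = (nilpotencyClass α - 1) + 1 by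
      have := pos_nilpotencyClass_iff.2 hn; omega)
    refine ⟨nilpotencyClass α - 1, ?_, this.2, this.1⟩
    by_contra hlt
    rw [Nat.not_le, Nat.lt_one_iff] at hlt
    exact sub_ne_zero.2 hi (by simpa [hlt] using this.1)
  have hmul : ∀ k, (α ^ k * (α * α)) ⊗ₖ ((1 + β) * (1 + β)) + (2 : F) • ((α ^ k * α) ⊗ₖ (β + β * β)) +
      (α ^ k) ⊗ₖ (β * β) = 0 := fun k => by
    have h1 := congrArg (((α ^ k) ⊗ₖ (1 : Matrix (Idx m t) (Idx m t) F)) * ·) hsq
    rwa [mul_add, mul_add, mul_zero, mul_smul_comm, ← mul_kronecker_mul, ← mul_kronecker_mul, ← mul_kronecker_mul,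
      one_mul, one_mul, one_mul, mul_one] at h1
  have hββ : β * β = 0 := by
    have h1 := hmul r
    rw [← mul_assoc, ← pow_succ, hrs, zero_mul, zero_kronecker, zero_kronecker, smul_zero, zero_add, zero_add,
      ← kronecker_zero (α ^ r)] at h1
    exact kron_left_cancel hr0 h1
  have hβ : β = 0 := by
    have h1 := hmul (r - 1)
    rw [← mul_assoc, ← pow_succ, Nat.sub_add_cancel hr1, ← pow_succ, hrs, zero_kronecker, hββ, kronecker_zero,
      zero_add, add_zero, add_zero, smul_eq_zero, or_iff_right h2, ← kronecker_zero (α ^ r)] at h1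
    exact kron_left_cancel hr0 h1
  have hrest : i.removeNth u = 1 := funext fun l => by
    have h1 := sub_eq_zero.1 hβ
    rw [← one_smul F (1 : Matrix (Idx m t) _ F)] at h1
    obtain ⟨e, he⟩ := exists_smul_of_pm_eq (one_ne_zero (α := F)) h1 l
    have h2 : u (i.succAbove l) ^ p = 1 := hup _
    rw [show i.removeNth u l = u (i.succAbove l) from rfl] at he ⊢
    rw [he, smul_pow, one_pow] at h2
    have h3 := congrFun (congrFun h2 0) 0
    simp at h3
    have h4 : e = 1 := frobenius_inj F p (by simpa [frobenius_def] using h3)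
    rw [he, h4, one_smul]; rfl
  have hus : u = Function.update (1 : Fin (t + 1) → Matrix (Fin m) (Fin m) F) i (u i) := funext fun l => by
    rcases Fin.eq_self_or_eq_succAbove i l with rfl | ⟨l, rfl⟩
    · simp
    · rw [Function.update_of_ne (Fin.succAbove_ne i l)]
      exact congrFun hrest l
  have hz1 : z = 1 + slot i α := by
    rw [hzu, hus, ← slot_apply, map_sub, slot_one]
    simp
  have hle : α.rank ≤ 1 := by
    have h1 := rank_kronecker_ge α (1 : Matrix (Idx m t) (Idx m t) F)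
    rw [← rx_slot_same i, rank_rx, Matrix.rank_one] at h1
    rw [hz1, add_sub_cancel_left] at hr
    rw [hr] at h1
    have hpos : 0 < m ^ t := pow_pos (by omega) t
    simp only [Fintype.card_fun, Fintype.card_fin] at h1
    exact Nat.le_of_mul_le_mul_right (by simpa using h1) hpos
  obtain ⟨a, φ, ha, hφ, he⟩ := exists_vecMulVec_of_rank_le_one hle (sub_ne_zero.2 hi)
  have hiso : (1 + α)ᵀ * J * (1 + α) = J := by
    have h1 := rx_iso i (X := z) (c := 1) (by rw [one_smul]; exact hzi)
    rw [hz1, map_add, map_one, rx_slot_same, ← one_kronecker_one, ← add_kronecker, one_smul,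
      ← Matrix.kroneckerMap_transpose, ← mul_kronecker_mul, ← mul_kronecker_mul, transpose_one, one_mul, mul_one] at h1
    exact kron_right_cancel (Jt_ne_zero hJ) h1
  have hform : ∀ x y, fm J ((1 + α) *ᵥ x) ((1 + α) *ᵥ y) = fm J x y := fun x y => by
    rw [fm, Matrix.toBilin'_apply', Matrix.toBilin'_apply', ← vecMul_transpose, ← dotProduct_mulVec, mulVec_mulVec,
      mulVec_mulVec, hiso]
  obtain ⟨f, hf⟩ := hJ.exists_pair ha
  have hφe : ∀ y, φ ⬝ᵥ y = (φ ⬝ᵥ f) * fm J a y := fun y => by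
    have h1 := hform f y
    simp only [add_mulVec, one_mulVec, he, vecMulVec_mulVec, op_smul_eq_smul, map_add, map_smul, LinearMap.add_apply,
      LinearMap.smul_apply, smul_eq_mul, hJ.self, hJ.flip a f, hf] at h1
    linear_combination -h1
  refine ⟨i, a, φ ⬝ᵥ f, ha, fun h0 => hφ (dotProduct_eq_zero _ fun y => by rw [hφe, h0, zero_mul]), ?_⟩
  rw [hz1, ← map_smul]
  congr 2
  refine Matrix.ext_of_mulVec_single fun l => ?_
  rw [he, vecMulVec_mulVec, op_smul_eq_smul, smul_mulVec, Xm_mulVec, smul_smul, hφe]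

end CfsgLib.TensorSympWreath
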