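import Cfsg.Agent.Lib.TensorSympWreath.Coef

/-!
A non-scalar coefficient gives products of transvection directions in an odd number of slots, and these grow.
-/

set_option autoImplicit false
set_option linter.unusedSectionVars false
set_option linter.unusedSimpArgs false

namespace CfsgLib.TensorSympWreath

open Matrix
open scoped Kronecker
open CfsgLib.Maximal.TensorPower
open CfsgLib.TensorWreathMax (Idx split rx In rx_slot_same permM permM_conj_pm permM_mul_self permM_mul_pm pm_smul
  pm_eq_zero_of exists_perp_eq_one)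

attribute [-simp] Matrix.coe_units_inv

variable {F : Type*} [Field F] {m N : ℕ}

/-- The factors in a set of slots. -/
def ops (S : Finset (Fin N)) (os : Fin N → Matrix (Fin m) (Fin m) F) : Fin N → Matrix (Fin m) (Fin m) F :=
  fun l => if l ∈ S then os l else 1

/-- A product over a set of slots. -/
def pat (S : Finset (Fin N)) (os : Fin N → Matrix (Fin m) (Fin m) F) : Matrix (Idx m N) (Idx m N) F := pm (ops S os)

theorem pat_empty (os : Fin N → Matrix (Fin m) (Fin m) F) : pat ∅ os = 1 := by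
  rw [pat, show ops ∅ os = 1 by funext l; simp [ops], pm_one]

theorem pat_congr {S : Finset (Fin N)} {os os' : Fin N → Matrix (Fin m) (Fin m) F} (h : ∀ l ∈ S, os l = os' l) :
    pat S os = pat S os' := by
  rw [pat, pat]; congr 1; funext l
  by_cases hl : l ∈ S
  · simp [ops, hl, h l hl]
  · simp [ops, hl]

theorem pat_mul (S : Finset (Fin N)) (A B : Fin N → Matrix (Fin m) (Fin m) F) :
    pat S A * pat S B = pat S fun l => A l * B l := by
  rw [pat, pat, pat, pm_mul]; congr 1; funext l
  by_cases hl : l ∈ S <;> simp [ops, hl]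

theorem pat_smul (S : Finset (Fin N)) (d : Fin N → F) (A : Fin N → Matrix (Fin m) (Fin m) F) :
    pat S (fun l => d l • A l) = (∏ l ∈ S, d l) • pat S A := by
  classical
  have h := pm_smul (fun l => if l ∈ S then d l else 1) (ops S A)
  rw [Finset.prod_ite_mem, Finset.univ_inter] at h
  rw [pat, pat, ← h]; congr 1; funext l
  by_cases hl : l ∈ S <;> simp [ops, hl]

theorem pat_insert {S : Finset (Fin N)} {j : Fin N} (hj : j ∉ S) (os : Fin N → Matrix (Fin m) (Fin m) F) :
    pat (insert j S) os = slot j (os j) * pat S os := by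
  rw [pat, pat, slot_apply, pm_mul]; congr 1; funext l
  rcases eq_or_ne l j with rfl | hl
  · simp [ops, hj]
  · by_cases hS : l ∈ S <;> simp [ops, hl, hS]

theorem pat_comm_slot {S : Finset (Fin N)} {i : Fin N} (hi : i ∉ S) (os : Fin N → Matrix (Fin m) (Fin m) F)
    (Z : Matrix (Fin m) (Fin m) F) : pat S os * slot i Z = slot i Z * pat S os := by
  rw [pat, slot_apply, pm_mul, pm_mul]; congr 1; funext l
  rcases eq_or_ne l i with rfl | hl
  · simp [ops, hi]
  · simp [hl]

theorem pat_swap (S : Finset (Fin N)) (os : Fin N → Matrix (Fin m) (Fin m) F) (j k : Fin N) :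
    permM (Equiv.swap j k) * pat S os * permM (Equiv.swap j k) =
      pat (S.image (Equiv.swap j k)) (fun l => os (Equiv.swap j k l)) := by
  rw [pat, pat, permM_conj_pm (Equiv.swap_mul_self j k)]; congr 1; funext l
  simp only [ops, Finset.mem_image]
  refine if_congr ⟨fun h => ⟨_, h, Equiv.swap_apply_self j k l⟩, ?_⟩ rfl rfl
  rintro ⟨a, ha, rfl⟩
  rwa [Equiv.swap_apply_self]

theorem pm_ne_zero [NeZero m] {as : Fin N → Matrix (Fin m) (Fin m) F} (h : ∀ l, as l ≠ 0) : pm as ≠ 0 := by
  classical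
  have hex : ∀ l, ∃ pq : Fin m × Fin m, as l pq.1 pq.2 ≠ 0 := fun l => by
    obtain ⟨p, hp⟩ := Function.ne_iff.1 (h l)
    obtain ⟨q, hq⟩ := Function.ne_iff.1 hp
    exact ⟨(p, q), hq⟩
  choose pq hpq using hex
  intro h0
  exact Finset.prod_ne_zero_iff.2 (fun l _ => hpq l) (congrFun (congrFun h0 fun l => (pq l).1) fun l => (pq l).2)

theorem pat_ne_zero [NeZero m] {S : Finset (Fin N)} {os : Fin N → Matrix (Fin m) (Fin m) F}
    (h : ∀ l ∈ S, os l ≠ 0) : pat S os ≠ 0 := pm_ne_zero fun l => by
  by_cases hl : l ∈ S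
  · simpa [ops, hl] using h l hl
  · simpa [ops, hl] using one_ne_zero

/-- An operator of square zero which is self-adjoint or skew. -/
def Kind (J : Matrix (Fin m) (Fin m) F) (s : F) (O : Matrix (Fin m) (Fin m) F) : Prop :=
  O ≠ 0 ∧ O * O = 0 ∧ (s = 1 ∨ s = -1) ∧ Oᵀ * J = s • (J * O)

/-- An isotropic pair. -/
def HasPair (J : Matrix (Fin m) (Fin m) F) : Prop := ∃ v c, v ≠ 0 ∧ fm J v c = 0 ∧ ∀ a : F, c ≠ a • v

theorem kind_Xm {J : Matrix (Fin m) (Fin m) F} (hJ : Alt J) {a : Fin m → F} (ha : a ≠ 0) : Kind J (-1) (Xm J a) :=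
  ⟨hJ.Xm_ne_zero ha, hJ.Xm_mul_self a, Or.inr rfl, by rw [hJ.Xm_skew, neg_one_smul]⟩

theorem kind_Am {J : Matrix (Fin m) (Fin m) F} (hJ : Alt J) {a b : Fin m → F} (hab : fm J a b = 0)
    (h : Am J a b ≠ 0) : Kind J 1 (Am J a b) ∧ HasPair J := by
  have hba : fm J b a = 0 := by rw [hJ.flip a b, hab, neg_zero]
  refine ⟨⟨h, Matrix.ext_of_mulVec_single fun l => ?_, Or.inl rfl, ?_⟩, a, b, fun ha => h ?_, hab, fun s hs => h ?_⟩
  · rw [← mulVec_mulVec, zero_mulVec]
    generalize (Pi.single l (1 : F) : Fin m → F) = x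
    simp [Am, sub_mulVec, vecMulVec_mulVec, ← fm_apply, hab, hba, hJ.self]
  · have hJt : ∀ u, J *ᵥ u = -(u ᵥ* J) := fun u => by
      conv_lhs => rw [← transpose_transpose J, mulVec_transpose, hJ.transpose, vecMul_neg]
    rw [one_smul, Am, transpose_sub, transpose_vecMulVec, transpose_vecMulVec, sub_mul, mul_sub, vecMulVec_mul,
      vecMulVec_mul, mul_vecMulVec, mul_vecMulVec, hJt, hJt, neg_vecMulVec, neg_vecMulVec]
    abel
  · ext p q; simp [Am, ha, vecMulVec_apply]
  · ext p q; simp [Am, hs, vecMulVec_apply, smul_vecMul]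

namespace Kind

variable {J : Matrix (Fin m) (Fin m) F} {s : F} {O : Matrix (Fin m) (Fin m) F}

theorem ne_zero_sign (h : Kind J s O) : s ≠ 0 := by
  rcases h.2.2.1 with rfl | rfl
  · exact one_ne_zero
  · exact neg_ne_zero.2 one_ne_zero

/-- Sandwiching a transvection direction. -/
theorem sandwich (h : Kind J s O) (u : Fin m → F) : O * Xm J u * O = s • Xm J (O *ᵥ u) := by
  rw [Xm, mul_vecMulVec, vecMulVec_mul, Xm, ← vecMulVec_smul]
  congr 1
  have hss : s * s = 1 := by rcases h.2.2.1 with rfl | rfl <;> ring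
  have h' : J * O = s • (Oᵀ * J) := by rw [h.2.2.2, smul_smul, hss, one_smul]
  rw [vecMul_vecMul, h', vecMul_smul, ← vecMul_vecMul, vecMul_transpose]

end Kind

namespace Whole

variable {J : Matrix (Fin m) (Fin m) F} {M : Subgroup (GL (Idx m N) F)} (hW : Whole J M) {i : Fin N}
include hW

/-- A non-scalar coefficient gives a product of one operator in each slot. -/
theorem exists_pat [NeZero m] {Y₀ : Matrix (Idx m N) (Idx m N) F} (hY₀ : Coef J M i Y₀)
    (hns : ∀ c : F, Y₀ ≠ c • 1) :
    ∃ (S : Finset (Fin N)) (os : Fin N → Matrix (Fin m) (Fin m) F) (ss : Fin N → F), i ∉ S ∧ S.Nonempty ∧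
      (∀ l ∈ S, Kind J (ss l) (os l) ∧ (ss l = -1 ∨ HasPair J)) ∧ Coef J M i (pat S os) := by
  classical
  have key : ∀ U : Finset (Fin N), i ∉ U → ∃ (S : Finset (Fin N)) (os : Fin N → Matrix (Fin m) (Fin m) F) (ss : Fin N → F)
      (Y : Matrix (Idx m N) (Idx m N) F), S ⊆ U ∧ (∀ l ∈ S, Kind J (ss l) (os l) ∧ (ss l = -1 ∨ HasPair J)) ∧
        Coef J M i Y ∧ Y ≠ 0 ∧ (∀ l ∈ U, Fac l (ops S os l) Y) ∧ (S = ∅ → Y = Y₀) := by
    intro U
    induction U using Finset.induction_on with
    | empty =>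
      exact fun _ => ⟨∅, 1, 1, Y₀, subset_rfl, by simp, hY₀, fun h => hns 0 (by rw [h, zero_smul]), by simp, fun _ => rfl⟩
    | insert l U hlU ih =>
      intro hiU
      rw [Finset.mem_insert, not_or] at hiU
      obtain ⟨hil, hiU⟩ := hiU
      obtain ⟨S, os, ss, Y, hSU, hk, hY, hY0, hfac, hS⟩ := ih hiU
      have hlS : l ∉ S := fun h => hlU (hSU h)
      obtain ⟨n, rfl⟩ : ∃ n, N = n + 1 := ⟨N - 1, by have := l.pos; omega⟩
      have hnew : ∀ (O : Matrix (Fin m) (Fin m) F) (s : F) (Y' : Matrix (Idx m (n + 1)) (Idx m (n + 1)) F),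
          (Kind J s O ∧ (s = -1 ∨ HasPair J)) → Coef J M i Y' → Y' ≠ 0 → Fac l O Y' →
          (∀ l' ∈ U, Fac l' (ops S os l') Y') → ∃ (S : Finset (Fin (n + 1)))
            (os : Fin (n + 1) → Matrix (Fin m) (Fin m) F) (ss : Fin (n + 1) → F)
            (Y : Matrix (Idx m (n + 1)) (Idx m (n + 1)) F), S ⊆ insert l U ∧
              (∀ l ∈ S, Kind J (ss l) (os l) ∧ (ss l = -1 ∨ HasPair J)) ∧
              Coef J M i Y ∧ Y ≠ 0 ∧ (∀ l' ∈ insert l U, Fac l' (ops S os l') Y) ∧ (S = ∅ → Y = Y₀) := by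
        intro O s Y' hO hY' hY'0 hl hU
        refine ⟨insert l S, Function.update os l O, Function.update ss l s, Y', Finset.insert_subset_insert _ hSU,
          fun k hk' => ?_, hY', hY'0, fun k hk' => ?_, fun h => absurd h (Finset.insert_ne_empty _ _)⟩
        · rcases eq_or_ne k l with rfl | hkl
          · simpa using hO
          · simpa [hkl] using hk k (by simpa [hkl] using hk')
        · rcases eq_or_ne k l with rfl | hkl
          · simpa [ops] using hl
          · simpa [ops, hkl] using hU k (by simpa [hkl] using hk')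
      have hsame : ∀ A B : Matrix (Fin m) (Fin m) F, ∀ l' ∈ U, Fac l' (ops S os l') (slot l A * Y * slot l B) :=
        fun A B l' hl' => (hfac l' hl').sandwich (fun h => hlU (by rw [h]; exact hl')) A B
      by_cases h1 : ∃ a, slot l (Xm J a) * Y * slot l (Xm J a) ≠ 0
      · obtain ⟨a, ha⟩ := h1
        refine hnew (Xm J a) (-1) _ ⟨kind_Xm hW.alt fun h0 => ha ?_, Or.inl rfl⟩ (hW.coef_slot_ops hY (Ne.symm hil) a).2
          ha (fac_of_blk fun x y => ?_) (hsame _ _)
        · rw [h0, show Xm J (0 : Fin m → F) = 0 by ext p q; simp [Xm, vecMulVec_apply]]; simp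
        · exact ⟨fm J a (blk (rx l Y) x y *ᵥ a), by
            rw [map_mul, map_mul, rx_slot_same, blk_sandwich, Xm_mul_mul]; rfl⟩
      push Not at h1
      by_cases h2 : ∃ a b, fm J a b = 0 ∧
          slot l (Xm J a) * Y * slot l (Xm J b) + slot l (Xm J b) * Y * slot l (Xm J a) ≠ 0
      · obtain ⟨a, b, hab, hne⟩ := h2
        have hblk : ∀ x y, blk (rx l (slot l (Xm J a) * Y * slot l (Xm J b) + slot l (Xm J b) * Y * slot l (Xm J a))) x y =
            fm J b (blk (rx l Y) x y *ᵥ a) • Am J a b := fun x y => by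
          rw [map_add, map_mul, map_mul, map_mul, map_mul, rx_slot_same, rx_slot_same, blk_add, blk_sandwich,
            blk_sandwich, sandwich_pair hW.alt fun c => SlotZero.blk_eq (J := J) h1 x y c]
        have hA : Am J a b ≠ 0 := fun h0 => hne ((rx l).injective (blk_ext fun x y => by
          rw [hblk, h0, smul_zero, map_zero]; ext p q; rfl))
        obtain ⟨hK, hP⟩ := kind_Am hW.alt hab hA
        exact hnew _ 1 _ ⟨hK, Or.inr hP⟩ (hW.coef_pair hY (Ne.symm hil) hab) hne
          (fac_of_blk fun x y => ⟨_, hblk x y⟩) fun l' hl' => (hsame _ _ l' hl').add (hsame _ _ l' hl')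
      push Not at h2
      refine ⟨S, os, ss, Y, hSU.trans (Finset.subset_insert _ _), hk, hY, hY0, fun k hk' => ?_, hS⟩
      rcases Finset.mem_insert.1 hk' with rfl | hkU
      · simp only [ops, hlS, if_false]
        refine fac_of_blk fun x y => scalar_of_sandwich hW.alt (fun c => SlotZero.blk_eq (J := J) h1 x y c) fun a b hab => ?_
        have h3 := congrArg (fun R => blk R x y) (congrArg (rx k) (h2 a b hab))
        simp only [map_add, map_mul, map_zero, rx_slot_same, blk_add, blk_sandwich] at h3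
        rw [h3]; ext p q; rfl
      · exact hfac k hkU
  obtain ⟨S, os, ss, Y, hS, hk, hY, hY0, hfac, hS0⟩ := key (Finset.univ.erase i) (by simp)
  have hiS : i ∉ S := fun h => by simpa using hS h
  obtain ⟨c, hc⟩ := eq_smul_pm_of_fac (os := ops S os) (fun l => by
      by_cases hl : l ∈ S
      · simpa [ops, hl] using (hk l hl).1.1
      · simpa [ops, hl] using one_ne_zero) fun l => by
    rcases eq_or_ne i l with rfl | hl
    · refine ⟨Y, hY.1, ?_⟩
      simp only [ops, hiS, if_false]
      rw [slot_one, one_mul]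
    · exact hfac l (by simp [Ne.symm hl])
  have hc0 : c ≠ 0 := fun h => hY0 (by rw [hc, h, zero_smul])
  refine ⟨S, os, ss, hiS, Finset.nonempty_iff_ne_empty.2 fun h => hns c ?_, hk, hW.coef_of_smul hc0 (Y := pat S os) ?_⟩
  · rw [← hS0 h, hc, ← pat_empty os, h]; rfl
  · rw [pat, ← hc]; exact hY

/-- Skew operators in all of the slots: an even number of them. -/
theorem even_of_skew [NeZero m] {S : Finset (Fin N)} (hiS : i ∉ S) {os : Fin N → Matrix (Fin m) (Fin m) F}
    (hk : ∀ l ∈ S, Kind J (-1) (os l)) (hY : Coef J M i (pat S os)) : Even S.card := by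
  classical
  set v : Fin m → F := Pi.single 0 1
  have hv : v ≠ 0 := by simp [v]
  set R := Function.update os i (Xm J v)
  have hR : ∀ l ∈ insert i S, Kind J (-1) (R l) := fun l hl => by
    rcases eq_or_ne l i with rfl | hli
    · simpa [R] using kind_Xm hW.alt hv
    · simpa [R, hli] using hk l (by simpa [hli] using hl)
  have he : slot i (Xm J v) * pat S os = pat (insert i S) R := by
    rw [pat_insert hiS, pat_congr (os := R) (os' := os) fun l hl => Function.update_of_ne (fun h => hiS (by rw [← h]; exact hl)) _ _]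
    simp [R]
  obtain ⟨g, hg, hgX⟩ := hY.2 v
  obtain ⟨g', hg', hgX'⟩ := (hW.coef_neg hY).2 v
  rw [he] at hgX
  rw [mul_neg, he, ← sub_eq_add_neg] at hgX'
  have hsk : (pat (insert i S) R)ᵀ * Jt J N = -(Jt J N * pat (insert i S) R) := by
    have h1 := hW.setting.iso g hg
    have h2 := hW.setting.iso g' hg'
    rw [hgX] at h1
    rw [hgX'] at h2
    rw [Iso] at h1 h2
    simp only [transpose_add, transpose_sub, transpose_one, add_mul, sub_mul, mul_add, mul_sub, one_mul, mul_one] at h1 h2
    refine eq_neg_of_add_eq_zero_left ((smul_eq_zero.1 (show (2 : F) • ((pat (insert i S) R)ᵀ * Jt J N +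
      Jt J N * pat (insert i S) R) = 0 from ?_)).resolve_left hW.two)
    linear_combination (norm := (rw [two_smul]; abel)) h1 - h2
  have hev : (pat (insert i S) R)ᵀ * Jt J N = (-1 : F) ^ (insert i S).card • (Jt J N * pat (insert i S) R) := by
    rw [pat, pm_transpose, Jt, pm_mul, pm_mul, ← Finset.prod_const,
      show ∏ _l ∈ insert i S, (-1 : F) = ∏ l, if l ∈ insert i S then (-1 : F) else 1 by
        rw [Finset.prod_ite_mem, Finset.univ_inter], ← pm_smul]
    congr 1
    funext l
    by_cases hl : l ∈ insert i S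
    · simp [ops, hl, (hR l hl).2.2.2]
    · simp [ops, hl]
  have hne : Jt J N * pat (insert i S) R ≠ 0 := fun h => by
    obtain ⟨u, hu⟩ := Jt_isUnit (t := N) hW.alt
    rw [← hu] at h
    exact pat_ne_zero (fun l hl => (hR l hl).1) ((Units.mul_right_eq_zero u).1 h)
  rw [hsk, ← neg_one_smul F, ← sub_eq_zero, ← sub_smul, smul_eq_zero, or_iff_left hne, sub_eq_zero,
    Finset.card_insert_of_notMem hiS, pow_succ'] at hev
  by_contra hodd
  rw [Nat.not_even_iff_odd] at hodd
  rw [hodd.neg_one_pow] at hev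
  exact hW.two (by linear_combination -hev)

/-- Coefficients are closed under the anticommutator when there is an isotropic pair. -/
theorem coef_jordan (hP : HasPair J) {Y Z : Matrix (Idx m N) (Idx m N) F} (hY : Coef J M i Y) (hZ : Coef J M i Z) :
    Coef J M i (Y * Z + Z * Y) := by
  classical
  obtain ⟨v, c, hv, hvc, hind⟩ := hP
  have hJ := hW.alt
  obtain ⟨d, hvd, hcd⟩ : ∃ d, fm J v d = 0 ∧ fm J c d = 1 := by
    obtain ⟨θ, hθ, hθ'⟩ := exists_perp_eq_one (x := v ᵥ* J) (y := c ᵥ* J) (fun a ha => hind a (sub_eq_zero.1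
      (hJ.nondeg.1 _ fun y => by
        rw [map_sub, LinearMap.sub_apply, map_smul, LinearMap.smul_apply, fm_apply, fm_apply, ha, smul_dotProduct,
          sub_self])))
    exact ⟨θ, by rw [fm_apply, dotProduct_comm, hθ], by rw [fm_apply, dotProduct_comm, hθ']⟩
  have hX0 : ∀ a b, fm J a b = 0 → Xm J a * Xm J b = 0 := fun a b h => by
    rw [Xm, Xm, vecMulVec_mul_vecMulVec, ← fm_apply, h, zero_smul, vecMulVec_zero]
  have hsrt : ∀ (Y : Matrix (Idx m N) (Idx m N) F), Coef J M i Y → ∀ e, fm J v e = 0 →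
      In M (1 + slot i (Srt J v e) * Y) := by
    intro Y hY e he
    have hev : fm J e v = 0 := by rw [hJ.flip v e, he, neg_zero]
    have hXX : ∀ A B : Matrix (Fin m) (Fin m) F, A * B = 0 → slot i A * Y * (slot i B * Y) = 0 := fun A B h => by
      rw [mul_assoc, ← mul_assoc Y, hY.1, mul_assoc, ← mul_assoc, slot_mul, h, map_zero, zero_mul]
    have e1 : Srt J v e = Xm J (v + e) + -Xm J v + -Xm J e := by
      simp only [Srt, Xm, add_vecMul, vecMulVec_add, add_vecMulVec]; abel
    rw [e1, map_add, map_add, add_mul, add_mul, map_neg, map_neg, neg_mul, neg_mul]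
    have hn : ∀ u, In M (1 + -(slot i (Xm J u) * Y)) := fun u => by
      have h := (hW.coef_neg hY).2 u; rwa [mul_neg] at h
    refine In.add ?_ (In.add ?_ (hY.2 _) (hn v)) (hn e)
    · rw [mul_neg, add_mul, neg_mul, hXX _ _ (hX0 _ _ (by simp [map_add, hJ.self, he])), hXX _ _ (hX0 _ _ he)]; simp
    · rw [mul_neg, hXX _ _ (hX0 _ _ (by simp [map_add, hJ.self, hev]))]; simp
  have hSS : ∀ x y, fm J v x = 0 → fm J v y = 0 → Srt J v x * Srt J v y = fm J x y • Xm J v := by
    intro x y hx hy
    refine Matrix.ext_of_mulVec_single fun l => ?_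
    rw [← mulVec_mulVec]
    simp only [Srt_mulVec, map_add, map_smul, smul_eq_mul, hJ.self, hy, hx, show fm J x v = 0 by rw [hJ.flip v x, hx, neg_zero],
      smul_mulVec, Xm_mulVec]
    module
  have hXS : ∀ x, fm J v x = 0 → Xm J v * Srt J v x = 0 := fun x hx => Matrix.ext_of_mulVec_single fun l => by
    rw [← mulVec_mulVec, zero_mulVec]
    generalize (Pi.single l (1 : F) : Fin m → F) = y
    simp [Xm_mulVec, Srt_mulVec, hx, hJ.self]
  set A := slot i (Srt J v c) * Y with hA
  set B := slot i (Srt J v d) * Z with hB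
  have hprod : ∀ (P Q : Matrix (Fin m) (Fin m) F) (U V : Matrix (Idx m N) (Idx m N) F), (∀ R, U * slot i R = slot i R * U) →
      slot i P * U * (slot i Q * V) = slot i (P * Q) * (U * V) := fun P Q U V hU => by
    rw [mul_assoc, ← mul_assoc U, hU, mul_assoc, ← mul_assoc, slot_mul]
  have hN : A * B - B * A = slot i (Xm J v) * (Y * Z + Z * Y) := by
    rw [hA, hB, hprod _ _ _ _ hY.1, hprod _ _ _ _ hZ.1, hSS c d hvc hvd, hSS d c hvd hvc, hcd, hJ.flip c d, hcd,
      one_smul, neg_smul, one_smul, map_neg, neg_mul, sub_neg_eq_add, mul_add]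
  have hcomm : ∀ R, (Y * Z + Z * Y) * slot i R = slot i R * (Y * Z + Z * Y) := fun R => by
    rw [add_mul, mul_assoc, hZ.1, ← mul_assoc, hY.1, mul_assoc Z, hY.1, ← mul_assoc Z, hZ.1, mul_add]
    simp only [mul_assoc]
  refine hW.coef_of_one hv hcomm ?_
  rw [← hN]
  refine in_comm (hsrt Y hY c hvc) (hsrt Z hZ d hvd) ?_ ?_ <;>
  · rw [hN, hA, hB] at *
    rw [hprod _ _ _ _ hcomm, hXS _ (by assumption), map_zero, zero_mul]

/-- Bracketing in a set of slots. -/
theorem coef_ad {S C : Finset (Fin N)} (hiC : i ∉ C) (hCS : C ⊆ S) {os : Fin N → Matrix (Fin m) (Fin m) F}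
    (u : Fin N → Fin m → F) (hY : Coef J M i (pat S os)) :
    Coef J M i (pat S fun l => if l ∈ C then Xm J (u l) * os l - os l * Xm J (u l) else os l) := by
  classical
  induction C using Finset.induction_on with
  | empty => simpa using hY
  | insert j C hj ih =>
    rw [Finset.mem_insert, not_or] at hiC
    have h := (hW.coef_slot_ops (ih hiC.2 (fun l hl => hCS (Finset.mem_insert_of_mem hl))) (Ne.symm hiC.1) (u j)).1
    convert h using 1
    set os' : Fin N → Matrix (Fin m) (Fin m) F := fun l => if l ∈ C then Xm J (u l) * os l - os l * Xm J (u l) else os l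
    have hjS : j ∈ S := hCS (Finset.mem_insert_self _ _)
    conv_lhs => rw [← Finset.insert_erase hjS, pat_insert (Finset.notMem_erase _ _)]
    conv_rhs => rw [← Finset.insert_erase hjS, pat_insert (Finset.notMem_erase _ _)]
    rw [pat_congr (S := S.erase j) (os' := os') (fun l hl => by
      have : l ≠ j := Finset.ne_of_mem_erase hl
      simp [os', this])]
    simp only [Finset.mem_insert, true_or, if_true, os', hj, if_false]
    rw [← mul_assoc, slot_mul, mul_assoc _ (pat _ _), pat_comm_slot (Finset.notMem_erase _ _), ← mul_assoc, slot_mul,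
      map_sub, sub_mul]

/-- From an even number of slots to transvection directions. -/
theorem coef_to_Xm (hP : HasPair J) {S : Finset (Fin N)} (hiS : i ∉ S) (hev : Even S.card)
    {os : Fin N → Matrix (Fin m) (Fin m) F} {ss : Fin N → F} (hk : ∀ l ∈ S, Kind J (ss l) (os l))
    (hY : Coef J M i (pat S os)) :
    ∃ w : Fin N → Fin m → F, (∀ l ∈ S, w l ≠ 0) ∧ Coef J M i (pat S fun l => Xm J (w l)) := by
  classical
  have hu : ∀ l, ∃ u : Fin m → F, l ∈ S → os l *ᵥ u ≠ 0 := fun l => by
    by_cases hl : l ∈ S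
    swap
    · exact ⟨0, fun h => absurd h hl⟩
    by_contra hcon
    push Not at hcon
    exact (hk l hl).1 (Matrix.ext_of_mulVec_single fun k => by rw [(hcon _).2, zero_mulVec])
  choose u hu using hu
  refine ⟨fun l => os l *ᵥ u l, hu, ?_⟩
  have h := hW.coef_jordan hP hY (hW.coef_ad hiS subset_rfl u hY)
  rw [pat_mul, pat_mul, pat_congr (os' := fun l => ss l • Xm J (os l *ᵥ u l)) (fun l hl => by
      simp only [hl, if_true]
      rw [mul_sub, ← mul_assoc (os l) (os l), (hk l hl).2.1, zero_mul, sub_zero, ← mul_assoc, (hk l hl).sandwich]),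
    pat_congr (os := fun l => _ * os l) (os' := fun l => (-ss l) • Xm J (os l *ᵥ u l)) (fun l hl => by
      simp only [hl, if_true]
      rw [sub_mul, mul_assoc _ (os l) (os l), (hk l hl).2.1, mul_zero, zero_sub, (hk l hl).sandwich, neg_smul]),
    pat_smul, pat_smul, Finset.prod_neg, hev.neg_one_pow, one_mul, ← add_smul, ← two_mul] at h
  exact hW.coef_of_smul (mul_ne_zero hW.two (Finset.prod_ne_zero_iff.2 fun l hl => (hk l hl).ne_zero_sign)) h

/-- A free slot makes the number of slots even. -/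
theorem coef_spread (hperm : ∀ j k : Fin N, In M (permM (Equiv.swap j k))) (hP : HasPair J) {S : Finset (Fin N)} (hiS : i ∉ S) (hodd : Odd S.card) {l : Fin N}
    (hl : l ∉ insert i S) {os : Fin N → Matrix (Fin m) (Fin m) F} {ss : Fin N → F}
    (hk : ∀ l ∈ S, Kind J (ss l) (os l)) (hY : Coef J M i (pat S os)) :
    ∃ (os' : Fin N → Matrix (Fin m) (Fin m) F) (ss' : Fin N → F),
      (∀ k ∈ insert l S, Kind J (ss' k) (os' k)) ∧ Coef J M i (pat (insert l S) os') := by
  classical
  rw [Finset.mem_insert, not_or] at hl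
  obtain ⟨hli, hlS⟩ := hl
  obtain ⟨j, hj⟩ := Finset.card_pos.1 hodd.pos
  set C := S.erase j with hC
  have hjl : j ≠ l := fun h => hlS (h ▸ hj)
  have hij : i ≠ j := fun h => hiS (h ▸ hj)
  have hu : ∀ k, ∃ u : Fin m → F, k ∈ S → os k *ᵥ u ≠ 0 := fun k => by
    by_cases hk' : k ∈ S
    swap
    · exact ⟨0, fun h => absurd h hk'⟩
    by_contra hcon
    push Not at hcon
    exact (hk k hk').1 (Matrix.ext_of_mulVec_single fun x => by rw [(hcon _).2, zero_mulVec])
  choose u hu using hu
  obtain ⟨g, hg, hgP⟩ := hperm j l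
  have hgi : ((g⁻¹ : GL (Idx m N) F) : Matrix (Idx m N) (Idx m N) F) = permM (Equiv.swap j l) :=
    Units.inv_eq_of_mul_eq_one_right (by rw [hgP, permM_mul_self (Equiv.swap_mul_self j l)])
  have hZ := hW.coef_conj (hW.coef_ad (fun h => hiS (Finset.mem_of_mem_erase h)) (Finset.erase_subset j S) u hY) hg
    (fun Z => by
      rw [hgP, slot_apply, permM_mul_pm]
      congr 2
      funext k
      rcases eq_or_ne k i with rfl | hk'
      · simp [Equiv.swap_apply_of_ne_of_ne hij (Ne.symm hli)]
      · have : Equiv.swap j l k ≠ i := fun h => hk' (by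
          rw [← Equiv.swap_apply_self j l k, h, Equiv.swap_apply_of_ne_of_ne hij (Ne.symm hli)])
        simp [hk', this])
  rw [hgP, hgi, pat_swap] at hZ
  have him : S.image (Equiv.swap j l) = insert l C := by
    conv_lhs => rw [← Finset.insert_erase hj]
    rw [Finset.image_insert, Equiv.swap_apply_left, Finset.image_congr (g := id) (fun k hk' => ?_), Finset.image_id]
    rw [Finset.mem_coe, Finset.mem_erase] at hk'
    exact Equiv.swap_apply_of_ne_of_ne hk'.1 fun h => hlS (h ▸ hk'.2)
  rw [him] at hZ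
  have h := hW.coef_jordan hP hY hZ
  set os' : Fin N → Matrix (Fin m) (Fin m) F :=
    fun k => if k = l then os j else if k = j then os j else Xm J (os k *ᵥ u k)
  set ss' : Fin N → F := fun k => if k = l then ss j else if k = j then ss j else -1
  refine ⟨os', ss', fun k hk' => ?_, ?_⟩
  · by_cases h1 : k = l
    · simpa [os', ss', h1] using hk j hj
    by_cases h2 : k = j
    · simpa [os', ss', h1, h2, hjl] using hk j hj
    · simpa [os', ss', h1, h2] using kind_Xm hW.alt (hu k (by simpa [h1] using hk'))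
  have hlC : l ∉ C := fun h' => hlS (Finset.mem_of_mem_erase h')
  have hjC : j ∉ C := Finset.notMem_erase _ _
  have hswap : ∀ k ∈ C, Equiv.swap j l k = k := fun k hk' => Equiv.swap_apply_of_ne_of_ne (fun h' => hjC (h' ▸ hk'))
    fun h' => hlC (h' ▸ hk')
  have eC : ∀ k ∈ C, os' k = Xm J (os k *ᵥ u k) := fun k hk' => by
    simp [os', show k ≠ l from fun h' => hlC (h' ▸ hk'), show k ≠ j from fun h' => hjC (h' ▸ hk')]
  have hZe : pat (insert l C) (fun k => if Equiv.swap j l k ∈ C then
      Xm J (u (Equiv.swap j l k)) * os (Equiv.swap j l k) - os (Equiv.swap j l k) * Xm J (u (Equiv.swap j l k))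
      else os (Equiv.swap j l k)) = slot l (os j) * pat C (fun k => Xm J (u k) * os k - os k * Xm J (u k)) := by
    rw [pat_insert hlC, Equiv.swap_apply_right, if_neg hjC]
    congr 1
    exact pat_congr fun k hk' => by rw [hswap k hk', if_pos hk']
  have hYe : pat S os = slot j (os j) * pat C os := by
    rw [← pat_insert hjC, Finset.insert_erase hj]
  have hA : pat C os * pat C (fun k => Xm J (u k) * os k - os k * Xm J (u k)) =
      (∏ k ∈ C, ss k) • pat C os' := by
    rw [pat_mul, ← pat_smul]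
    refine pat_congr fun k hk' => ?_
    have hk'' := hk k (Finset.mem_of_mem_erase hk')
    rw [eC k hk', mul_sub, ← mul_assoc (os k) (os k), hk''.2.1, zero_mul, sub_zero, ← mul_assoc, hk''.sandwich]
  have hB : pat C (fun k => Xm J (u k) * os k - os k * Xm J (u k)) * pat C os =
      (∏ k ∈ C, ss k) • pat C os' := by
    have he : Even C.card := by
      rw [Finset.card_erase_of_mem hj]; exact Nat.Odd.sub_odd hodd odd_one
    rw [pat_mul, show ∏ k ∈ C, ss k = ∏ k ∈ C, -ss k by rw [Finset.prod_neg, he.neg_one_pow, one_mul], ← pat_smul]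
    refine pat_congr fun k hk' => ?_
    have hk'' := hk k (Finset.mem_of_mem_erase hk')
    rw [eC k hk', sub_mul, mul_assoc _ (os k) (os k), hk''.2.1, mul_zero, zero_sub, hk''.sandwich, neg_smul]
  have hins : pat (insert l S) os' = slot l (os j) * (slot j (os j) * pat C os') := by
    conv_lhs => rw [← Finset.insert_erase hj]
    rw [pat_insert (by rw [Finset.insert_erase hj]; exact hlS), pat_insert hjC, show os' l = os j by simp [os'],
      show os' j = os j by simp [os', hjl]]
  rw [hYe, hZe] at h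
  refine hW.coef_of_smul (mul_ne_zero hW.two (Finset.prod_ne_zero_iff.2 fun k hk' =>
    (hk k (Finset.mem_of_mem_erase hk')).ne_zero_sign : ∏ k ∈ C, ss k ≠ 0)) ?_
  convert h using 1
  rw [mul_assoc (slot j (os j)), ← mul_assoc (pat C os), pat_comm_slot hlC, mul_assoc (slot l (os j)), hA,
    mul_assoc (slot l (os j)) (pat C _), ← mul_assoc (pat C _) (slot j (os j)), pat_comm_slot hjC,
    mul_assoc (slot j (os j)), hB, hins, ← mul_assoc (slot j (os j)) (slot l (os j)), slot_comm hjl]
  simp only [mul_smul_comm, mul_assoc, two_mul, add_smul]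

end Whole

end CfsgLib.TensorSympWreath
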