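import Cfsg.Agent.Lib.TensorSympWreath.Radical

/-!
The coefficients of slot transvections in a group, and the reduction of a non-scalar coefficient to a product
of one operator in each slot.
-/

set_option autoImplicit false
set_option linter.unusedSectionVars false
set_option linter.unusedSimpArgs false

namespace CfsgLib.TensorSympWreath

open Matrix
open scoped Kronecker
open CfsgLib.Maximal.TensorPower
open CfsgLib.TensorWreathMax (Idx split rx In rx_pm rx_slot_same split_symm_apply permM permM_conj_pm permM_mul_self)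

attribute [-simp] Matrix.coe_units_inv

variable {F : Type*} [Field F] {m N : ℕ}

/-- The coefficients of the transvections in a slot. -/
def Coef (J : Matrix (Fin m) (Fin m) F) (M : Subgroup (GL (Idx m N) F)) (i : Fin N)
    (Y : Matrix (Idx m N) (Idx m N) F) : Prop :=
  (∀ Z, Y * slot i Z = slot i Z * Y) ∧ ∀ v, In M (1 + slot i (Xm J v) * Y)

/-- The group contains the isometries of the slots, in odd characteristic. -/
structure Whole (J : Matrix (Fin m) (Fin m) F) (M : Subgroup (GL (Idx m N) F)) : Prop where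
  alt : Alt J
  two : (2 : F) ≠ 0
  setting : Setting J M

namespace Whole

variable {J : Matrix (Fin m) (Fin m) F} {M : Subgroup (GL (Idx m N) F)} (hW : Whole J M) {i : Fin N}
include hW

theorem coef_zero : Coef J M i 0 := ⟨fun Z => by simp, fun v => by simpa using In.one⟩

theorem coef_add {Y Z : Matrix (Idx m N) (Idx m N) F} (hY : Coef J M i Y) (hZ : Coef J M i Z) :
    Coef J M i (Y + Z) := by
  refine ⟨fun W => by rw [add_mul, mul_add, hY.1, hZ.1], fun v => ?_⟩
  rw [mul_add]
  refine In.add ?_ (hY.2 v) (hZ.2 v)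
  rw [mul_assoc, ← mul_assoc Y, hY.1, mul_assoc, ← mul_assoc, slot_mul, hW.alt.Xm_mul_self, map_zero, zero_mul]

theorem coef_neg {Y : Matrix (Idx m N) (Idx m N) F} (hY : Coef J M i Y) : Coef J M i (-Y) := by
  refine ⟨fun W => by rw [neg_mul, mul_neg, hY.1], fun v => ?_⟩
  rw [mul_neg, ← sub_eq_add_neg]
  refine In.neg ?_ (hY.2 v)
  rw [mul_assoc, ← mul_assoc Y, hY.1, mul_assoc, ← mul_assoc, slot_mul, hW.alt.Xm_mul_self, map_zero, zero_mul]

theorem coef_sub {Y Z : Matrix (Idx m N) (Idx m N) F} (hY : Coef J M i Y) (hZ : Coef J M i Z) :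
    Coef J M i (Y - Z) := by
  rw [sub_eq_add_neg]; exact hW.coef_add hY (hW.coef_neg hZ)

theorem coef_smul {Y : Matrix (Idx m N) (Idx m N) F} (hY : Coef J M i Y) (c : F) : Coef J M i (c • Y) := by
  have hsq : ∀ r : F, Coef J M i ((r * r) • Y) := fun r =>
    ⟨fun W => by rw [smul_mul_assoc, mul_smul_comm, hY.1], fun v => by
      have h := hY.2 (r • v)
      rwa [Xm_smul, map_smul, smul_mul_assoc, ← mul_smul_comm] at h⟩
  have e : c = ((c + 1) / 2) * ((c + 1) / 2) - ((c - 1) / 2) * ((c - 1) / 2) := by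
    have := hW.two
    field_simp
    ring
  rw [e, sub_smul]
  exact hW.coef_sub (hsq _) (hsq _)

theorem coef_of_smul {Y : Matrix (Idx m N) (Idx m N) F} {c : F} (hc : c ≠ 0) (hY : Coef J M i (c • Y)) :
    Coef J M i Y := by
  have h := hW.coef_smul hY c⁻¹
  rwa [smul_smul, inv_mul_cancel₀ hc, one_smul] at h

/-- A coefficient for one direction is one for all. -/
theorem coef_of_one {v : Fin m → F} (hv : v ≠ 0) {Y : Matrix (Idx m N) (Idx m N) F}
    (hc : ∀ Z, Y * slot i Z = slot i Z * Y) (h : In M (1 + slot i (Xm J v) * Y)) : Coef J M i Y := by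
  refine ⟨hc, fun w => ?_⟩
  rcases eq_or_ne w 0 with rfl | hw
  · rw [show Xm J (0 : Fin m → F) = 0 by ext p q; simp [Xm, vecMulVec_apply]]
    simpa using In.one
  obtain ⟨A, hAv, hAi, hAM⟩ := hW.alt.exists_move hv hw
  obtain ⟨g, hg, hgA⟩ := hAM hW.setting i
  have hgi : ((g⁻¹ : GL (Idx m N) F) : Matrix (Idx m N) (Idx m N) F) =
      slot i ((A⁻¹ : GL (Fin m) F) : Matrix (Fin m) (Fin m) F) :=
    Units.inv_eq_of_mul_eq_one_right (by rw [hgA, slot_mul, Units.mul_inv, slot_one])
  have h1 := In.conj hg h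
  convert h1 using 2
  rw [hgA, hgi, mul_assoc (slot i (A : Matrix (Fin m) (Fin m) F)), mul_assoc (slot i (Xm J v)), hc, ← mul_assoc,
    ← mul_assoc, slot_mul, slot_mul, hW.alt.conj_Xm' one_ne_zero (show _ = (1 : F) • J from hAi.trans (one_smul F J).symm),
    hAv, inv_one, one_smul]

/-- Conjugation by elements of the group commuting with the slot. -/
theorem coef_conj {Y : Matrix (Idx m N) (Idx m N) F} (hY : Coef J M i Y) {g : GL (Idx m N) F} (hg : g ∈ M)
    (hgc : ∀ Z, (g : Matrix (Idx m N) (Idx m N) F) * slot i Z = slot i Z * (g : Matrix (Idx m N) (Idx m N) F)) :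
    Coef J M i ((g : Matrix (Idx m N) (Idx m N) F) * Y * ((g⁻¹ : GL (Idx m N) F) : Matrix (Idx m N) (Idx m N) F)) := by
  have hgc' : ∀ Z, ((g⁻¹ : GL (Idx m N) F) : Matrix (Idx m N) (Idx m N) F) * slot i Z =
      slot i Z * ((g⁻¹ : GL (Idx m N) F) : Matrix (Idx m N) (Idx m N) F) := fun Z => by
    have h := congrArg (fun X => ((g⁻¹ : GL (Idx m N) F) : Matrix (Idx m N) (Idx m N) F) * X *
      ((g⁻¹ : GL (Idx m N) F) : Matrix (Idx m N) (Idx m N) F)) (hgc Z)
    simp only [mul_assoc, Units.mul_inv, mul_one, Units.inv_mul_cancel_left] at h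
    exact h.symm
  refine ⟨fun Z => ?_, fun v => ?_⟩
  · rw [mul_assoc, hgc', ← mul_assoc, mul_assoc _ Y, hY.1, ← mul_assoc, hgc]
    simp only [mul_assoc]
  · convert In.conj hg (hY.2 v) using 2
    rw [← mul_assoc (g : Matrix (Idx m N) (Idx m N) F) (slot i (Xm J v)), hgc]
    simp only [mul_assoc]

/-- Brackets and sandwiches by square zero directions in the group. -/
theorem coef_ops {Y P : Matrix (Idx m N) (Idx m N) F} (hY : Coef J M i Y) (hP2 : P * P = 0)
    (hPM : In M (1 + P)) (hPc : ∀ Z, P * slot i Z = slot i Z * P) :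
    Coef J M i (P * Y - Y * P) ∧ Coef J M i (P * Y * P) := by
  obtain ⟨g, hg, hgP⟩ := hPM
  have hgi : ((g⁻¹ : GL (Idx m N) F) : Matrix (Idx m N) (Idx m N) F) = 1 - P :=
    Units.inv_eq_of_mul_eq_one_right (by rw [hgP, add_mul, one_mul, mul_sub, mul_one, hP2]; abel)
  have hgc : ∀ Z, (g : Matrix (Idx m N) (Idx m N) F) * slot i Z = slot i Z * (g : Matrix (Idx m N) (Idx m N) F) :=
    fun Z => by rw [hgP, add_mul, mul_add, one_mul, mul_one, hPc]
  have hgc' : ∀ Z, ((g⁻¹ : GL (Idx m N) F) : Matrix (Idx m N) (Idx m N) F) * slot i Z =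
      slot i Z * ((g⁻¹ : GL (Idx m N) F) : Matrix (Idx m N) (Idx m N) F) :=
    fun Z => by rw [hgi, sub_mul, mul_sub, one_mul, mul_one, hPc]
  have h1 := hW.coef_conj hY hg hgc
  have h2 := hW.coef_conj hY (inv_mem hg) hgc'
  rw [hgP, hgi] at h1
  rw [inv_inv, hgP, hgi] at h2
  have e1 : (1 + P) * Y * (1 - P) = Y + (P * Y - Y * P) - P * Y * P := by noncomm_ring
  have e2 : (1 - P) * Y * (1 + P) = Y - (P * Y - Y * P) - P * Y * P := by noncomm_ring
  rw [e1] at h1
  rw [e2] at h2
  constructor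
  · refine hW.coef_of_smul hW.two ?_
    convert hW.coef_sub h1 h2 using 1
    rw [two_smul]; abel
  · refine hW.coef_of_smul hW.two ?_
    convert hW.coef_sub (hW.coef_sub (hW.coef_add hY hY) h1) h2 using 1
    rw [two_smul]; abel

theorem slot_root (l : Fin N) (a : Fin m → F) : In M (1 + slot l (Xm J a)) := by
  simpa using hW.setting.root l a 1

theorem root_sq (l : Fin N) (a : Fin m → F) : slot l (Xm J a) * slot l (Xm J a) = 0 := by
  rw [slot_mul, hW.alt.Xm_mul_self, map_zero]

theorem coef_slot_ops {Y : Matrix (Idx m N) (Idx m N) F} (hY : Coef J M i Y) {l : Fin N} (hl : l ≠ i)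
    (a : Fin m → F) : Coef J M i (slot l (Xm J a) * Y - Y * slot l (Xm J a)) ∧
      Coef J M i (slot l (Xm J a) * Y * slot l (Xm J a)) :=
  hW.coef_ops hY (hW.root_sq l a) (hW.slot_root l a) fun Z => slot_comm hl _ _

theorem coef_pair {Y : Matrix (Idx m N) (Idx m N) F} (hY : Coef J M i Y) {l : Fin N} (hl : l ≠ i)
    {a b : Fin m → F} (hab : fm J a b = 0) :
    Coef J M i (slot l (Xm J a) * Y * slot l (Xm J b) + slot l (Xm J b) * Y * slot l (Xm J a)) := by
  have h := hW.coef_neg ((hW.coef_slot_ops (hW.coef_slot_ops hY hl a).1 hl b).1)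
  have e1 : slot l (Xm J b) * slot l (Xm J a) = 0 := by
    rw [slot_mul, Xm, Xm, vecMulVec_mul_vecMulVec, ← fm_apply, hW.alt.flip a b, hab, neg_zero, zero_smul,
      vecMulVec_zero, map_zero]
  have e2 : slot l (Xm J a) * slot l (Xm J b) = 0 := by
    rw [slot_mul, Xm, Xm, vecMulVec_mul_vecMulVec, ← fm_apply, hab, zero_smul, vecMulVec_zero, map_zero]
  convert h using 1
  simp only [mul_sub, sub_mul, mul_assoc, e2, ← mul_assoc (slot l (Xm J b)) (slot l (Xm J a)), e1, zero_mul, mul_zero]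
  abel

end Whole

/-- An operator with a single factor in a slot. -/
def Fac (l : Fin N) (O : Matrix (Fin m) (Fin m) F) (Y : Matrix (Idx m N) (Idx m N) F) : Prop :=
  ∃ Z, (∀ B, Z * slot l B = slot l B * Z) ∧ Y = slot l O * Z

theorem Fac.sandwich {l l' : Fin N} (h : l' ≠ l) {O : Matrix (Fin m) (Fin m) F} {Y : Matrix (Idx m N) (Idx m N) F}
    (hY : Fac l O Y) (A B : Matrix (Fin m) (Fin m) F) : Fac l O (slot l' A * Y * slot l' B) := by
  obtain ⟨Z, hZ, rfl⟩ := hY
  refine ⟨slot l' A * Z * slot l' B, fun C => ?_, ?_⟩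
  · rw [mul_assoc _ (slot l' B), slot_comm h B C, ← mul_assoc, mul_assoc (slot l' A) Z, hZ, ← mul_assoc (slot l' A),
      slot_comm h A C]
    simp only [mul_assoc]
  · rw [← mul_assoc (slot l' A), slot_comm h A O]
    simp only [mul_assoc]

theorem Fac.add {l : Fin N} {O : Matrix (Fin m) (Fin m) F} {Y Y' : Matrix (Idx m N) (Idx m N) F}
    (hY : Fac l O Y) (hY' : Fac l O Y') : Fac l O (Y + Y') := by
  obtain ⟨Z, hZ, rfl⟩ := hY
  obtain ⟨Z', hZ', rfl⟩ := hY'
  exact ⟨Z + Z', fun C => by rw [add_mul, mul_add, hZ, hZ'], by rw [mul_add]⟩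

theorem fac_of_blk {n : ℕ} {l : Fin (n + 1)} {O : Matrix (Fin m) (Fin m) F}
    {Y : Matrix (Idx m (n + 1)) (Idx m (n + 1)) F} (h : ∀ x y, ∃ c : F, blk (rx l Y) x y = c • O) : Fac l O Y := by
  choose c hc using h
  refine ⟨(rx l).symm ((1 : Matrix (Fin m) (Fin m) F) ⊗ₖ Matrix.of c), fun B => ?_, ?_⟩
  · refine (rx l).injective ?_
    rw [map_mul, map_mul, AlgEquiv.apply_symm_apply, rx_slot_same, ← mul_kronecker_mul, ← mul_kronecker_mul, one_mul,
      mul_one, mul_one, one_mul]
  · refine (rx l).injective (blk_ext fun x y => ?_)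
    rw [map_mul, AlgEquiv.apply_symm_apply, rx_slot_same, ← mul_kronecker_mul, mul_one, one_mul, blk_kron, hc,
      Matrix.of_apply]

theorem fac_entry {n : ℕ} [NeZero m] {l : Fin (n + 1)} {O : Matrix (Fin m) (Fin m) F}
    {Y : Matrix (Idx m (n + 1)) (Idx m (n + 1)) F} (h : Fac l O Y) (p q : Fin m) (x y : Idx m (n + 1)) :
    Y x y * O p q = O (x l) (y l) * Y (Function.update x l p) (Function.update y l q) := by
  obtain ⟨Z, hZ, rfl⟩ := h
  obtain ⟨Z', hZ'⟩ := rx_commute_slot hZ (0 : Fin m)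
  have he : ∀ u w, (slot l O * Z : Matrix (Idx m (n + 1)) (Idx m (n + 1)) F) u w =
      O (u l) (w l) * Z' (l.removeNth u) (l.removeNth w) := fun u w => by
    have h1 : rx l (slot l O * Z) = O ⊗ₖ Z' := by
      rw [map_mul, rx_slot_same, hZ', ← mul_kronecker_mul, mul_one, one_mul]
    have h2 := congrFun (congrFun h1 (u l, l.removeNth u)) (w l, l.removeNth w)
    simpa [split_symm_apply, Fin.insertNth_self_removeNth] using h2
  rw [he, he, Fin.removeNth_update, Fin.removeNth_update, Function.update_self, Function.update_self]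
  ring

/-- An operator with a single factor in every slot is a product. -/
theorem eq_smul_pm_of_fac [NeZero m] {os : Fin N → Matrix (Fin m) (Fin m) F} (hos : ∀ l, os l ≠ 0)
    {Y : Matrix (Idx m N) (Idx m N) F} (h : ∀ l, Fac l (os l) Y) : ∃ c : F, Y = c • pm os := by
  classical
  have hex : ∀ l, ∃ pq : Fin m × Fin m, os l pq.1 pq.2 ≠ 0 := fun l => by
    obtain ⟨p, hp⟩ := Function.ne_iff.1 (hos l)
    obtain ⟨q, hq⟩ := Function.ne_iff.1 hp
    exact ⟨(p, q), hq⟩
  choose pq hpq using hex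
  have key : ∀ S : Finset (Fin N), ∀ x y : Idx m N, Y x y * ∏ l ∈ S, os l (pq l).1 (pq l).2 =
      (∏ l ∈ S, os l (x l) (y l)) *
        Y (fun l => if l ∈ S then (pq l).1 else x l) (fun l => if l ∈ S then (pq l).2 else y l) := by
    intro S
    induction S using Finset.induction_on with
    | empty => intro x y; simp
    | insert l S hl ih =>
      intro x y
      obtain ⟨n, rfl⟩ : ∃ n, N = n + 1 := ⟨N - 1, by have := l.pos; omega⟩
      rw [Finset.prod_insert hl, Finset.prod_insert hl, mul_left_comm, ih]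
      have e := fac_entry (h l) (pq l).1 (pq l).2 (fun k => if k ∈ S then (pq k).1 else x k)
        (fun k => if k ∈ S then (pq k).2 else y k)
      simp only [hl, if_false] at e
      have u1 : ∀ (g : Fin (n + 1) → Fin m) (f : Fin (n + 1) → Fin m),
          Function.update (fun k => if k ∈ S then g k else f k) l (g l) = fun k => if k ∈ insert l S then g k else f k := by
        intro g f
        funext k
        rcases eq_or_ne k l with rfl | hk
        · simp
        · simp [hk]
      rw [u1 (fun k => (pq k).1) x, u1 (fun k => (pq k).2) y] at e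
      linear_combination (∏ k ∈ S, os k (x k) (y k)) * e
  refine ⟨Y (fun l => (pq l).1) (fun l => (pq l).2) / ∏ l, os l (pq l).1 (pq l).2, Matrix.ext fun x y => ?_⟩
  have h1 := key Finset.univ x y
  simp only [Finset.mem_univ, if_true] at h1
  rw [Matrix.smul_apply, smul_eq_mul, div_mul_eq_mul_div,
    eq_div_iff (Finset.prod_ne_zero_iff.2 fun l _ => hpq l), h1]
  simp [pm, mul_comm]

end CfsgLib.TensorSympWreath
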