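import Cfsg.Agent.Lib.TensorSympWreath.Residue

/-!
Consequences for a pair: a commuting root element with a non-trivial residue, the zero part, and diagonal
elements.
-/

set_option autoImplicit false
set_option linter.unusedSectionVars false
set_option linter.unusedSimpArgs false

namespace CfsgLib.TensorSympWreath

open Matrix Polynomial

attribute [-simp] Matrix.coe_units_inv

variable {F : Type*} [Field F] {ι : Type} [Fintype ι] [DecidableEq ι]

namespace SqPair

variable {p : SqPair F ι}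

/-- An element killing `A` kills the central element. -/
theorem mul_X_eq_zero {q : F[X]} (h : p.P q * p.A = 0) : p.P (q * X) = 0 := by
  rw [map_mul, P_X, C, mul_add, ← mul_assoc, ← mul_assoc, h, zero_mul, (p.P_B q).eq, mul_assoc, h, mul_zero, add_zero]

/-- Cancelling units of the idempotent. -/
theorem P_mul_idem_eq_zero {E q r : F[X]} (hr : ∃ u, p.P u * p.P r * p.P E = p.P E) (h : p.P (q * r * E) = 0) :
    p.P (q * E) = 0 := by
  obtain ⟨u, hu⟩ := hr
  rw [map_mul, ← hu, ← map_mul, ← map_mul, ← map_mul, show q * (u * r * E) = u * (q * r * E) by ring, map_mul, h,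
    mul_zero]

/-- A commuting square zero element with a unit upper residue has the range of `e A` in its range. -/
theorem exists_factor (R : p.Res) (h2 : (2 : F) ≠ 0) {Y : Matrix ι ι F} {a b c d : F[X]} (hY : Y = p.ev a b c d)
    (hYA : Commute Y p.A) (hYY : Y * Y = 0) (hb : ¬ R.f ∣ b) :
    ∃ E : F[X], p.P E * p.P E = p.P E ∧ p.P E * p.A ≠ 0 ∧ ∃ D, p.P E * p.A = Y * D := by
  obtain ⟨E, hE, hE1, hEu, -⟩ := p.exists_idem R.irr
  have hX := hEu X R.notX
  refine ⟨E, hE, fun h0 => ?_, ?_⟩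
  · have hEu' : p.P E *ᵥ R.u = R.u := by
      have h1 := R.P_mulVec_zero hE1
      rwa [map_sub, map_one, sub_mulVec, one_mulVec, sub_eq_zero, eq_comm] at h1
    have h1 := congrArg (· *ᵥ (p.B *ᵥ R.u)) h0
    have hABu : p.A *ᵥ (p.B *ᵥ R.u) = p.C *ᵥ R.u := by
      rw [C, add_mulVec, ← Matrix.mulVec_mulVec _ p.B, R.Au, Matrix.mulVec_zero, add_zero, Matrix.mulVec_mulVec]
    simp only [← Matrix.mulVec_mulVec, hABu, zero_mulVec] at h1
    rw [Matrix.mulVec_mulVec, (p.P_comm (Commute.refl _) E).eq, ← Matrix.mulVec_mulVec, hEu', ← P_X (p := p)] at h1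
    exact R.notX (R.ann h1)
  have hdiff : p.P (X * d) * p.A + p.P c * (p.B * p.A - p.A * p.B) = 0 := by
    have h1 := hYA.eq
    rw [hY, p.ev_A, p.A_ev, map_add] at h1
    rw [mul_sub, ← sub_eq_zero.2 h1, add_mul]; abel
  have hc : p.P (c * E) = 0 := by
    have h1 := congrArg (· * p.A) hdiff
    simp only [add_mul, mul_assoc, sub_mul, p.hA, mul_zero, zero_add, zero_sub, mul_neg, p.ABA, neg_eq_zero,
      zero_mul] at h1
    rw [← mul_assoc, ← P_X (p := p), ← map_mul] at h1
    refine P_mul_idem_eq_zero hX (P_mul_idem_eq_zero hX ?_)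
    rw [map_mul, mul_X_eq_zero h1, zero_mul]
  have hd : p.P (d * E) = 0 := by
    have h1 := congrArg (p.P E * ·) hdiff
    simp only [mul_add, mul_zero, ← mul_assoc, ← map_mul] at h1
    rw [mul_comm E c, hc, zero_mul, add_zero] at h1
    refine P_mul_idem_eq_zero hX (P_mul_idem_eq_zero hX ?_)
    have h2 := mul_X_eq_zero h1
    convert h2 using 2
    ring
  have heY : p.P E * Y = p.P (E * a) + p.P (E * b) * p.A := by
    rw [hY, p.P_ev, ev, mul_comm E c, mul_comm E d, hc, hd, zero_mul, zero_mul, add_zero, add_zero]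
  have hsq : p.P (E * a * (E * a)) + 2 • (p.P (E * a * (E * b)) * p.A) = 0 := by
    have h1 : p.P E * Y * (p.P E * Y) = 0 := by
      rw [show p.P E * Y * (p.P E * Y) = p.P E * (Y * p.P E) * Y by noncomm_ring, hY, p.ev_P_comm, ← hY,
        ← mul_assoc, mul_assoc _ Y Y, hYY, mul_zero]
    rw [heY] at h1
    rw [← h1, add_mul, mul_add, mul_add, mul_assoc (p.P (E * b)) p.A (p.P (E * b) * p.A),
      ← mul_assoc p.A, ← (p.P_A (E * b)).eq, mul_assoc (p.P (E * b)) p.A p.A, p.hA, mul_zero, mul_zero,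
      mul_assoc (p.P (E * b)) p.A (p.P (E * a)), ← (p.P_A (E * a)).eq, ← mul_assoc (p.P (E * a)),
      ← mul_assoc (p.P (E * b)), ← map_mul, ← map_mul, ← map_mul, mul_comm (E * b) (E * a), two_nsmul]
    abel
  have hidem : ∀ q r, p.P (E * q * (E * r)) = p.P (q * r * E) := fun q r => by
    rw [show E * q * (E * r) = q * r * (E * E) by ring, map_mul _ (q * r), map_mul _ E, hE, ← map_mul]
  rw [hidem, hidem] at hsq
  have haa : p.P (a * a * E) = 0 := by
    have h1 := congrArg (· * p.A) hsq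
    simp only [add_mul, smul_mul_assoc, mul_assoc, p.hA, mul_zero, smul_zero, add_zero, zero_mul] at h1
    refine P_mul_idem_eq_zero hX ?_
    rw [show a * a * X * E = a * a * E * X by ring]
    exact mul_X_eq_zero (by rw [mul_assoc a a E]; exact h1)
  rw [haa, zero_add, ← Nat.cast_smul_eq_nsmul F, Nat.cast_two, smul_eq_zero] at hsq
  have ha : p.P (a * E) = 0 := by
    refine P_mul_idem_eq_zero (hEu b hb) (P_mul_idem_eq_zero hX ?_)
    rw [show a * b * X * E = a * b * E * X by ring]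
    exact mul_X_eq_zero (hsq.resolve_left h2)
  obtain ⟨r, hr⟩ := hEu b hb
  refine ⟨p.P r * p.P E, ?_⟩
  rw [mul_comm E a, ha, zero_add] at heY
  rw [← map_mul, hY, p.ev_P_comm, ← hY, map_mul, mul_assoc, heY, ← mul_assoc, ← map_mul]
  rw [← map_mul, ← map_mul] at hr
  rw [show r * (E * b) = r * b * E by ring, hr]

/-- An element scaling `A` by a constant other than one: nothing of `A` is in the zero part. -/
theorem zero_part {H : Matrix ι ι F} (hH : p.Exp H) {d₀ : F} (hd : d₀ ≠ 1) (hHA : H * p.A = d₀ • (p.A * H))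
    {q : F[X]} (hq : p.P (X * q) * p.A = 0) : p.P q * p.A = 0 := by
  obtain ⟨a, b, c, d, rfl, -, ha0⟩ := hH
  obtain ⟨E, hE, hE1, hEu, -⟩ := p.exists_idem (F := F) Polynomial.irreducible_X
  set Q := Polynomial.C (1 + d₀)
  set u₀ := a + X * d - Polynomial.C d₀ * a with hu₀
  obtain ⟨r, hr⟩ := hEu u₀ (fun h => hd (by
    have h1 := Polynomial.X_dvd_iff.1 h
    rw [Polynomial.coeff_zero_eq_eval_zero] at h1
    simp [hu₀, ha0, sub_eq_zero] at h1
    exact h1.symm))
  have hsm : ∀ (e : F) (g : F[X]) (M : Matrix ι ι F), p.P (Polynomial.C e * g) * M = e • (p.P g * M) := fun e g M => by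
    rw [← Polynomial.smul_eq_C_mul, map_smul, smul_mul_assoc]
  have heq : p.P u₀ * p.A + p.P (c * X) - p.P (Q * c) * (p.A * p.B) = 0 := by
    rw [p.ev_A, p.A_ev, ← sub_eq_zero] at hHA
    rw [← hHA, hu₀, map_sub, sub_mul, hsm, hsm, p.BA, map_mul, P_X, mul_sub, add_smul, one_smul, smul_add]
    abel
  have hB : p.P u₀ * (p.A * p.B) + p.P (c * X) * p.B = 0 := by
    have h1 := congrArg (· * p.B) heq
    simpa only [sub_mul, add_mul, mul_assoc, p.hB, mul_zero, sub_zero, zero_mul] using h1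
  have hA2 : p.P (u₀ * u₀) * p.A = p.P (-(u₀ * (c * X))) + p.P (-(Q * c * (c * X))) * p.B := by
    rw [sub_eq_zero] at heq
    rw [map_mul, mul_assoc, eq_sub_of_add_eq heq, mul_sub, ← mul_assoc, (p.P_P u₀ (Q * c)).eq, mul_assoc,
      eq_neg_of_add_eq_zero_left hB, map_neg, map_neg, neg_mul, mul_neg, ← mul_assoc, ← map_mul, ← map_mul]
    abel
  set s := -(r * r * u₀ * c) with hs
  set t := -(r * r * Q * c * c) with ht
  have hEA : p.P E * p.A = p.P (s * E * X) + p.P (t * E * X) * p.B := by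
    have h0 : p.P (r * r * E * (u₀ * u₀)) = p.P E := by
      rw [← map_mul, ← map_mul] at hr
      rw [show r * r * E * (u₀ * u₀) = r * u₀ * (r * u₀ * E) by ring, map_mul, hr, ← map_mul, hr]
    rw [← h0, map_mul, mul_assoc, hA2, mul_add, ← mul_assoc (p.P (r * r * E)), ← map_mul, ← map_mul, hs, ht]
    congr 2 <;> [skip; congr 1] <;> ring
  have hC : p.P (E * X) = p.P (2 * s) * p.P (E * X) * p.B := by
    conv_lhs => rw [map_mul, P_X, C, mul_add, ← mul_assoc, ← mul_assoc, hEA, (p.P_B E).eq, mul_assoc p.B, hEA]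
    rw [add_mul, mul_add, mul_assoc (p.P (t * E * X)), p.hB, mul_zero, ← mul_assoc p.B (p.P (t * E * X)),
      ← (p.P_B (t * E * X)).eq, mul_assoc (p.P (t * E * X)), p.hB, mul_zero, ← (p.P_B (s * E * X)).eq, add_zero,
      ← add_mul, ← map_add, ← map_mul]
    congr 2
    ring
  have hEX : p.P (E * X) = 0 := by
    rw [hC, mul_assoc]
    conv_lhs => rw [hC]
    rw [mul_assoc _ p.B p.B, p.hB, mul_zero, mul_zero]
  have hEA0 : p.P E * p.A = 0 := by
    rw [hEA, mul_assoc s, mul_assoc t, map_mul _ s, map_mul _ t, hEX, mul_zero, mul_zero, zero_mul, add_zero]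
  obtain ⟨s', hs'⟩ := hE1
  have e : p.P q * p.A = p.P s' * (p.P (X * q) * p.A) + p.P q * (p.P E * p.A) := by
    rw [← mul_assoc, ← mul_assoc, ← map_mul, ← map_mul, ← add_mul, ← map_add]
    congr 2
    linear_combination q * hs'
  rw [e, hq, hEA0, mul_zero, mul_zero, add_zero]

/-- An element interchanging the two root groups. -/
theorem weyl {H : Matrix ι ι F} {r l : F} (hH : H = (1 + p.A) * (1 + r • p.B) * (1 + p.A))
    (h : H * p.B = l • (p.A * H)) : p.P (X * (1 + Polynomial.C r * X)) * p.A = 0 := by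
  have e : H = p.ev (1 + X * Polynomial.C r) (2 + X * Polynomial.C r) (Polynomial.C r) 0 := by
    rw [hH, show 1 + p.A = p.ev 1 1 0 0 by simp [ev],
      show 1 + r • p.B = p.ev 1 0 (Polynomial.C r) 0 by simp [ev, P, Algebra.smul_def], p.ev_mul, p.ev_mul]
    congr 1 <;> ring
  rw [e, p.ev_B, p.A_ev] at h
  have h1 := congrArg (fun M => p.A * M * p.A) h
  simp only [mul_add, add_mul, mul_smul_comm, smul_mul_assoc, ← mul_assoc, ← (p.P_A _).eq] at h1
  simp only [mul_assoc, p.hA, p.ABA, mul_zero, zero_mul, smul_zero, add_zero, ← mul_assoc p.A p.A] at h1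
  rw [← mul_assoc, ← P_X (p := p), ← map_mul] at h1
  rwa [mul_comm, mul_comm (Polynomial.C r)]

section split

variable {ρ : F} (hA : p.C * p.A = ρ • p.A) (hB : p.C * p.B = ρ • p.B)
include hA hB

theorem P_A_eval (q : F[X]) : p.P q * p.A = q.eval ρ • p.A := by
  induction q using Polynomial.induction_on with
  | C a => simp [P, Algebra.smul_def]
  | add a b ha hb => rw [map_add, add_mul, ha, hb, eval_add, add_smul]
  | monomial n a h =>
    rw [pow_succ, ← mul_assoc, map_mul, P_X, mul_assoc, hA, mul_smul_comm, h, smul_smul, eval_mul_X, mul_comm]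

theorem P_B_eval (q : F[X]) : p.P q * p.B = q.eval ρ • p.B := by
  induction q using Polynomial.induction_on with
  | C a => simp [P, Algebra.smul_def]
  | add a b ha hb => rw [map_add, add_mul, ha, hb, eval_add, add_smul]
  | monomial n a h =>
    rw [pow_succ, ← mul_assoc, map_mul, P_X, mul_assoc, hB, mul_smul_comm, h, smul_smul, eval_mul_X, mul_comm]

/-- A diagonal element. -/
theorem diagonal {a b c d : F[X]} (hb : b.eval ρ = 0) (hc : c.eval ρ = 0) (ha0 : a.eval 0 = 1) :
    p.ev a b c d * p.A = (a + X * d).eval ρ • p.A ∧ p.A * p.ev a b c d = a.eval ρ • p.A ∧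
      p.ev a b c d * p.B = a.eval ρ • p.B ∧
      ((a + X * d).eval ρ ≠ a.eval ρ → a.eval ρ ≠ 1 → ∀ x, p.ev a b c d *ᵥ x = a.eval ρ • x →
        ∃ y, x = p.B *ᵥ y) := by
  have hPA := P_A_eval hA hB
  have hPB := P_B_eval hA hB
  have hAB : ∀ q, p.P q * (p.A * p.B) = q.eval ρ • (p.A * p.B) := fun q => by rw [← mul_assoc, hPA, smul_mul_assoc]
  have hBA : ∀ q, p.P q * (p.B * p.A) = q.eval ρ • (p.B * p.A) := fun q => by rw [← mul_assoc, hPB, smul_mul_assoc]
  refine ⟨by rw [p.ev_A, hPA, hBA, hc, zero_smul, add_zero],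
    by rw [p.A_ev, hPA, hAB, hc, zero_smul, add_zero],
    by rw [p.ev_B, hPB, hAB, hb, zero_smul, add_zero], fun hne hne1 x hx => ?_⟩
  set al := (a + X * d).eval ρ with hal
  set be := a.eval ρ
  obtain ⟨a', ha'⟩ : X ∣ a - 1 := Polynomial.X_dvd_iff.2 (by simp [Polynomial.coeff_zero_eq_eval_zero, ha0])
  have hsub : p.ev a b c d - 1 = a'.eval ρ • p.C + d.eval ρ • (p.A * p.B) := by
    rw [p.ev_sub_one, ev, ha', map_mul, P_X, hAB, (p.P_comm (Commute.refl p.C) a').eq.symm, hPA, hPB, hb, hc,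
      zero_smul, zero_smul, add_zero, add_zero, C, mul_add, hAB, hBA, smul_add]
  have hBAev : p.B * p.A * p.ev a b c d = be • (p.B * p.A) := by
    rw [mul_assoc, p.A_ev, hPA, hAB, hc, zero_smul, add_zero, mul_smul_comm]
  have hABev : p.A * p.B * p.ev a b c d = al • (p.A * p.B) := by
    have h1 : p.C * p.ev a b c d = p.ev a b c d * p.C := by rw [← P_X (p := p), p.ev_P_comm]
    rw [C, add_mul, mul_add, hBAev] at h1
    rw [eq_sub_of_add_eq h1, ← mul_assoc, ← mul_assoc, p.ev_A, p.ev_B, hPA, hPB, hBA, hAB, hb, hc, zero_smul,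
      zero_smul, add_zero, add_zero, smul_mul_assoc, smul_mul_assoc, hal]
    abel
  have hABx : (p.A * p.B) *ᵥ x = 0 := by
    have h1 := congrArg ((p.A * p.B) *ᵥ ·) hx
    simp only [Matrix.mulVec_mulVec, hABev, Matrix.smul_mulVec, Matrix.mulVec_smul] at h1
    rw [← sub_eq_zero, ← sub_smul] at h1
    exact (smul_eq_zero.1 h1).resolve_left (sub_ne_zero.2 hne)
  have h1 := congrArg (· *ᵥ x) hsub
  simp only [sub_mulVec, one_mulVec, hx, add_mulVec, Matrix.smul_mulVec, C, hABx, smul_zero, add_zero, zero_add] at h1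
  refine ⟨(be - 1)⁻¹ • a'.eval ρ • (p.A *ᵥ x), ?_⟩
  rw [Matrix.mulVec_smul, Matrix.mulVec_smul, Matrix.mulVec_mulVec, ← h1, ← one_smul F x, smul_smul be (1:F), mul_one,
    ← sub_smul, smul_smul, inv_mul_cancel₀ (sub_ne_zero.2 hne1)]

end split

end SqPair

end CfsgLib.TensorSympWreath
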