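import Cfsg.Agent.Lib.TensorSympWreath.Centre
import Cfsg.Agent.Lib.TensorSympWreath.Eigen

/-!
A group of isometries of a tensor power containing the slot transvections with only scalar coefficients is
monomial, for fields of odd order other than three.
-/

set_option autoImplicit false
set_option linter.unusedSectionVars false
set_option linter.unusedSimpArgs false
set_option linter.style.haveILetI false

namespace CfsgLib.TensorSympWreath

open Matrix Polynomial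
open scoped Kronecker
open CfsgLib.Maximal.TensorPower
open CfsgLib.TensorWreathMax (Idx split rx In Ms in_ms_rx rx_slot_same rx_slot_succAbove tvec rx_mulVec_tvec pl ct
  ct_pl kronecker_mulVec_pl pl_eq_zero)

attribute [-simp] Matrix.coe_units_inv

variable {F : Type*} [Field F] {m t : ℕ}

/-- A root element and its inverse in the group: the direction is skew. -/
theorem skew_of_root {ι : Type} [Fintype ι] [DecidableEq ι] {G X : Matrix ι ι F} (h2 : (2 : F) ≠ 0)
    (hp : Iso G (1 + X)) (hn : Iso G (1 - X)) : Xᵀ * G = -(G * X) := by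
  rw [Iso] at hp hn
  simp only [transpose_add, transpose_sub, transpose_one, add_mul, sub_mul, mul_add, mul_sub, one_mul, mul_one] at hp hn
  have h : (2 : F) • (Xᵀ * G + G * X) = 0 := by
    calc (2 : F) • (Xᵀ * G + G * X)
        = (G + Xᵀ * G + (G * X + Xᵀ * G * X)) - (G - Xᵀ * G - (G * X - Xᵀ * G * X)) := by rw [two_smul]; abel
      _ = 0 := by rw [hp, hn, sub_self]
  exact eq_neg_of_add_eq_zero_left ((smul_eq_zero.1 h).resolve_left h2)

namespace SqPair

variable {ι : Type} [Fintype ι] [DecidableEq ι] {p : SqPair F ι}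

/-- Polynomials in the central element are self-adjoint. -/
theorem P_adjoint {G : Matrix ι ι F} (hA : p.Aᵀ * G = -(G * p.A)) (hB : p.Bᵀ * G = -(G * p.B)) (q : F[X]) :
    (p.P q)ᵀ * G = G * p.P q := by
  have hC : p.Cᵀ * G = G * p.C := by
    rw [C, transpose_add, transpose_mul, transpose_mul, add_mul, mul_assoc, hA, mul_assoc, hB, mul_neg, mul_neg,
      ← mul_assoc, ← mul_assoc, hB, hA, neg_mul, neg_mul, neg_neg, neg_neg, mul_assoc, mul_assoc, ← mul_add, add_comm]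
  induction q using Polynomial.induction_on with
  | C a => simp [P, Algebra.algebraMap_eq_smul_one]
  | add a b ha hb => rw [map_add, transpose_add, add_mul, ha, hb, mul_add]
  | monomial n a h =>
    rw [pow_succ, ← mul_assoc, map_mul, P_X, transpose_mul, mul_assoc, h, ← mul_assoc, hC, mul_assoc,
      (p.P_comm (Commute.refl p.C) _).eq]

theorem uA_congr {p' : SqPair F ι} (h : p.A = p'.A) (c : F) : p.uA c = p'.uA c :=
  Units.ext (by show 1 + c • p.A = 1 + c • p'.A; rw [h])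

theorem eq_uB {g : GL ι F} {c : F} (h : (g : Matrix ι ι F) = 1 + c • p.B) : g = p.uB c := Units.ext h

end SqPair

variable [Finite F]

/-- A nilpotent translation gives an element of prime power order. -/
theorem pow_eq_one_of_nilpotent {ι : Type} [Fintype ι] [DecidableEq ι] [Nonempty ι] {q : ℕ} [Fact q.Prime] [CharP F q]
    {g : GL ι F} (h : IsNilpotent ((g : Matrix ι ι F) - 1)) : ∃ k, g ^ q ^ k = 1 := by
  obtain ⟨n, hn⟩ := h
  haveI : CharP (Matrix ι ι F) q := inferInstance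
  refine ⟨n, Units.ext ?_⟩
  have h1 : ((g : Matrix ι ι F) - 1) ^ q ^ n = 0 :=
    pow_eq_zero_of_le (Nat.lt_pow_self (Fact.out : q.Prime).one_lt).le hn
  rwa [sub_pow_char_pow_of_commute (p := q) _ (Commute.one_right _), one_pow, sub_eq_zero, ← Units.val_pow_eq_pow_val] at h1

theorem nilpotent_of_pGroup {ι : Type} [Fintype ι] [DecidableEq ι] [Nonempty ι] {q : ℕ} [Fact q.Prime] [CharP F q]
    {P : Subgroup (GL ι F)} (hP : IsPGroup q P) {g : GL ι F} (hg : g ∈ P) : IsNilpotent ((g : Matrix ι ι F) - 1) := by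
  obtain ⟨k, hk⟩ := hP ⟨g, hg⟩
  haveI : CharP (Matrix ι ι F) q := inferInstance
  refine ⟨q ^ k, ?_⟩
  have h1 : g ^ q ^ k = 1 := congrArg Subtype.val hk
  rw [sub_pow_char_pow_of_commute (p := q) _ (Commute.one_right _), one_pow, ← Units.val_pow_eq_pow_val, h1, Units.val_one,
    sub_self]

/-- The hypotheses of the step from `t` to `t + 1` factors. -/
structure Step (J : Matrix (Fin m) (Fin m) F) (M : Subgroup (GL (Idx m (t + 1)) F)) (q : ℕ) : Prop where
  alt : Alt J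
  two_le : 2 ≤ m
  two : (2 : F) ≠ 0
  fin : FinAll J
  rad : RadAll J
  one_le : 1 ≤ t
  ih : Rigid J t
  setting : Setting J M
  scal : Scal J M
  prime : q.Prime
  char : CharP F q

namespace Step

variable {J : Matrix (Fin m) (Fin m) F} {M : Subgroup (GL (Idx m (t + 1)) F)} {q : ℕ}
  (hS : Step J M q) {i : Fin (t + 1)} {v : Fin m → F}
include hS

theorem monomial_conj {g : GL (Idx m (t + 1)) F} (hg : g ∈ M) (hv : v ≠ 0) {z : GL (Idx m (t + 1)) F}
    (hzm : IsMonomial z) (hz : (z : Matrix (Idx m (t + 1)) (Idx m (t + 1)) F) = 1 +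
      (g : Matrix (Idx m (t + 1)) (Idx m (t + 1)) F) * slot i (Xm J v) *
        ((g⁻¹ : GL (Idx m (t + 1)) F) : Matrix _ _ F)) :
    IsMonomial g ∧ ∃ j a c, a ≠ 0 ∧ c ≠ (0 : F) ∧ (g : Matrix (Idx m (t + 1)) (Idx m (t + 1)) F) *
      slot i (Xm J v) * ((g⁻¹ : GL (Idx m (t + 1)) F) : Matrix _ _ F) = c • slot j (Xm J a) :=
  monomial_of_conj hS.alt hS.two_le hS.two hS.fin hS.rad hS.one_le hS.ih hS.setting hS.scal
    (hS.setting.iso g hg).sim (Conj.of_mem hS.setting hg) hv hzm hz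

/-- A prime power subgroup containing a slot transvection is monomial. -/
theorem pGroup_monomial {P : Subgroup (GL (Idx m (t + 1)) F)} (hP : IsPGroup q P) (hPM : P ≤ M) (hv : v ≠ 0)
    {x : GL (Idx m (t + 1)) F} (hx : x ∈ P)
    (hxv : (x : Matrix (Idx m (t + 1)) (Idx m (t + 1)) F) = 1 + slot i (Xm J v)) {y : GL (Idx m (t + 1)) F}
    (hy : y ∈ P) : IsMonomial y := by
  haveI := Fact.mk hS.prime
  let P₀ : Subgroup P := (Cfsg.Geo.tensorWreathStandard m (t + 1) F).subgroupOf P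
  rcases eq_or_lt_of_le (le_top : P₀ ≤ ⊤) with h | h
  · exact isMonomial_of_mem (Subgroup.mem_subgroupOf.1 (h ▸ Subgroup.mem_top (⟨y, hy⟩ : P)))
  exfalso
  haveI := hP.isNilpotent
  obtain ⟨w, hw, hw0⟩ := SetLike.exists_of_lt (Group.normalizerCondition_of_isNilpotent P₀ h)
  have hxm : IsMonomial x := by
    refine ⟨1, Function.update 1 i (GeneralLinearGroup.mkOfDetNeZero (1 + Xm J v) (fun h0 => ?_)), fun xs => ?_⟩
    · have h1 : (1 + Xm J v) * (1 - Xm J v) = 1 := by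
        rw [mul_sub, mul_one, add_mul, one_mul, hS.alt.Xm_mul_self, add_zero, add_sub_cancel_right]
      have h2 := congrArg Matrix.det h1
      rw [det_mul, h0, zero_mul, det_one] at h2
      exact zero_ne_one h2
    · rw [hxv, ← slot_one i, ← map_add, slot_mulVec]
      congr 1
      funext l
      rcases eq_or_ne l i with rfl | hl
      · simp
      · simp [hl]
  have hwx : w * ⟨x, hx⟩ * w⁻¹ ∈ P₀ := (Subgroup.mem_normalizer_iff.1 hw _).1
    (Subgroup.mem_subgroupOf.2 (CfsgLib.TensorWreathMax.mem_standard hxm))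
  have h1 := isMonomial_of_mem (Subgroup.mem_subgroupOf.1 hwx)
  refine hw0 (Subgroup.mem_subgroupOf.2 (CfsgLib.TensorWreathMax.mem_standard
    ((hS.monomial_conj (i := i) (g := (w : GL (Idx m (t + 1)) F)) (hPM w.2) hv h1 ?_).1)))
  simp only [Subgroup.coe_mul, Subgroup.coe_inv, Units.val_mul, hxv, mul_add, add_mul, mul_one, Units.mul_inv]

/-- The pair of a slot transvection and a conjugate. -/
theorem same_line (hv : v ≠ 0) {p : SqPair F (Idx m (t + 1))} (hpA : p.A = slot i (Xm J v))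
    (hp : p.Gp ≤ M) (R : p.Res) {P : Subgroup (GL (Idx m (t + 1)) F)} (hP : IsPGroup q P) (hPM : P ≤ M)
    (hA1 : p.uA 1 ∈ P) {y : p.Gp} (hy : (y : GL (Idx m (t + 1)) F) ∈ P) {k : GL (Idx m (t + 1)) F} (hk : k ∈ M)
    (hyk : ((y : GL (Idx m (t + 1)) F) : Matrix (Idx m (t + 1)) (Idx m (t + 1)) F) = 1 +
      (k : Matrix (Idx m (t + 1)) (Idx m (t + 1)) F) * p.A * ((k⁻¹ : GL (Idx m (t + 1)) F) : Matrix _ _ F))
    (hb : (R.π y).1 0 1 ≠ 0) :
    ∃ l : F, (k : Matrix (Idx m (t + 1)) (Idx m (t + 1)) F) * p.A * ((k⁻¹ : GL (Idx m (t + 1)) F) : Matrix _ _ F) =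
      l • p.A := by
  haveI := Fact.mk hS.prime
  haveI := hS.char
  haveI : NeZero m := ⟨by have := hS.two_le; omega⟩
  have hxv : (p.uA 1 : Matrix (Idx m (t + 1)) (Idx m (t + 1)) F) = 1 + slot i (Xm J v) := by
    show 1 + (1 : F) • p.A = _; rw [one_smul, hpA]
  have hym := hS.pGroup_monomial hP hPM hv hA1 hxv hy
  obtain ⟨-, j, a, c, ha, hc, he⟩ := hS.monomial_conj hk hv hym (by rw [hyk, hpA])
  rw [← hpA] at he
  set Y := (k : Matrix (Idx m (t + 1)) (Idx m (t + 1)) F) * p.A * ((k⁻¹ : GL (Idx m (t + 1)) F) : Matrix _ _ F) with hY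
  have hYY : Y * Y = 0 := by rw [he, smul_mul_smul_comm, slot_mul, hS.alt.Xm_mul_self, map_zero, smul_zero]
  have hperp : j = i → fm J v a = 0 := by
    intro hji
    subst j
    have hn := nilpotent_of_pGroup hP (mul_mem hA1 hy)
    rw [Units.val_mul, hxv, hyk, he, ← slot_one i, ← map_smul, ← map_add, ← map_add, slot_mul, ← map_sub] at hn
    set η := (1 + Xm J v) * (1 + c • Xm J a) - 1 with hη
    obtain ⟨n, hn⟩ := hn
    have hn' : η ^ n = 0 := by
      refine slot_injective (i := i) ?_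
      rw [← hn]
      clear hn
      induction n with
      | zero => rw [pow_zero, pow_zero, slot_one]
      | succ n ih => rw [pow_succ, pow_succ, ← ih, slot_mul]
    by_contra hw
    have hv' : η *ᵥ v = (-(c * fm J v a * fm J v a)) • v + (-(c * fm J v a)) • a := by
      simp only [hη, sub_mulVec, one_mulVec, ← mulVec_mulVec, add_mulVec, smul_mulVec, Xm_mulVec, map_add, map_smul,
        mulVec_add, mulVec_smul, smul_eq_mul, hS.alt.self, hS.alt.flip v a]
      module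
    have ha' : η *ᵥ a = fm J v a • v := by
      simp only [hη, sub_mulVec, one_mulVec, ← mulVec_mulVec, add_mulVec, smul_mulVec, Xm_mulVec, hS.alt.self,
        zero_smul, smul_zero, add_zero, add_sub_cancel_left]
    have hall : ∀ k, (∃ x, η ^ k *ᵥ x = v) ∧ ∃ x, η ^ k *ᵥ x = a := by
      intro k
      induction k with
      | zero => exact ⟨⟨v, by simp⟩, ⟨a, by simp⟩⟩
      | succ k ih =>
        obtain ⟨⟨x, hx⟩, ⟨z, hz⟩⟩ := ih
        refine ⟨⟨(fm J v a)⁻¹ • z, ?_⟩, ⟨(-(c * fm J v a))⁻¹ • (x + (c * fm J v a) • z), ?_⟩⟩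
        · rw [pow_succ', ← mulVec_mulVec, mulVec_smul, hz, mulVec_smul, ha', smul_smul, inv_mul_cancel₀ hw, one_smul]
        · rw [pow_succ', ← mulVec_mulVec]
          simp only [mulVec_smul, mulVec_add, hx, hz, hv', ha', smul_smul]
          match_scalars <;> field_simp <;> ring
    obtain ⟨⟨x, hx⟩, -⟩ := hall n
    rw [hn', zero_mulVec] at hx
    exact hv hx.symm
  have hcomm : Commute Y p.A := by
    rw [he, hpA]
    refine Commute.smul_left ?_ c
    rcases eq_or_ne j i with rfl | hji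
    · show slot j (Xm J a) * slot j (Xm J v) = slot j (Xm J v) * slot j (Xm J a)
      rw [slot_mul, slot_mul, Xm, Xm, vecMulVec_mul_vecMulVec, vecMulVec_mul_vecMulVec, ← fm_apply, ← fm_apply,
        hS.alt.flip v a, hperp rfl]
      simp
    · exact slot_comm hji _ _
  obtain ⟨a', b', c', d', hev, -, -⟩ := SqPair.Gp.exp y.2
  have hYev : Y = p.ev (a' - 1) b' c' d' := by
    rw [← p.ev_sub_one, ← hev, hyk, add_sub_cancel_left]
  have hb' : ¬ R.f ∣ b' := fun h => hb (by rw [R.π_eq hev]; simpa using AdjoinRoot.mk_eq_zero.2 h)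
  obtain ⟨E, hE, hE0, D, hD⟩ := SqPair.exists_factor R hS.two hYev hcomm hYY hb'
  -- the line
  set e := rx i (p.P E) with he'
  have hsk : ∀ X : Matrix (Idx m (t + 1)) (Idx m (t + 1)) F, (∀ d : F, ∃ g ∈ p.Gp, (g : Matrix (Idx m (t + 1)) (Idx m (t + 1)) F) = 1 + d • X) →
      Xᵀ * Jt J (t + 1) = -(Jt J (t + 1) * X) := fun X hX => by
    obtain ⟨g₁, hg₁, e₁⟩ := hX 1
    obtain ⟨g₂, hg₂, e₂⟩ := hX (-1)
    refine skew_of_root hS.two ?_ ?_
    · have := hS.setting.iso g₁ (hp hg₁); rwa [e₁, one_smul] at this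
    · have := hS.setting.iso g₂ (hp hg₂); rwa [e₂, neg_one_smul, ← sub_eq_add_neg] at this
  have hadj : eᵀ * (J ⊗ₖ Jt J t) = (J ⊗ₖ Jt J t) * e := by
    have h := congrArg (rx i) (SqPair.P_adjoint (hsk p.A fun d => ⟨_, p.uA_mem d, rfl⟩)
      (hsk p.B fun d => ⟨_, p.uB_mem d, rfl⟩) E)
    rw [map_mul, map_mul, rx_Jt, ← he'] at h
    exact h
  obtain ⟨f, hf⟩ := hS.alt.exists_pair hv
  have hX : ∀ z, (Xm J v ⊗ₖ (1 : Matrix (Idx m t) (Idx m t) F)) *ᵥ z = pl v (ct (v ᵥ* J) z) := fun z => by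
    rw [Xm, kron_vecMulVec_mulVec, one_mulVec]
  have hcom : e * (Xm J v ⊗ₖ (1 : Matrix (Idx m t) (Idx m t) F)) =
      (Xm J v ⊗ₖ (1 : Matrix (Idx m t) (Idx m t) F)) * e := by
    rw [← rx_slot_same i, he', ← map_mul, ← map_mul, ← hpA, (p.P_A E).eq]
  let e' : (Idx m t → F) → Idx m t → F := fun u => ct (v ᵥ* J) (e *ᵥ pl f u)
  have hev' : ∀ u, e *ᵥ pl v u = pl v (e' u) := fun u => by
    have h := congrArg (· *ᵥ pl f u) hcom
    simp only [← mulVec_mulVec, hX, ct_pl, ← fm_apply, hf, one_smul] at h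
    exact h
  have he'0 : ∃ u, e' u ≠ 0 := by
    by_contra hall
    push Not at hall
    refine hE0 ((rx i).injective ?_)
    rw [map_zero, map_mul, ← he', hpA, rx_slot_same]
    refine Matrix.ext_of_mulVec_single fun l => ?_
    rw [← mulVec_mulVec, hX, hev', hall, map_zero, zero_mulVec]
  have he'idem : ∀ u, e' (e' u) = e' u := fun u => by
    have h : e *ᵥ (e *ᵥ pl v u) = e *ᵥ pl v u := by rw [mulVec_mulVec, he', ← map_mul, hE]
    rw [hev', hev'] at h
    exact sub_eq_zero.1 (pl_eq_zero hv (by rw [map_sub, h, sub_self]))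
  have he'adj : ∀ u u', e' u ⬝ᵥ Jt J t *ᵥ u' = u ⬝ᵥ Jt J t *ᵥ e' u' := fun u u' => by
    have h := congrArg (fun X => pl v u ⬝ᵥ X *ᵥ pl f u') hadj
    simp only [← mulVec_mulVec, dotProduct_mulVec _ eᵀ, vecMul_transpose, hev', pair_pl, ct_pl, ← fm_apply, hf,
      one_smul] at h
    exact h
  have hrange : ∀ u, ∃ w, pl v (e' u) = rx i (slot j (Xm J a)) *ᵥ w := by
    intro u
    refine ⟨c • (rx i D *ᵥ pl f u), ?_⟩
    rw [mulVec_smul, ← smul_mulVec, ← map_smul, ← he, mulVec_mulVec, ← map_mul, ← hD, map_mul, ← he', hpA,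
      rx_slot_same, ← mulVec_mulVec, hX, ct_pl, ← fm_apply, hf, one_smul, hev']
  obtain ⟨θ, hθ⟩ := CfsgLib.TensorWreathMax.exists_dot_eq_one hv
  rcases Fin.eq_self_or_eq_succAbove i j with rfl | ⟨j', rfl⟩
  · by_cases hal : ∃ s : F, a = s • v
    · obtain ⟨s, rfl⟩ := hal
      exact ⟨c * (s * s), by rw [he, hpA, Xm_smul, map_smul, smul_smul]⟩
    · push Not at hal
      exfalso
      obtain ⟨u, hu⟩ := he'0
      obtain ⟨w, hw⟩ := hrange u
      rw [rx_slot_same, Xm, kron_vecMulVec_mulVec, one_mulVec] at hw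
      obtain ⟨θ₁, hθ₁v, hθ₁a⟩ := CfsgLib.TensorWreathMax.exists_perp_eq_one (x := v) (y := a) hal
      have h1 := congrArg (ct θ₁) hw
      rw [ct_pl, ct_pl, hθ₁v, zero_smul, hθ₁a, one_smul] at h1
      rw [← h1, map_zero] at hw
      exact hu (pl_eq_zero hv hw)
  · exfalso
    have hsl : ∀ u, ∃ w, e' u = slot j' (Xm J a) *ᵥ w := fun u => by
      obtain ⟨w, hw⟩ := hrange u
      refine ⟨ct θ w, ?_⟩
      have h1 := congrArg (ct θ) hw
      rw [ct_pl, hθ, one_smul, rx_slot_succAbove] at h1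
      rw [h1]
      conv_lhs => rw [CfsgLib.TensorWreathMax.eq_sum_pl w, mulVec_sum, map_sum]
      conv_rhs => rw [CfsgLib.TensorWreathMax.eq_sum_pl w, map_sum, mulVec_sum]
      refine Finset.sum_congr rfl fun l _ => ?_
      rw [kronecker_mulVec_pl, one_mulVec, ct_pl, ct_pl, mulVec_smul]
    have hiso : ∀ w w', (slot j' (Xm J a) *ᵥ w) ⬝ᵥ Jt J t *ᵥ (slot j' (Xm J a) *ᵥ w') = 0 := fun w w' => by
      have hs : (slot j' (Xm J a))ᵀ * Jt J t * slot j' (Xm J a) = 0 := by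
        rw [Jt, slot_apply, CfsgLib.TensorSympWreath.pm_transpose, pm_mul, pm_mul]
        refine CfsgLib.TensorWreathMax.pm_eq_zero_of (j := j') ?_
        simp only [Function.update_self]
        rw [hS.alt.Xm_skew, neg_mul, mul_assoc, hS.alt.Xm_mul_self, mul_zero, neg_zero]
      rw [← vecMul_transpose, ← dotProduct_mulVec, mulVec_mulVec, mulVec_mulVec, hs, zero_mulVec, dotProduct_zero]
    obtain ⟨u, hu⟩ := he'0
    obtain ⟨K', hK'⟩ := Jt_isUnit (t := t) hS.alt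
    refine hu (dotProduct_eq_zero _ fun z => ?_)
    obtain ⟨z', rfl⟩ : ∃ z', Jt J t *ᵥ z' = z := ⟨((K'⁻¹ : GL (Idx m t) F) : Matrix _ _ F) *ᵥ z, by
      rw [mulVec_mulVec, ← hK', Units.mul_inv, one_mulVec]⟩
    rw [← he'idem u, he'adj]
    obtain ⟨w, hw⟩ := hsl u
    obtain ⟨w', hw'⟩ := hsl z'
    rw [hw, hw', hiso]

/-- A pair from an element of the group: residues are rational and the diagonal elements lift. -/
theorem scaled (hv : v ≠ 0) {g : GL (Idx m (t + 1)) F} (hg : g ∈ M) {p : SqPair F (Idx m (t + 1))}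
    (hpA : p.A = slot i (Xm J v))
    (hpB : p.B = (g : Matrix (Idx m (t + 1)) (Idx m (t + 1)) F) * slot i (Xm J v) *
      ((g⁻¹ : GL (Idx m (t + 1)) F) : Matrix _ _ F))
    (R : p.Res) (hsur : Function.Surjective R.π) {a : R.K} (ha : a ≠ 0) :
    ∃ (h : p.Gp) (l : F), a ^ 2 = algebraMap F R.K l ∧
      ((h : GL (Idx m (t + 1)) F) : Matrix (Idx m (t + 1)) (Idx m (t + 1)) F) * p.A =
        l • (p.A * ((h : GL (Idx m (t + 1)) F) : Matrix (Idx m (t + 1)) (Idx m (t + 1)) F)) := by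
  haveI := Fact.mk hS.prime
  haveI := hS.char
  have hp : p.Gp ≤ M := by
    refine SqPair.Gp.le (fun c => ?_) fun c => ?_
    · obtain ⟨z, hz, he⟩ := hS.setting.root i v c
      rwa [show p.uA c = z from Units.ext (by rw [he, ← hpA]; rfl)]
    · obtain ⟨z, hz, he⟩ := Conj.of_mem hS.setting hg i v c
      rwa [show p.uB c = z from Units.ext (by rw [he, ← hpB]; rfl)]
  obtain ⟨S, h, hS', hxS, hyS, hπ⟩ := R.exists_scaled (q := q) hsur ha
  have hval : (((h * ⟨_, p.uA_mem 1⟩ * h⁻¹ : p.Gp) : GL (Idx m (t + 1)) F) : Matrix (Idx m (t + 1)) (Idx m (t + 1)) F)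
      = 1 + ((h : GL (Idx m (t + 1)) F) : Matrix (Idx m (t + 1)) (Idx m (t + 1)) F) * p.A *
        (((h : GL (Idx m (t + 1)) F)⁻¹ : GL (Idx m (t + 1)) F) : Matrix _ _ F) := by
    simp only [Subgroup.coe_mul, Subgroup.coe_inv, Units.val_mul]
    show _ * (1 + (1 : F) • p.A) * _ = _
    rw [one_smul, mul_add, mul_one, add_mul, Units.mul_inv]
  obtain ⟨l, hl⟩ := hS.same_line hv hpA hp R (P := S.map p.Gp.subtype) (hS'.map _)
    (fun x hx => by obtain ⟨s, -, rfl⟩ := hx; exact hp s.2) ⟨_, hxS, rfl⟩ ⟨_, hyS, rfl⟩ (hp h.2) hval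
    (by rw [hπ]; simpa using ha)
  refine ⟨h, l, ?_, ?_⟩
  · rw [hl] at hval
    have h1 := hπ
    rw [show (h * ⟨_, p.uA_mem 1⟩ * h⁻¹ : p.Gp) = ⟨_, p.uA_mem l⟩ from Subtype.ext (Units.ext hval), R.π_uA] at h1
    simpa using (congrFun (congrFun h1 0) 1).symm
  · have h1 := congrArg (· * ((h : GL (Idx m (t + 1)) F) : Matrix (Idx m (t + 1)) (Idx m (t + 1)) F)) hl
    simp only [smul_mul_assoc, Units.inv_mul_cancel_right] at h1
    exact h1

set_option maxHeartbeats 800000 in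
/-- The central element of a pair has a single rational value. -/
theorem single_value (h3 : Nat.card F ≠ 3) {a₀ : F} (ha₀ : a₀ ≠ 0) (ha₀2 : a₀ ^ 2 ≠ 1) (hv : v ≠ 0) {g : GL (Idx m (t + 1)) F} (hg : g ∈ M) {p : SqPair F (Idx m (t + 1))}
    (hpA : p.A = slot i (Xm J v))
    (hpB : p.B = (g : Matrix (Idx m (t + 1)) (Idx m (t + 1)) F) * slot i (Xm J v) *
      ((g⁻¹ : GL (Idx m (t + 1)) F) : Matrix _ _ F))
    (hp : p.Gp ≤ M) (hB0 : p.B ≠ 0) (R : p.Res) :
    ∃ ρ : F, ρ ≠ 0 ∧ AdjoinRoot.root R.f = algebraMap F R.K ρ ∧ p.C * p.A = ρ • p.A ∧ p.C * p.B = ρ • p.B := by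
  classical
  haveI := Fact.mk hS.prime
  haveI := hS.char
  haveI : NeZero m := ⟨by have := hS.two_le; omega⟩
  haveI : Nonempty (Idx m (t + 1)) := ⟨0⟩
  have hJ := hS.alt
  -- the residue is rational
  have hrat : ∀ x : R.K, ∃ r : F, x = algebraMap F R.K r := by
    have hsq : ∀ x : R.K, ∃ r : F, x ^ 2 = algebraMap F R.K r := fun x => by
      rcases eq_or_ne x 0 with rfl | hx
      · exact ⟨0, by simp⟩
      · obtain ⟨-, l, hl, -⟩ := hS.scaled hv hg hpA hpB R (R.π_surjective hS.two h3) hx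
        exact ⟨l, hl⟩
    intro x
    obtain ⟨r, hr⟩ := hsq x
    obtain ⟨s, hs⟩ := hsq (x + 1)
    refine ⟨(s - r - 1) / 2, ?_⟩
    have h2 : (2 : R.K) ≠ 0 := by
      rw [← map_ofNat (algebraMap F R.K) 2]
      exact fun h => hS.two ((algebraMap F R.K).injective (h.trans (map_zero _).symm))
    rw [map_div₀, map_sub, map_sub, map_one, map_ofNat, ← hr, ← hs, eq_div_iff h2]
    ring
  obtain ⟨ρ, hρ⟩ := hrat (AdjoinRoot.root R.f)
  have hρ0 : ρ ≠ 0 := fun h => R.root_ne_zero (by rw [hρ, h, map_zero])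
  obtain ⟨h₀, l₀, hl₀, hh₀⟩ := hS.scaled hv hg hpA hpB R (R.π_surjective hS.two h3) (a := algebraMap F R.K a₀)
    (fun h => ha₀ ((algebraMap F R.K).injective (h.trans (map_zero _).symm)))
  have hl₀1 : l₀ ≠ 1 := fun h => ha₀2 ((algebraMap F R.K).injective (by rw [map_pow, hl₀, h]))
  have hzero : ∀ r : F[X], p.P (X * r) * p.A = 0 → p.P r * p.A = 0 := fun r hr =>
    SqPair.zero_part (SqPair.Gp.exp h₀.2) hl₀1 hh₀ hr
  -- the element interchanging the root groups
  obtain ⟨w, hwdef⟩ : ∃ w : p.Gp, w = ⟨_, p.uA_mem 1⟩ * ⟨_, p.uB_mem (-ρ⁻¹)⟩ * ⟨_, p.uA_mem 1⟩ := ⟨_, rfl⟩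
  set W := ((w : GL (Idx m (t + 1)) F) : Matrix (Idx m (t + 1)) (Idx m (t + 1)) F) with hW
  set W' := (((w : GL (Idx m (t + 1)) F)⁻¹ : GL (Idx m (t + 1)) F) : Matrix (Idx m (t + 1)) (Idx m (t + 1)) F) with hW'
  have hWe : W = (1 + p.A) * (1 + (-ρ⁻¹) • p.B) * (1 + p.A) := by
    rw [hW, hwdef]
    show (1 + (1 : F) • p.A) * (1 + (-ρ⁻¹) • p.B) * (1 + (1 : F) • p.A) = _
    rw [one_smul]
  set g' := (w : GL (Idx m (t + 1)) F) * g with hg'
  have hY : (g' : Matrix (Idx m (t + 1)) (Idx m (t + 1)) F) * p.A * ((g'⁻¹ : GL (Idx m (t + 1)) F) : Matrix _ _ F) =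
      W * p.B * W' := by
    rw [hg', Units.val_mul, _root_.mul_inv_rev, Units.val_mul, hW, hW', hpB, hpA]
    simp only [mul_assoc]
  obtain ⟨p', hp'A, hp'B⟩ : ∃ p' : SqPair F (Idx m (t + 1)), p'.A = p.A ∧ p'.B = W * p.B * W' :=
    ⟨⟨p.A, W * p.B * W', p.hA, by
      simp only [hW, hW', mul_assoc, Units.inv_mul_cancel_left]
      rw [← mul_assoc p.B p.B, p.hB, zero_mul, mul_zero]⟩, rfl, rfl⟩
  have hwc : ∀ c : F, (((w * ⟨_, p.uB_mem c⟩ * w⁻¹ : p.Gp) : GL (Idx m (t + 1)) F) :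
      Matrix (Idx m (t + 1)) (Idx m (t + 1)) F) = 1 + c • (W * p.B * W') := fun c => by
    simp only [Subgroup.coe_mul, Subgroup.coe_inv, Units.val_mul]
    show W * (1 + c • p.B) * W' = _
    rw [mul_add, mul_one, add_mul, hW, hW', Units.mul_inv, mul_smul_comm, smul_mul_assoc]
  have hπw : ∀ c : F, (R.π (w * ⟨_, p.uB_mem c⟩ * w⁻¹)).1 = !![1, algebraMap F R.K (-(c * ρ)); 0, 1] := fun c => by
    have hρ' : algebraMap F R.K (-ρ⁻¹) * AdjoinRoot.root R.f = -1 := by
      rw [hρ, ← map_mul, neg_mul, inv_mul_cancel₀ hρ0, map_neg, map_one]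
    simp only [hwdef, map_mul, map_inv, Matrix.SpecialLinearGroup.coe_mul, Matrix.SpecialLinearGroup.coe_inv, R.π_uA,
      R.π_uB, map_one, hρ', Matrix.mul_fin_two, Matrix.adjugate_fin_two_of]
    rw [hρ]
    ext a b
    fin_cases a <;> fin_cases b <;> simp
  set Z : Subgroup p.Gp := (Subgroup.centralizer {R.π ⟨p.uA 1, p.uA_mem 1⟩}).comap R.π with hZ
  have hp' : p'.Gp ≤ Z.map p.Gp.subtype := by
    refine SqPair.Gp.le (fun c => Subgroup.mem_map.2 ⟨⟨p.uA c, p.uA_mem c⟩, ?_, SqPair.uA_congr hp'A.symm c⟩) fun c =>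
      Subgroup.mem_map.2 ⟨w * ⟨p.uB c, p.uB_mem c⟩ * w⁻¹, ?_, SqPair.eq_uB (by rw [hp'B]; exact hwc c)⟩ <;>
    · rw [hZ, Subgroup.mem_comap, Subgroup.mem_centralizer_singleton_iff]
      refine Subtype.ext ?_
      rw [Matrix.SpecialLinearGroup.coe_mul, Matrix.SpecialLinearGroup.coe_mul]
      simp only [R.π_uA, hπw, Matrix.mul_fin_two]
      ext a b
      fin_cases a <;> fin_cases b <;> simp [add_comm]
  by_cases hC' : IsNilpotent p'.C
  swap
  · obtain ⟨R'⟩ := p'.exists_res hC'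
    obtain ⟨h', l', hl', hh'⟩ := hS.scaled hv (M.mul_mem (hp w.2) hg) (p := p') (hp'A.trans hpA) (by rw [hp'B, ← hY, hpA]) R'
      (R'.π_surjective hS.two h3) (a := algebraMap F R'.K a₀) (fun h => ha₀ ((algebraMap F R'.K).injective (h.trans (map_zero _).symm)))
    have hl'1 : l' ≠ 1 := fun h => ha₀2 ((algebraMap F R'.K).injective (by rw [map_pow, hl', h]))
    obtain ⟨h'', hh'', e⟩ := hp' h'.2
    rw [SetLike.mem_coe, hZ, Subgroup.mem_comap, Subgroup.mem_centralizer_singleton_iff] at hh''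
    have h1 : (h'' * ⟨_, p.uA_mem 1⟩ * h''⁻¹ : p.Gp) = ⟨_, p.uA_mem l'⟩ := by
      refine Subtype.ext (Units.ext ?_)
      simp only [Subgroup.coe_mul, Subgroup.coe_inv, Units.val_mul]
      have e' : (h'' : GL (Idx m (t + 1)) F) = (h' : GL (Idx m (t + 1)) F) := e
      rw [e']
      show _ * (1 + (1 : F) • p.A) * _ = 1 + l' • p.A
      rw [one_smul, mul_add, mul_one, add_mul, Units.mul_inv, show (_ : Matrix (Idx m (t + 1)) (Idx m (t + 1)) F) * p.A = _ from hp'A ▸ hh',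
        smul_mul_assoc, Units.mul_inv_cancel_right]
    have h2 : R.π (h'' * ⟨_, p.uA_mem 1⟩ * h''⁻¹) = R.π ⟨_, p.uA_mem 1⟩ := by
      rw [map_mul, map_mul, map_inv, hh'', mul_inv_cancel_right]
    rw [h1] at h2
    have h3 := congrArg (fun z => z.1 0 1) h2
    simp only [R.π_uA] at h3
    simp at h3
    exact absurd ((algebraMap F R.K).injective (h3.trans (map_one _).symm)) hl'1
  have hPg : IsPGroup q p'.Gp := fun x => by
    obtain ⟨k, hk⟩ := pow_eq_one_of_nilpotent (q := q) ((SqPair.Gp.exp x.2).nilpotent p' hC')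
    exact ⟨k, Subtype.ext hk⟩
  have hp'M : p'.Gp ≤ M := hp'.trans (by rintro _ ⟨x, -, rfl⟩; exact hp x.2)
  obtain ⟨l, hl⟩ := hS.same_line hv hpA hp R hPg hp'M
    (show p.uA 1 ∈ p'.Gp by rw [SqPair.uA_congr (p' := p') hp'A.symm 1]; exact p'.uA_mem 1)
    (y := w * ⟨_, p.uB_mem 1⟩ * w⁻¹)
    (by
      rw [show ((w * ⟨_, p.uB_mem 1⟩ * w⁻¹ : p.Gp) : GL (Idx m (t + 1)) F) = p'.uB 1 from
        SqPair.eq_uB (by rw [hp'B]; exact hwc 1)]
      exact p'.uB_mem 1) (M.mul_mem (hp w.2) hg)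
    (by rw [hwc, one_smul]; exact congrArg (1 + ·) hY.symm) (by rw [hπw]; simpa using hρ0)
  rw [hY] at hl
  have hWB : W * p.B = l • (p.A * W) := by
    have h1 := congrArg (· * W) hl
    simpa only [smul_mul_assoc, mul_assoc, hW, hW', Units.inv_mul, mul_one] using h1
  have hCA : p.C * p.A = ρ • p.A := by
    have h1 := hzero _ (SqPair.weyl hWe hWB)
    rw [map_add, map_one, map_mul, SqPair.P_X, add_mul, one_mul, map_neg, map_neg, SqPair.P, Polynomial.aeval_C,
      Algebra.algebraMap_eq_smul_one, neg_mul, neg_mul, ← sub_eq_add_neg, sub_eq_zero, smul_mul_assoc, one_mul,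
      smul_mul_assoc] at h1
    exact (inv_smul_eq_iff₀ hρ0).1 h1.symm
  have hCB : p.C * p.B = ρ • p.B := by
    have hCW : p.C * W' = W' * p.C := by
      obtain ⟨a, b, c, d, he, -, -⟩ := SqPair.Gp.exp (w⁻¹).2
      rw [hW', ← Subgroup.coe_inv, he, ← SqPair.P_X (p := p), p.ev_P_comm]
    have e : p.B = l • (W' * p.A * W) := by
      rw [mul_assoc, ← mul_smul_comm, ← hWB, hW, hW', Units.inv_mul_cancel_left]
    rw [e, mul_smul_comm, ← mul_assoc, ← mul_assoc, hCW, mul_assoc W' p.C, hCA, mul_smul_comm, smul_mul_assoc,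
      smul_comm]
  exact ⟨ρ, hρ0, hρ, hCA, hCB⟩

set_option maxHeartbeats 1600000 in
/-- All elements of the group are monomial. -/
theorem all_monomial (h3 : Nat.card F ≠ 3) {a₀ : F} (ha₀ : a₀ ≠ 0) (ha₀2 : a₀ ^ 2 ≠ 1) {g : GL (Idx m (t + 1)) F} (hg : g ∈ M) : IsMonomial g := by
  classical
  haveI := Fact.mk hS.prime
  haveI := hS.char
  haveI : NeZero m := ⟨by have := hS.two_le; omega⟩
  haveI : Nonempty (Idx m (t + 1)) := ⟨0⟩
  by_contra hgm
  have hJ := hS.alt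
  let i : Fin (t + 1) := 0
  let v : Fin m → F := Pi.single 0 1
  have hv : v ≠ 0 := by simp [v]
  set G := (g : Matrix (Idx m (t + 1)) (Idx m (t + 1)) F) with hG
  set G' := ((g⁻¹ : GL (Idx m (t + 1)) F) : Matrix (Idx m (t + 1)) (Idx m (t + 1)) F) with hG'
  set N : Matrix (Idx m (t + 1)) (Idx m (t + 1)) F := slot i (Xm J v) with hN
  have hNN : N * N = 0 := by rw [hN, slot_mul, hJ.Xm_mul_self, map_zero]
  let p : SqPair F (Idx m (t + 1)) := ⟨N, G * N * G', hNN, by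
    simp only [hG, hG', mul_assoc, Units.inv_mul_cancel_left]
    rw [← mul_assoc N N, hNN, zero_mul, mul_zero]⟩
  have hp : p.Gp ≤ M := by
    refine SqPair.Gp.le (fun c => ?_) fun c => ?_
    · obtain ⟨z, hz, he⟩ := hS.setting.root i v c
      rwa [show p.uA c = z from Units.ext (by rw [he]; rfl)]
    · obtain ⟨z, hz, he⟩ := Conj.of_mem hS.setting hg i v c
      rwa [show p.uB c = z from Units.ext (by rw [he]; rfl)]
  by_cases hC : IsNilpotent p.C
  · have hPg : IsPGroup q p.Gp := fun x => by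
      obtain ⟨k, hk⟩ := pow_eq_one_of_nilpotent (q := q) ((SqPair.Gp.exp x.2).nilpotent p hC)
      exact ⟨k, Subtype.ext hk⟩
    exact hgm (hS.monomial_conj hg hv (hS.pGroup_monomial hPg hp hv (p.uA_mem 1)
      (show 1 + (1 : F) • N = _ by rw [one_smul]) (p.uB_mem 1))
      (show 1 + (1 : F) • p.B = _ by rw [one_smul])).1
  obtain ⟨R⟩ := p.exists_res hC
  have hB0 : p.B ≠ 0 := fun h0 => by
    have h1 := CfsgLib.TensorWreathMax.rank_conj g N
    rw [show G * N * G' = p.B from rfl, h0, Matrix.rank_zero, hN, rank_root hJ hv] at h1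
    exact pow_ne_zero t (NeZero.ne m) h1.symm
  obtain ⟨ρ, hρ0, hρ, hCA, hCB⟩ := hS.single_value h3 ha₀ ha₀2 hv hg (p := p) rfl rfl hp hB0 R
  -- the torus
  obtain ⟨ht, hht⟩ := R.π_surjective hS.two h3 ⟨!![algebraMap F R.K a₀, 0; 0, algebraMap F R.K a₀⁻¹], by
    rw [Matrix.det_fin_two_of, mul_zero, sub_zero, ← map_mul, mul_inv_cancel₀ ha₀, map_one]⟩
  obtain ⟨a, b, c, d, he, -, ha0⟩ := SqPair.Gp.exp ht.2
  have hπt := R.π_eq he
  rw [hht] at hπt
  have hroot : R.res Polynomial.X = algebraMap F R.K ρ := by rw [AdjoinRoot.mk_X, hρ]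
  have heval : ∀ r : F[X], R.res r = algebraMap F R.K (r.eval ρ) := fun r => by
    induction r using Polynomial.induction_on with
    | C x => rw [eval_C, AdjoinRoot.mk_C]; rfl
    | add x y hx hy => rw [map_add, hx, hy, eval_add, map_add]
    | monomial n x h => rw [pow_succ, ← mul_assoc, map_mul, h, hroot, eval_mul_X, map_mul]
  have h00 := congrFun (congrFun hπt 0) 0
  have h01 := congrFun (congrFun hπt 0) 1
  have h10 := congrFun (congrFun hπt 1) 0
  have h11 := congrFun (congrFun hπt 1) 1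
  simp only [Matrix.of_apply, Matrix.cons_val_zero, Matrix.cons_val_one, Matrix.cons_val', Matrix.cons_val_fin_one,
    heval] at h00 h01 h10 h11
  have hb : b.eval ρ = 0 := (algebraMap F R.K).injective (h01.symm.trans (map_zero _).symm)
  have hc : c.eval ρ = 0 := by
    have := (algebraMap F R.K).injective (h10.symm.trans (map_zero _).symm)
    rw [eval_mul, eval_X] at this
    exact (mul_eq_zero.1 this).resolve_left hρ0
  obtain ⟨hTA, -, hTB, hTr⟩ := SqPair.diagonal hCA hCB (d := d) hb hc ha0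
  rw [← (algebraMap F R.K).injective h00, ← (algebraMap F R.K).injective h11] at hTr
  rw [← (algebraMap F R.K).injective h00] at hTA
  rw [← (algebraMap F R.K).injective h11] at hTB
  have ha2 : a₀ ≠ a₀⁻¹ := fun h => ha₀2 (by rw [pow_two]; nth_rw 2 [h]; rw [mul_inv_cancel₀ ha₀])
  have ha1 : a₀⁻¹ ≠ 1 := fun h => ha₀2 (by rw [inv_eq_one.1 h, one_pow])
  have hTr' := hTr ha2 ha1
  -- at the splitting
  set k := (ht : GL (Idx m (t + 1)) F) with hk
  have hkM : k ∈ M := hp ht.2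
  set ks := Cfsg.Geo.glReindex (F := F) (split i) k with hks
  have hksv : (ks : Matrix _ _ F) = rx i (k : Matrix (Idx m (t + 1)) (Idx m (t + 1)) F) := rfl
  have hksi : ((ks⁻¹ : GL (Fin m × Idx m t) F) : Matrix _ _ F) =
      rx i ((k⁻¹ : GL (Idx m (t + 1)) F) : Matrix (Idx m (t + 1)) (Idx m (t + 1)) F) := rfl
  have hSS := hS.setting.sset hJ hS.scal i
  obtain ⟨f, hf⟩ := hJ.exists_pair hv
  have hX : ∀ z, rx i N *ᵥ z = pl v (ct (v ᵥ* J) z) := fun z => by
    rw [hN, rx_slot_same, Xm, kron_vecMulVec_mulVec, one_mulVec]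
  have hkv : ∀ u, (ks : Matrix (Fin m × Idx m t) (Fin m × Idx m t) F) *ᵥ pl v u = pl v (a₀ • u) := fun u => by
    have h1 := congrArg (fun Z => rx i Z *ᵥ pl f u) hTA
    rw [← he, map_mul, map_smul, smul_mulVec, ← mulVec_mulVec, ← hksv, hX, ct_pl, ← fm_apply, hf, one_smul] at h1
    rw [h1, map_smul]
  obtain ⟨T, τ, -, -, hTτ⟩ := centre_stab hJ hSS (hS.rad t M hS.one_le hS.setting hS.scal i)
    (hS.fin t M hS.one_le hS.setting hS.scal i) (Iso.sim (hSS.iso ks (by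
      show Cfsg.Geo.glReindex (F := F) (split i).symm (Cfsg.Geo.glReindex (F := F) (split i) k) ∈ M
      convert hkM
      ext x y
      simp [Cfsg.Geo.glReindex])))
    (fun B hB => by
      have h1 := in_ms_rx (i := i).2 ((Conj.of_mem hS.setting hkM).slot_iso hJ hS.setting
        (hS.setting.iso k hkM).sim hB i)
      rwa [map_mul, map_mul, rx_slot_same, ← hksv, ← hksi] at h1) hv (fun u => ⟨_, hkv u⟩)
  obtain ⟨θ, hθ⟩ := CfsgLib.TensorWreathMax.exists_dot_eq_one hv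
  have hτu : ∀ u, (θ ⬝ᵥ ((T : Matrix (Fin m) (Fin m) F) *ᵥ v)) • ((τ : Matrix (Idx m t) (Idx m t) F) *ᵥ u) =
      a₀ • u := fun u => by
    have h1 := congrArg (ct θ) (hkv u)
    rw [hTτ, kronecker_mulVec_pl, ct_pl, ct_pl, hθ, one_smul] at h1
    exact h1
  set s := θ ⬝ᵥ ((T : Matrix (Fin m) (Fin m) F) *ᵥ v)
  have hs0 : s ≠ 0 := fun h0 => by
    have := congrFun (hτu (Pi.single 0 1)) 0
    simp [h0] at this
    exact ha₀ this.symm
  set T' := (a₀ / s) • (T : Matrix (Fin m) (Fin m) F)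
  have hkT : rx i (k : Matrix (Idx m (t + 1)) (Idx m (t + 1)) F) = T' ⊗ₖ (1 : Matrix (Idx m t) (Idx m t) F) := by
    rw [← hksv, hTτ]
    refine CfsgLib.TensorWreathMax.ext_pl fun x u => ?_
    rw [kronecker_mulVec_pl, kronecker_mulVec_pl, one_mulVec, smul_mulVec, CfsgLib.TensorWreathMax.pl_smul_left,
      ← map_smul, ← inv_smul_smul₀ hs0 ((τ : Matrix (Idx m t) (Idx m t) F) *ᵥ u), hτu, smul_smul, div_eq_inv_mul]
  -- the range of the conjugate
  set Rg := LinearMap.range (rx i p.B).mulVecLin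
  have hsub : ∀ z, (T' ⊗ₖ (1 : Matrix (Idx m t) (Idx m t) F)) *ᵥ (rx i p.B *ᵥ z) = a₀⁻¹ • (rx i p.B *ᵥ z) := fun z => by
    rw [← hkT, mulVec_mulVec, ← map_mul, he, hTB, map_smul, smul_mulVec]
  obtain ⟨b₀, hb₀, hTb⟩ : ∃ b₀, b₀ ≠ 0 ∧ T' *ᵥ b₀ = a₀⁻¹ • b₀ := by
    by_contra hcon
    push Not at hcon
    refine hB0 ((rx i).injective ?_)
    rw [map_zero]
    have hu : IsUnit (T' - a₀⁻¹ • 1) := by
      rw [← Matrix.mulVec_injective_iff_isUnit]
      intro x y hxy
      by_contra hne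
      refine hcon (x - y) (sub_ne_zero.2 hne) ?_
      simp only [mulVec_sub, sub_mulVec, smul_mulVec, one_mulVec, smul_sub] at hxy ⊢
      linear_combination (norm := module) hxy
    obtain ⟨U, hU⟩ := hu
    refine Matrix.ext_of_mulVec_single fun l => ?_
    rw [zero_mulVec]
    set z := rx i p.B *ᵥ Pi.single l 1
    have h1 : ((T' - a₀⁻¹ • 1) ⊗ₖ (1 : Matrix (Idx m t) (Idx m t) F)) *ᵥ z = 0 := by
      have h2 := hsub (Pi.single l 1)
      rw [← sub_eq_zero] at h2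
      rw [← h2, show T' ⊗ₖ (1 : Matrix (Idx m t) (Idx m t) F) = (T' - a₀⁻¹ • 1) ⊗ₖ 1 + a₀⁻¹ • 1 by
        rw [← one_kronecker_one, ← smul_kronecker, ← add_kronecker, sub_add_cancel], add_mulVec, smul_mulVec,
        one_mulVec, add_sub_cancel_right]
    have h2 := congrArg ((((U⁻¹ : GL (Fin m) F) : Matrix (Fin m) (Fin m) F) ⊗ₖ
      (1 : Matrix (Idx m t) (Idx m t) F)) *ᵥ ·) h1
    simpa only [mulVec_mulVec, ← mul_kronecker_mul, ← hU, Units.inv_mul, mul_one, one_kronecker_one, one_mulVec,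
      mulVec_zero] using h2
  have hle : LinearMap.range (pl (μ := Idx m t) b₀) ≤ Rg := by
    rintro _ ⟨u, rfl⟩
    obtain ⟨z, hz⟩ := (tvec i).surjective (pl b₀ u)
    have h1 : (k : Matrix (Idx m (t + 1)) (Idx m (t + 1)) F) *ᵥ z = a₀⁻¹ • z := (tvec i).injective (by
      rw [← rx_mulVec_tvec, map_smul, hz, hkT, kronecker_mulVec_pl, one_mulVec, hTb,
        CfsgLib.TensorWreathMax.pl_smul_left])
    obtain ⟨y, hy⟩ := hTr' z (by rw [← he]; exact h1)
    exact ⟨tvec i y, by rw [Matrix.mulVecLin_apply, rx_mulVec_tvec, ← hy, hz]⟩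
  have hdim : Module.finrank F Rg = m ^ t := by
    rw [show Module.finrank F Rg = (rx i p.B).rank from rfl, CfsgLib.TensorWreathMax.rank_rx,
      show p.B = G * N * G' from rfl, CfsgLib.TensorWreathMax.rank_conj, hN, rank_root hJ hv]
  have heq : LinearMap.range (pl (μ := Idx m t) b₀) = Rg := by
    refine Submodule.eq_of_le_of_finrank_le hle ?_
    rw [hdim, LinearMap.finrank_range_of_inj (LinearMap.ker_eq_bot.1 (LinearMap.ker_eq_bot'.2 fun w h =>
      pl_eq_zero hb₀ h))]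
    simp
  obtain ⟨f₀, hf₀⟩ := hJ.exists_pair hb₀
  refine hgm (centre_map hJ hS.two_le hS.fin hS.rad hS.one_le hS.ih hS.setting hS.scal
    (hS.setting.iso g hg).sim (Conj.of_mem hS.setting hg) (i := i) (j := i) hb₀ hv fun u => ?_)
  obtain ⟨u', hu'⟩ := heq.ge ⟨tvec i (G *ᵥ u), rfl⟩
  obtain ⟨z, hz⟩ := (tvec i).surjective (pl f₀ u')
  refine ⟨z, (tvec i).injective ?_⟩
  have hXb : ∀ y : Fin m × Idx m t → F, (Xm J b₀ ⊗ₖ (1 : Matrix (Idx m t) (Idx m t) F)) *ᵥ y =
      pl b₀ (ct (b₀ ᵥ* J) y) := fun y => by rw [Xm, kron_vecMulVec_mulVec, one_mulVec]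
  rw [← rx_mulVec_tvec i (slot i (Xm J b₀)), hz, rx_slot_same, hXb, ct_pl,
    ← fm_apply, hf₀, one_smul, hu', Matrix.mulVecLin_apply, rx_mulVec_tvec]
  congr 1
  show G *ᵥ (N *ᵥ u) = (G * N * G') *ᵥ (G *ᵥ u)
  simp only [hG, hG', ← mulVec_mulVec, GeomClasses.gl_inv_mulVec_mulVec]

end Step

/-- Rigidity from monomiality of each step. -/
theorem rigid_of {J : Matrix (Fin m) (Fin m) F} (hJ : Alt J) (hm : 2 ≤ m) (h2 : (2 : F) ≠ 0) (hF : FinAll J)
    (hR : RadAll J) (hall : ∀ (t : ℕ) (M : Subgroup (GL (Idx m (t + 1)) F)) (q : ℕ), Step J M q →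
      ∀ g ∈ M, IsMonomial g) : ∀ t, 1 ≤ t → Rigid J t := by
  intro t ht
  induction t with
  | zero => omega
  | succ t ih =>
    rcases Nat.eq_zero_or_pos t with rfl | ht'
    · exact fun M _ _ g _ _ => CfsgLib.TensorWreathMax.isMonomial_of_one g
    intro M hM hs g hgs hg
    obtain ⟨q, hq⟩ := CharP.exists F
    have hS : Step J M q := ⟨hJ, hm, h2, hF, hR, ht', ih ht', hM, hs, CharP.char_is_prime F q, hq⟩
    haveI : NeZero m := ⟨by omega⟩
    obtain ⟨z, hz, he⟩ := hg 0 (Pi.single 0 1) 1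
    rw [one_smul] at he
    exact (monomial_of_conj hJ hm h2 hF hR ht' (ih ht') hM hs hgs hg (v := Pi.single 0 1) (by simp)
      (hall t M q hS z hz) he).1

/-- Everything conjugating the slot transvections into the group is monomial. -/
theorem rigid {J : Matrix (Fin m) (Fin m) F} (hJ : Alt J) (hm : 2 ≤ m) (h2 : (2 : F) ≠ 0) (h3 : Nat.card F ≠ 3)
    {a₀ : F} (ha₀ : a₀ ≠ 0) (ha₀2 : a₀ ^ 2 ≠ 1) (hR : RadAll J) : ∀ t, 1 ≤ t → Rigid J t :=
  rigid_of hJ hm h2 (finAll_of_torus hJ hm ha₀ ha₀2) hR fun _ _ _ hS _ hg =>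
    hS.all_monomial h3 ha₀ ha₀2 hg

end CfsgLib.TensorSympWreath
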