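import Cfsg.Agent.Lib.TensorWreathMax.Main
import Cfsg.Agent.Lib.Sp.Witt

/-!
An alternating matrix on each factor of a tensor power, its transvections, and groups of isometries of the
tensor power containing the slot transvections.
-/

set_option autoImplicit false
set_option linter.unusedSectionVars false
set_option linter.unusedSimpArgs false

namespace CfsgLib.TensorSympWreath

open Matrix
open scoped Kronecker
open CfsgLib.Maximal.TensorPower
open CfsgLib.TensorWreathMax (Idx split rx In Ms in_ms_rx rx_pm rx_slot_same rx_slot_succAbove permM Mon)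

attribute [-simp] Matrix.coe_units_inv

variable {F : Type*} [Field F] {m t : ℕ}

/-- A non-degenerate alternating matrix. -/
structure Alt (J : Matrix (Fin m) (Fin m) F) : Prop where
  alt : ∀ v, (v ᵥ* J) ⬝ᵥ v = 0
  det : J.det ≠ 0

/-- The bilinear form of a matrix. -/
abbrev fm (J : Matrix (Fin m) (Fin m) F) : LinearMap.BilinForm F (Fin m → F) := Matrix.toBilin' J

theorem fm_apply (J : Matrix (Fin m) (Fin m) F) (u v : Fin m → F) : fm J u v = (u ᵥ* J) ⬝ᵥ v := by
  rw [fm, Matrix.toBilin'_apply', dotProduct_mulVec]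

/-- The transvection direction `x ↦ ω(v, x) v`. -/
def Xm (J : Matrix (Fin m) (Fin m) F) (v : Fin m → F) : Matrix (Fin m) (Fin m) F := vecMulVec v (v ᵥ* J)

theorem Xm_mulVec (J : Matrix (Fin m) (Fin m) F) (v x : Fin m → F) : Xm J v *ᵥ x = fm J v x • v := by
  rw [Xm, vecMulVec_mulVec, op_smul_eq_smul, fm_apply]

theorem Xm_smul (J : Matrix (Fin m) (Fin m) F) (c : F) (v : Fin m → F) : Xm J (c • v) = (c * c) • Xm J v := by
  rw [Xm, Xm, smul_vecMul, smul_vecMulVec, vecMulVec_smul, smul_smul]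

namespace Alt

variable {J : Matrix (Fin m) (Fin m) F} (hJ : Alt J)
include hJ

theorem isAlt : (fm J).IsAlt := fun v => by rw [fm_apply]; exact hJ.alt v

theorem nondeg : (fm J).Nondegenerate :=
  LinearMap.BilinForm.nondegenerate_toBilin'_iff_det_ne_zero.2 hJ.det

theorem flip (u v : Fin m → F) : fm J v u = -fm J u v := CfsgLib.Sp.alt_flip hJ.isAlt u v

theorem self (v : Fin m → F) : fm J v v = 0 := hJ.isAlt.self_eq_zero v

theorem transpose : Jᵀ = -J := by
  ext i j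
  have h := hJ.flip (Pi.single i 1) (Pi.single j 1)
  simpa [fm_apply] using h

theorem vecMul_ne_zero {v : Fin m → F} (hv : v ≠ 0) : v ᵥ* J ≠ 0 := fun h =>
  hv (hJ.nondeg.1 v fun y => by rw [fm_apply, h, zero_dotProduct])

theorem exists_pair {v : Fin m → F} (hv : v ≠ 0) : ∃ f, fm J v f = 1 := by
  obtain ⟨f, hf⟩ := CfsgLib.TensorWreathMax.exists_dot_eq_one' (hJ.vecMul_ne_zero hv)
  exact ⟨f, by rw [fm_apply, hf]⟩

theorem Xm_mul_self (v : Fin m → F) : Xm J v * Xm J v = 0 := by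
  rw [Xm, vecMulVec_mul_vecMulVec, hJ.alt, zero_smul, vecMulVec_zero]

theorem Xm_ne_zero {v : Fin m → F} (hv : v ≠ 0) : Xm J v ≠ 0 := fun h => by
  obtain ⟨f, hf⟩ := hJ.exists_pair hv
  have h1 := Xm_mulVec J v f
  rw [h, zero_mulVec, hf, one_smul] at h1
  exact hv h1.symm

/-- `Xm` is skew for the form. -/
theorem Xm_skew (v : Fin m → F) : (Xm J v)ᵀ * J = -(J * Xm J v) := by
  rw [Xm, transpose_vecMulVec, vecMulVec_mul, mul_vecMulVec]
  have e : J *ᵥ v = -(v ᵥ* J) := by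
    conv_lhs => rw [← transpose_transpose J, mulVec_transpose, hJ.transpose, vecMul_neg]
  rw [e, neg_vecMulVec, neg_neg]

/-- Conjugating a transvection direction by a similitude. -/
theorem conj_Xm {A : Matrix (Fin m) (Fin m) F} {c : F} (hA : Aᵀ * J * A = c • J) (v : Fin m → F) :
    c • (A * Xm J v) = Xm J (A *ᵥ v) * A := by
  refine Matrix.ext_of_mulVec_single fun i => ?_
  have h : ((A *ᵥ v) ᵥ* J) ⬝ᵥ (A *ᵥ Pi.single i 1) = c * ((v ᵥ* J) ⬝ᵥ Pi.single i 1) := by
    rw [← vecMul_transpose A v, vecMul_vecMul, dotProduct_mulVec, vecMul_vecMul, hA, vecMul_smul, smul_dotProduct,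
      smul_eq_mul]
  rw [smul_mulVec, ← mulVec_mulVec, ← mulVec_mulVec, Xm_mulVec, Xm_mulVec, fm_apply, fm_apply, h, mulVec_smul, smul_smul]

theorem conj_Xm' {A : GL (Fin m) F} {c : F} (hc : c ≠ 0)
    (hA : (A : Matrix (Fin m) (Fin m) F)ᵀ * J * (A : Matrix (Fin m) (Fin m) F) = c • J) (v : Fin m → F) :
    (A : Matrix (Fin m) (Fin m) F) * Xm J v * ((A⁻¹ : GL (Fin m) F) : Matrix (Fin m) (Fin m) F) =
      c⁻¹ • Xm J ((A : Matrix (Fin m) (Fin m) F) *ᵥ v) := by
  rw [eq_inv_smul_iff₀ hc, ← smul_mul_assoc, hJ.conj_Xm hA, mul_assoc, Units.mul_inv, mul_one]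

end Alt

/-- An isometry of a matrix form. -/
def Iso {ι : Type} [Fintype ι] (G g : Matrix ι ι F) : Prop := gᵀ * G * g = G

/-- A similitude of a matrix form. -/
def Sim {ι : Type} [Fintype ι] (G g : Matrix ι ι F) : Prop := ∃ c : F, c ≠ 0 ∧ gᵀ * G * g = c • G

theorem Iso.sim {ι : Type} [Fintype ι] {G g : Matrix ι ι F} (h : Iso G g) : Sim G g := ⟨1, one_ne_zero, by rw [one_smul]; exact h⟩

theorem Sim.mul {ι : Type} [Fintype ι] {G g h : Matrix ι ι F} (hg : Sim G g) (hh : Sim G h) : Sim G (g * h) := by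
  obtain ⟨c, hc, hg⟩ := hg
  obtain ⟨d, hd, hh⟩ := hh
  refine ⟨c * d, mul_ne_zero hc hd, ?_⟩
  rw [transpose_mul, show hᵀ * gᵀ * G * (g * h) = hᵀ * (gᵀ * G * g) * h by simp only [Matrix.mul_assoc], hg,
    Matrix.mul_smul, Matrix.smul_mul, hh, smul_smul]

theorem Iso.mul {ι : Type} [Fintype ι] {G g h : Matrix ι ι F} (hg : Iso G g) (hh : Iso G h) : Iso G (g * h) := by
  rw [Iso, transpose_mul, show hᵀ * gᵀ * G * (g * h) = hᵀ * (gᵀ * G * g) * h by simp only [Matrix.mul_assoc], hg]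
  exact hh

/-- The matrix of the tensor power of the form. -/
def Jt (J : Matrix (Fin m) (Fin m) F) (t : ℕ) : Matrix (Idx m t) (Idx m t) F := pm fun _ => J

theorem pm_transpose (as : Fin t → Matrix (Fin m) (Fin m) F) : (pm as)ᵀ = pm fun i => (as i)ᵀ := by
  ext x y
  simp [pm]

theorem iso_slot {J A : Matrix (Fin m) (Fin m) F} (hA : Iso J A) (i : Fin t) : Iso (Jt J t) (slot i A) := by
  rw [Iso, Jt, slot_apply, pm_transpose, pm_mul, pm_mul]
  congr 1
  funext l
  rcases eq_or_ne l i with rfl | hl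
  · simpa [Iso] using hA
  · simp [hl]

theorem Jt_transpose {J : Matrix (Fin m) (Fin m) F} (hJ : Alt J) : (Jt J t)ᵀ = (-1 : F) ^ t • Jt J t := by
  rw [Jt, pm_transpose, hJ.transpose]
  simpa using CfsgLib.TensorWreathMax.pm_smul (fun _ : Fin t => (-1 : F)) fun _ => J

theorem rx_Jt (J : Matrix (Fin m) (Fin m) F) (i : Fin (t + 1)) : rx i (Jt J (t + 1)) = J ⊗ₖ Jt J t := by
  rw [Jt, rx_pm]; rfl

theorem Jt_isUnit {J : Matrix (Fin m) (Fin m) F} (hJ : Alt J) : IsUnit (Jt J t) := by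
  obtain ⟨J', hJ'⟩ := (Matrix.isUnit_iff_isUnit_det J).2 hJ.det.isUnit
  refine ⟨⟨Jt J t, pm fun _ => ((J'⁻¹ : GL (Fin m) F) : Matrix (Fin m) (Fin m) F), ?_, ?_⟩, rfl⟩ <;>
    simp only [Jt, pm_mul, ← hJ', Units.mul_inv, Units.inv_mul] <;> exact pm_one

/-- Isometries containing the slot transvections. -/
structure Setting (J : Matrix (Fin m) (Fin m) F) (M : Subgroup (GL (Idx m t) F)) : Prop where
  iso : ∀ g ∈ M, Iso (Jt J t) (g : Matrix (Idx m t) (Idx m t) F)
  root : ∀ i v (c : F), In M (1 + c • slot i (Xm J v))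

/-- The only coefficients of slot transvections are scalars. -/
def Scal (J : Matrix (Fin m) (Fin m) F) (M : Subgroup (GL (Idx m t) F)) : Prop :=
  ∀ i v, v ≠ 0 → ∀ Y : Matrix (Idx m t) (Idx m t) F, (∀ Z, Y * slot i Z = slot i Z * Y) →
    In M (1 + slot i (Xm J v) * Y) → ∃ c : F, Y = c • 1

namespace Setting

variable {J : Matrix (Fin m) (Fin m) F} {M : Subgroup (GL (Idx m t) F)} (hM : Setting J M) (hJ : Alt J)
include hM hJ

theorem slot_isom {g : (Fin m → F) ≃ₗ[F] (Fin m → F)} (hg : g ∈ CfsgLib.Sp.transvGroup (fm J) hJ.isAlt) (i : Fin t) :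
    In M (slot i (LinearMap.toMatrix' g.toLinearMap)) := by
  induction hg using Subgroup.closure_induction with
  | mem x hx =>
    obtain ⟨v, c, rfl⟩ := hx
    convert hM.root i v (-c) using 1
    rw [← slot_one i, ← map_smul, ← map_add]
    congr 1
    refine Matrix.ext_of_mulVec_single fun l => ?_
    rw [LinearMap.toMatrix'_mulVec, LinearEquiv.coe_coe, CfsgLib.Sp.tvec_apply, add_mulVec, one_mulVec, smul_mulVec,
      Xm_mulVec, smul_smul, hJ.flip _ v, mul_neg, neg_mul, neg_neg]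
  | one =>
    rw [show LinearMap.toMatrix' (1 : (Fin m → F) ≃ₗ[F] (Fin m → F)).toLinearMap = 1 from LinearMap.toMatrix'_id,
      slot_one]
    exact In.one
  | mul x y _ _ hx hy =>
    rw [show (x * y).toLinearMap = x.toLinearMap ∘ₗ y.toLinearMap from rfl, LinearMap.toMatrix'_comp, ← slot_mul]
    exact hx.mul hy
  | inv x _ hx =>
    refine hx.inv ?_
    rw [slot_mul, ← LinearMap.toMatrix'_comp, show x.toLinearMap ∘ₗ (x⁻¹).toLinearMap = LinearMap.id from
      LinearMap.ext fun y => x.apply_symm_apply y, LinearMap.toMatrix'_id, slot_one]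

end Setting

/-- The matrix of an isometry of the form. -/
theorem iso_toMatrix' {J : Matrix (Fin m) (Fin m) F} {g : (Fin m → F) ≃ₗ[F] (Fin m → F)}
    (hg : g ∈ CfsgLib.Sp.isom (fm J)) : Iso J (LinearMap.toMatrix' g.toLinearMap) := by
  refine Matrix.toBilin'.injective (LinearMap.ext fun u => LinearMap.ext fun v => ?_)
  have h := hg u v
  rw [fm, Matrix.toBilin'_apply', Matrix.toBilin'_apply'] at h
  rw [Matrix.toBilin'_apply', Matrix.toBilin'_apply', ← mulVec_mulVec, ← mulVec_mulVec, LinearMap.toMatrix'_mulVec,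
    dotProduct_mulVec u, vecMul_transpose, LinearMap.toMatrix'_mulVec]
  exact h

theorem Alt.exists_move {J : Matrix (Fin m) (Fin m) F} (hJ : Alt J) {v w : Fin m → F} (hv : v ≠ 0) (hw : w ≠ 0) :
    ∃ A : GL (Fin m) F, (A : Matrix (Fin m) (Fin m) F) *ᵥ v = w ∧ Iso J (A : Matrix (Fin m) (Fin m) F) ∧
      ∀ {t : ℕ} {M : Subgroup (GL (Idx m t) F)}, Setting J M → ∀ i, In M (slot i (A : Matrix (Fin m) (Fin m) F)) := by
  obtain ⟨g, hg, hgv⟩ := CfsgLib.Sp.transitive_ne_zero hJ.isAlt hJ.nondeg.1 v w hv hw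
  refine ⟨⟨LinearMap.toMatrix' g.toLinearMap, LinearMap.toMatrix' g.symm.toLinearMap, ?_, ?_⟩, ?_,
    iso_toMatrix' (CfsgLib.Sp.transvGroup_le_isom hg), fun hM i => hM.slot_isom hJ hg i⟩
  · rw [← LinearMap.toMatrix'_comp, show g.toLinearMap ∘ₗ g.symm.toLinearMap = LinearMap.id from
      LinearMap.ext fun y => g.apply_symm_apply y, LinearMap.toMatrix'_id]
  · rw [← LinearMap.toMatrix'_comp, show g.symm.toLinearMap ∘ₗ g.toLinearMap = LinearMap.id from
      LinearMap.ext fun y => g.symm_apply_apply y, LinearMap.toMatrix'_id]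
  · show LinearMap.toMatrix' g.toLinearMap *ᵥ v = w
    rw [LinearMap.toMatrix'_mulVec]; exact hgv

/-! ### Matrices at a splitting -/

theorem rx_commute_slot {i : Fin (t + 1)} {Y : Matrix (Idx m (t + 1)) (Idx m (t + 1)) F}
    (h : ∀ Z, Y * slot i Z = slot i Z * Y) (a₀ : Fin m) :
    ∃ Y' : Matrix (Idx m t) (Idx m t) F, rx i Y = (1 : Matrix (Fin m) (Fin m) F) ⊗ₖ Y' := by
  refine ⟨fun x y => rx i Y (a₀, x) (a₀, y), ?_⟩
  have h1 : ∀ Z : Matrix (Fin m) (Fin m) F, rx i Y * (Z ⊗ₖ (1 : Matrix (Idx m t) (Idx m t) F)) =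
      (Z ⊗ₖ (1 : Matrix (Idx m t) (Idx m t) F)) * rx i Y := fun Z => by
    rw [← rx_slot_same i, ← map_mul, h, map_mul]
  ext ⟨a, x⟩ ⟨b, y⟩
  have h2 := congrFun (congrFun (h1 (Matrix.single b a₀ 1)) (a, x)) (a₀, y)
  simp only [Matrix.mul_apply, Fintype.sum_prod_type, Matrix.kroneckerMap_apply, Matrix.single_apply, Matrix.one_apply,
    mul_ite, ite_mul, mul_one, one_mul, mul_zero, zero_mul, ite_and, Finset.sum_ite_eq, Finset.sum_ite_eq',
    Finset.mem_univ, if_true] at h2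
  refine h2.trans ?_
  refine Eq.trans ?_ (Matrix.kroneckerMap_apply _ _ _ (a, x) (b, y)).symm
  rcases eq_or_ne a b with rfl | hab
  · simp [Finset.sum_ite_eq']
  · simp [Matrix.one_apply, hab, Ne.symm hab]

end CfsgLib.TensorSympWreath
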