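import Cfsg.Agent.Lib.TensorSympWreath.Closing

/-!
Products of transvection directions in an odd number of slots grow to all the slots.
-/

set_option autoImplicit false
set_option linter.unusedSectionVars false
set_option linter.unusedSimpArgs false

namespace CfsgLib.TensorSympWreath

open Matrix
open CfsgLib.Maximal.TensorPower
open CfsgLib.TensorWreathMax (Idx In permM permM_mul_self)

attribute [-simp] Matrix.coe_units_inv

variable {F : Type*} [Field F] {m N : ℕ}

/-- All products of transvection directions on a set of slots are in the group. -/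
def Pat (J : Matrix (Fin m) (Fin m) F) (M : Subgroup (GL (Idx m N) F)) (S : Finset (Fin N)) : Prop :=
  ∀ (a : Fin N → Fin m → F) (c : F), In M (1 + c • pat S fun l => Xm J (a l))

theorem chain_three {J : Matrix (Fin m) (Fin m) F} (a b c d : Fin m → F) :
    Xm J a * Xm J b * (Xm J c * Xm J d) = (fm J a b * fm J b c * fm J c d) • vecMulVec a (d ᵥ* J) := by
  simp only [Xm, vecMulVec_mul_vecMulVec, vecMulVec_smul, Matrix.smul_mul, Matrix.mul_smul, smul_smul, ← fm_apply]
  ring_nf

namespace Whole

variable {J : Matrix (Fin m) (Fin m) F} {M : Subgroup (GL (Idx m N) F)} (hW : Whole J M) {i : Fin N}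
include hW

theorem coef_all {S : Finset (Fin N)} (hiS : i ∉ S) {w : Fin N → Fin m → F} (hw : ∀ l ∈ S, w l ≠ 0)
    (hY : Coef J M i (pat S fun l => Xm J (w l))) (a : Fin N → Fin m → F) :
    Coef J M i (pat S fun l => Xm J (a l)) := by
  classical
  by_cases ha : ∃ l ∈ S, a l = 0
  · obtain ⟨l, hl, h0⟩ := ha
    rw [show pat S (fun l => Xm J (a l)) = 0 from CfsgLib.TensorWreathMax.pm_eq_zero_of (j := l) (by
      rw [ops, if_pos hl, h0]; ext p q; simp [Xm, vecMulVec_apply])]
    exact hW.coef_zero
  push Not at ha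
  have key : ∀ C ⊆ S, Coef J M i (pat S fun l => if l ∈ C then Xm J (a l) else Xm J (w l)) := by
    intro C
    induction C using Finset.induction_on with
    | empty => intro _; simpa using hY
    | insert j C hj ih =>
      intro hC
      have hjS : j ∈ S := hC (Finset.mem_insert_self _ _)
      have hji : j ≠ i := fun h => hiS (by rw [← h]; exact hjS)
      obtain ⟨A, hAv, hAi, hAM⟩ := hW.alt.exists_move (hw j hjS) (ha j hjS)
      obtain ⟨g, hg, hgA⟩ := hAM hW.setting j
      have hgi : ((g⁻¹ : GL (Idx m N) F) : Matrix (Idx m N) (Idx m N) F) =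
          slot j ((A⁻¹ : GL (Fin m) F) : Matrix (Fin m) (Fin m) F) :=
        Units.inv_eq_of_mul_eq_one_right (by rw [hgA, slot_mul, Units.mul_inv, slot_one])
      have h := hW.coef_conj (ih fun l hl => hC (Finset.mem_insert_of_mem hl)) hg (fun Z => by
        rw [hgA]; exact slot_comm hji _ _)
      convert h using 1
      rw [hgA, hgi]
      conv_lhs => rw [← Finset.insert_erase hjS, pat_insert (Finset.notMem_erase _ _)]
      conv_rhs => rw [← Finset.insert_erase hjS, pat_insert (Finset.notMem_erase _ _)]
      rw [pat_congr (S := S.erase j) (os' := fun l => if l ∈ C then Xm J (a l) else Xm J (w l)) fun l hl => by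
        simp [Finset.ne_of_mem_erase hl]]
      simp only [Finset.mem_insert, true_or, if_true, hj, if_false]
      rw [← mul_assoc, slot_mul, mul_assoc _ (pat _ _), pat_comm_slot (Finset.notMem_erase _ _), ← mul_assoc, slot_mul,
        hW.alt.conj_Xm' one_ne_zero (show _ = (1 : F) • J from hAi.trans (one_smul F J).symm), hAv, inv_one, one_smul]
  have h := key S subset_rfl
  rwa [pat_congr (os' := fun l => Xm J (a l)) fun l hl => by simp [hl]] at h

theorem pat_of_coef {S : Finset (Fin N)} (hiS : i ∉ S) (h : ∀ a : Fin N → Fin m → F, Coef J M i (pat S fun l => Xm J (a l))) :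
    Pat J M (insert i S) := fun a c => by
  classical
  have h1 := (hW.coef_smul (h a) c).2 (a i)
  rwa [mul_smul_comm, ← pat_insert (os := fun l => Xm J (a l)) hiS] at h1

theorem coef_of_pat {S : Finset (Fin N)} (hi : i ∈ S) (h : Pat J M S) (a : Fin N → Fin m → F) :
    Coef J M i (pat (S.erase i) fun l => Xm J (a l)) := by
  classical
  refine ⟨fun Z => pat_comm_slot (Finset.notMem_erase _ _) _ Z, fun v => ?_⟩
  have h1 := h (Function.update a i v) 1
  rw [one_smul, ← Finset.insert_erase hi, pat_insert (Finset.notMem_erase _ _)] at h1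
  simp only [Function.update_self] at h1
  rwa [pat_congr (os' := fun l => Xm J (a l)) fun l hl => by
    simp [Function.update_of_ne (Finset.ne_of_mem_erase hl)]] at h1

theorem pat_image {S : Finset (Fin N)} (h : Pat J M S) {j k p q : Fin N}
    (hperm : In M (permM (Equiv.swap p q) * permM (Equiv.swap j k))) :
    Pat J M ((S.image (Equiv.swap j k)).image (Equiv.swap p q)) := by
  classical
  intro a c
  obtain ⟨g, hg, hgP⟩ := hperm
  have hgi : ((g⁻¹ : GL (Idx m N) F) : Matrix (Idx m N) (Idx m N) F) =
      permM (Equiv.swap j k) * permM (Equiv.swap p q) :=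
    Units.inv_eq_of_mul_eq_one_right (by
      rw [hgP, mul_assoc, ← mul_assoc (permM (Equiv.swap j k)), permM_mul_self (Equiv.swap_mul_self j k), one_mul,
        permM_mul_self (Equiv.swap_mul_self p q)])
  have h1 := In.conj hg (h (fun l => a (Equiv.swap p q (Equiv.swap j k l))) c)
  rw [hgP, hgi, mul_smul_comm, smul_mul_assoc, show ∀ A : Matrix (Idx m N) (Idx m N) F,
    permM (Equiv.swap p q) * permM (Equiv.swap j k) * A * (permM (Equiv.swap j k) * permM (Equiv.swap p q)) =
      permM (Equiv.swap p q) * (permM (Equiv.swap j k) * A * permM (Equiv.swap j k)) * permM (Equiv.swap p q) from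
        fun A => by simp only [mul_assoc], pat_swap, pat_swap] at h1
  simpa using h1

/-- Two more slots. -/
theorem pat_grow [NeZero m]
    (hperm : ∀ a b c d : Fin N, a ≠ b → c ≠ d → In M (permM (Equiv.swap a b) * permM (Equiv.swap c d)))
    {S : Finset (Fin N)} (h : Pat J M S) (hodd : Odd S.card) (h3 : 3 ≤ S.card) {p q : Fin N}
    (hp : p ∉ S) (hq : q ∉ S) (hpq : p ≠ q) : ∃ i₀ ∈ S, ∀ a : Fin N → Fin m → F, Coef J M i₀
      (pat (insert p (insert q (S.erase i₀))) fun l => Xm J (a l)) := by
  classical
  obtain ⟨i₀, hi₀⟩ := Finset.card_pos.1 (show 0 < S.card by omega)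
  refine ⟨i₀, hi₀, ?_⟩
  set T := S.erase i₀ with hT
  obtain ⟨e, he⟩ : T.Nonempty := Finset.card_pos.1 (by rw [hT, Finset.card_erase_of_mem hi₀]; omega)
  set C := T.erase e with hC
  have heS : e ∈ S := Finset.mem_of_mem_erase he
  have hei : e ≠ i₀ := Finset.ne_of_mem_erase he
  have hip : i₀ ≠ p := fun h => hp (h ▸ hi₀)
  have hiq : i₀ ≠ q := fun h => hq (h ▸ hi₀)
  have hep : e ≠ p := fun h => hp (h ▸ heS)
  have heq : e ≠ q := fun h => hq (h ▸ heS)
  have hCS : ∀ l ∈ C, l ∈ S ∧ l ≠ i₀ ∧ l ≠ e ∧ l ≠ p ∧ l ≠ q := fun l hl => by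
    rw [hC, hT, Finset.mem_erase, Finset.mem_erase] at hl
    exact ⟨hl.2.2, hl.2.1, hl.1, fun h => hp (h ▸ hl.2.2), fun h => hq (h ▸ hl.2.2)⟩
  have hqC : q ∉ C := fun h => (hCS q h).2.2.2.2 rfl
  have hpC : p ∉ C := fun h => (hCS p h).2.2.2.1 rfl
  have heC : e ∉ C := Finset.notMem_erase _ _
  set S₁ := insert p (insert q C) with hS₁
  have hS1e : (S.image (Equiv.swap i₀ p)).image (Equiv.swap e q) = S₁ := by
    rw [hS₁]
    conv_lhs => rw [← Finset.insert_erase hi₀, ← hT, ← Finset.insert_erase he, ← hC]
    rw [Finset.image_insert, Finset.image_insert, Finset.image_insert, Finset.image_insert, Equiv.swap_apply_left,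
      Equiv.swap_apply_of_ne_of_ne hep.symm hpq, Equiv.swap_apply_of_ne_of_ne hei hep, Equiv.swap_apply_left,
      Finset.image_congr (g := id) (s := C) (fun l hl => ?_), Finset.image_id, Finset.image_congr (g := id) (s := C) (fun l hl => ?_),
      Finset.image_id]
    · exact Equiv.swap_apply_of_ne_of_ne (hCS l hl).2.2.1 (hCS l hl).2.2.2.2
    · exact Equiv.swap_apply_of_ne_of_ne (hCS l hl).2.1 (hCS l hl).2.2.2.1
  have hP : Pat J M S₁ := hS1e ▸ hW.pat_image h (hperm e q i₀ p heq hip)
  set y : Fin m → F := Pi.single 0 1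
  obtain ⟨z, hyz⟩ := hW.alt.exists_pair (v := y) (by simp [y])
  set x := y + z
  have hz0 : z ≠ 0 := fun h => by rw [h, map_zero] at hyz; exact zero_ne_one hyz
  have hY : Coef J M i₀ (pat T fun _ => Xm J y) := hW.coef_of_pat hi₀ h fun _ => y
  have hiS₁ : i₀ ∉ S₁ := by
    simp [hS₁, hip, hiq]
    exact fun h => (hCS i₀ h).2.1 rfl
  set P := pat S₁ fun _ => Xm J z with hPdef
  have hP2 : P * P = 0 := by
    rw [hPdef, pat_mul]
    refine CfsgLib.TensorWreathMax.pm_eq_zero_of (j := p) ?_
    simp [ops, hS₁, hW.alt.Xm_mul_self]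
  have hPM : In M (1 + P) := by simpa using hP (fun _ => z) 1
  obtain ⟨hD, -⟩ := hW.coef_ops hY hP2 hPM (fun Z => pat_comm_slot hiS₁ _ Z)
  -- the sandwiches
  have hsand : ∀ U : Finset (Fin N), i₀ ∉ U → ∀ Y, Coef J M i₀ Y →
      Coef J M i₀ (pat U (fun _ => Xm J x) * Y * pat U (fun _ => Xm J x)) := by
    intro U
    induction U using Finset.induction_on with
    | empty => intro _ Y hY; simpa [pat_empty] using hY
    | insert j U hj ih =>
      intro hiU Y hY
      rw [Finset.mem_insert, not_or] at hiU
      have h1 := ih hiU.2 _ (hW.coef_slot_ops hY (Ne.symm hiU.1) x).2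
      rw [pat_insert hj]
      convert h1 using 1
      nth_rw 1 [show slot j (Xm J x) * pat U (fun _ => Xm J x) = pat U (fun _ => Xm J x) * slot j (Xm J x) from
        (pat_comm_slot hj _ _).symm]
      simp only [mul_assoc]
  have hiC : i₀ ∉ C := fun h => (hCS i₀ h).2.1 rfl
  have hR := hsand C hiC _ hD
  set R : Fin N → Fin m → F := fun l => if l = e then y else if l = p ∨ l = q then z else x
  set U := insert p (insert q T) with hU
  have hUT : T = insert e C := (Finset.insert_erase he).symm
  have hxz : fm J x z = 1 := by simp [x, map_add, LinearMap.add_apply, hyz, hW.alt.self]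
  have hzy : fm J z y = -1 := by rw [hW.alt.flip y z, hyz]
  have hyx : fm J y x = 1 := by simp [x, map_add, hyz, hW.alt.self]
  have hxy : fm J x y = -1 := by rw [hW.alt.flip y x, hyx]
  have hzx : fm J z x = -1 := by rw [hW.alt.flip x z, hxz]
  have hop : ∀ l, ops C (fun _ => Xm J x) l * (ops S₁ (fun _ => Xm J z) l * ops T (fun _ => Xm J y) l) *
      ops C (fun _ => Xm J x) l = (if l ∈ C then (-1 : F) else 1) • ops U (fun l => Xm J (R l)) l ∧
      ops C (fun _ => Xm J x) l * (ops T (fun _ => Xm J y) l * ops S₁ (fun _ => Xm J z) l) *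
      ops C (fun _ => Xm J x) l = ops U (fun l => Xm J (R l)) l := by
    intro l
    by_cases hlC : l ∈ C
    · obtain ⟨-, -, hle, hlp, hlq⟩ := hCS l hlC
      have h1 : ∀ a b, Xm J x * (Xm J a * Xm J b) * Xm J x = (fm J x a * fm J a b * fm J b x) • Xm J x := fun a b => by
        rw [mul_assoc, mul_assoc (Xm J a), ← mul_assoc, chain_three]; rfl
      simp [ops, hS₁, hU, hUT, hlC, R, hle, hlp, hlq, h1, hxz, hzy, hyx, hxy, hzx, hyz]
    rcases eq_or_ne l e with rfl | hle
    · simp [ops, hS₁, hU, hUT, hlC, R, hep, heq]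
    by_cases hlpq : l = p ∨ l = q
    · rcases hlpq with rfl | rfl <;> simp [ops, hS₁, hU, hUT, hlC, R, hle, hpq, hpq.symm]
    · rw [not_or] at hlpq
      simp [ops, hS₁, hU, hUT, hlC, R, hle, hlpq]
  have hCodd : Odd C.card := by
    rw [hC, Finset.card_erase_of_mem he, hT, Finset.card_erase_of_mem hi₀]
    obtain ⟨k, hk⟩ := hodd
    exact ⟨k - 1, by omega⟩
  have hprod : (∏ l : Fin N, if l ∈ C then (-1 : F) else 1) = -1 := by
    rw [Finset.prod_ite_mem, Finset.univ_inter, Finset.prod_const, hCodd.neg_one_pow]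
  have e1 : pat C (fun _ => Xm J x) * (P * pat T (fun _ => Xm J y)) * pat C (fun _ => Xm J x) =
      (-1 : F) • pat U (fun l => Xm J (R l)) := by
    rw [hPdef, pat, pat, pat, pat, pm_mul, pm_mul, pm_mul, funext fun l => (hop l).1, CfsgLib.TensorWreathMax.pm_smul,
      hprod]
  have e2 : pat C (fun _ => Xm J x) * (pat T (fun _ => Xm J y) * P) * pat C (fun _ => Xm J x) =
      pat U (fun l => Xm J (R l)) := by
    rw [hPdef, pat, pat, pat, pat, pm_mul, pm_mul, pm_mul, funext fun l => (hop l).2]
  rw [mul_sub, sub_mul, e1, e2, neg_one_smul] at hR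
  have hU' : Coef J M i₀ (pat U fun l => Xm J (R l)) := by
    refine hW.coef_of_smul (neg_ne_zero.2 hW.two) ?_
    convert hR using 1
    rw [neg_smul, two_smul]; abel
  intro a
  refine hW.coef_all (by simp [hU, hip, hiq, hT]) (w := R) (fun l _ => ?_) hU' a
  simp only [R]
  split_ifs
  · simp [y]
  · exact hz0
  · intro h0
    have h1 := congrArg (fun u => fm J u z) h0
    simp only [map_zero, LinearMap.zero_apply] at h1
    rw [show x = y + z from rfl] at h1
    simp [hyz, hW.alt.self] at h1

set_option maxHeartbeats 800000 in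
/-- With a non-scalar coefficient and an odd number of slots all products are present. -/
theorem pat_univ [NeZero m] (hperm : ∀ j k : Fin N, In M (permM (Equiv.swap j k))) (hN : Odd N) {Y₀ : Matrix (Idx m N) (Idx m N) F} (hY₀ : Coef J M i Y₀)
    (hns : ∀ c : F, Y₀ ≠ c • 1) : Pat J M Finset.univ := by
  classical
  obtain ⟨S, os, ss, hiS, hSne, hk, hY⟩ := hW.exists_pat hY₀ hns
  -- an even set with transvection directions
  obtain ⟨T, w, hiT, hTne, hev, hw, hT⟩ : ∃ (T : Finset (Fin N)) (w : Fin N → Fin m → F), i ∉ T ∧ T.Nonempty ∧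
      Even T.card ∧ (∀ l ∈ T, w l ≠ 0) ∧ Coef J M i (pat T fun l => Xm J (w l)) := by
    by_cases hP : HasPair J
    · rcases Nat.even_or_odd S.card with hev | hodd
      · obtain ⟨w, hw, h⟩ := hW.coef_to_Xm hP hiS hev (fun l hl => (hk l hl).1) hY
        exact ⟨S, w, hiS, hSne, hev, hw, h⟩
      · obtain ⟨l, hl⟩ : ∃ l, l ∉ insert i S := by
          by_contra hcon
          push Not at hcon
          have h1 : (insert i S).card = N := by
            rw [Finset.eq_univ_of_forall hcon, Finset.card_univ, Fintype.card_fin]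
          rw [Finset.card_insert_of_notMem hiS] at h1
          rw [← h1] at hN
          exact Nat.not_even_iff_odd.2 hN hodd.add_one
        obtain ⟨os', ss', hk', hY'⟩ := hW.coef_spread hperm hP hiS hodd hl (fun l hl => (hk l hl).1) hY
        rw [Finset.mem_insert, not_or] at hl
        have hev : Even (insert l S).card := by rw [Finset.card_insert_of_notMem hl.2]; exact hodd.add_one
        obtain ⟨w, hw, h⟩ := hW.coef_to_Xm hP (by simp [Ne.symm hl.1, hiS]) hev hk' hY'
        exact ⟨_, w, by simp [Ne.symm hl.1, hiS], Finset.insert_nonempty _ _, hev, hw, h⟩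
    · have hk' : ∀ l ∈ S, Kind J (-1) (os l) := fun l hl => by
        obtain ⟨h1, h2 | h2⟩ := hk l hl
        · rwa [h2] at h1
        · exact absurd h2 hP
      have hev := hW.even_of_skew hiS hk' hY
      -- without isotropic pairs the operators are transvection directions
      have hX : ∀ l ∈ S, ∃ w, w ≠ 0 ∧ ∃ c : F, c ≠ 0 ∧ os l = c • Xm J w := by
        intro l hl
        obtain ⟨hO, hOO, -, hsk⟩ := hk' l hl
        obtain ⟨u, hu⟩ : ∃ u, os l *ᵥ u ≠ 0 := by
          by_contra hcon
          push Not at hcon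
          exact hO (Matrix.ext_of_mulVec_single fun x => by rw [hcon, zero_mulVec])
        set v := os l *ᵥ u
        have hline : ∀ c, fm J v c = 0 → ∃ a : F, c = a • v := fun c hc => by
          by_contra hcon
          push Not at hcon
          exact hP ⟨v, c, hu, hc, hcon⟩
        have hskew : ∀ a b, fm J (os l *ᵥ a) b = -fm J a (os l *ᵥ b) := fun a b => by
          rw [fm_apply, fm_apply, ← vecMul_transpose, vecMul_vecMul, hsk, neg_one_smul, vecMul_neg, neg_dotProduct,
            ← vecMul_vecMul, ← dotProduct_mulVec]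
        have hperp : ∀ a, fm J v (os l *ᵥ a) = 0 := fun a => by
          rw [hskew, mulVec_mulVec, hOO, zero_mulVec, map_zero, neg_zero]
        choose α hα using fun a => hline _ (hperp a)
        obtain ⟨f, hf⟩ := hW.alt.exists_pair hu
        refine ⟨v, hu, α f, fun h0 => ?_, Matrix.ext_of_mulVec_single fun x => ?_⟩
        · have h1 := hskew u f
          rw [show os l *ᵥ u = v from rfl, hf, hα f, h0, zero_smul, map_zero, neg_zero] at h1
          exact one_ne_zero h1
        · generalize (Pi.single x (1 : F) : Fin m → F) = a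
          rw [smul_mulVec, Xm_mulVec, smul_smul, hα a]
          congr 1
          have h1 := hskew a f
          rw [hα a, hα f, map_smul, LinearMap.smul_apply, map_smul, hf, hW.alt.flip v a] at h1
          simp only [smul_eq_mul, mul_one] at h1
          rw [h1]; ring
      choose w hw c hc hos using hX
      let w' : Fin N → Fin m → F := fun l => if hl : l ∈ S then w l hl else 0
      let c' : Fin N → F := fun l => if hl : l ∈ S then c l hl else 1
      refine ⟨S, w', hiS, hSne, hev, fun l hl => by simp [w', hl, hw l hl], hW.coef_of_smul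
        (Finset.prod_ne_zero_iff.2 fun l hl => by simp [c', hl, hc l hl] : ∏ l ∈ S, c' l ≠ 0) ?_⟩
      rw [← pat_smul, pat_congr (os' := os) fun l hl => by simp [c', w', hl, ← hos l hl]]
      exact hY
  have h0 := hW.pat_of_coef hiT (hW.coef_all hiT hw hT)
  -- growing
  have key : ∀ (d : ℕ) (S : Finset (Fin N)), Pat J M S → Odd S.card → 3 ≤ S.card → N = S.card + d →
      Pat J M Finset.univ := by
    intro d
    induction d using Nat.strong_induction_on with
    | _ d ih =>
      intro S hS hodd h3 hd
      rcases Nat.eq_zero_or_pos d with rfl | hd0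
      · rwa [Finset.eq_univ_of_card S (by rw [Fintype.card_fin]; omega)] at hS
      have hd2 : 2 ≤ d := by
        by_contra hlt
        obtain rfl : d = 1 := by omega
        rw [hd] at hN
        exact Nat.not_even_iff_odd.2 hN hodd.add_one
      obtain ⟨p, hp, q, hq, hpq⟩ := Finset.one_lt_card.1 (show 1 < Sᶜ.card by
        rw [Finset.card_compl, Fintype.card_fin]; omega)
      rw [Finset.mem_compl] at hp hq
      obtain ⟨i₀, hi₀, h⟩ := hW.pat_grow (fun a b c d _ _ => (hperm a b).mul (hperm c d)) hS hodd h3 hp hq hpq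
      have hi : i₀ ∉ insert p (insert q (S.erase i₀)) := by
        simp [show i₀ ≠ p from fun h => hp (h ▸ hi₀), show i₀ ≠ q from fun h => hq (h ▸ hi₀)]
      have hcard : (insert i₀ (insert p (insert q (S.erase i₀)))).card = S.card + 2 := by
        rw [Finset.card_insert_of_notMem hi, Finset.card_insert_of_notMem (by simp [hpq, hp]),
          Finset.card_insert_of_notMem (by simp [hq]), Finset.card_erase_of_mem hi₀]
        omega
      refine ih (d - 2) (by omega) _ (hW.pat_of_coef hi h) (by rw [hcard]; exact hodd.add_even even_two) (by omega) ?_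
      rw [hcard]; omega
  refine key (N - (insert i T).card) _ h0 ?_ ?_ ?_
  · rw [Finset.card_insert_of_notMem hiT]; exact hev.add_one
  · rw [Finset.card_insert_of_notMem hiT]
    obtain ⟨k, hk⟩ := hev
    have := hTne.card_pos
    omega
  · have := (insert i T).card_le_univ
    rw [Fintype.card_fin] at this
    omega

end Whole

end CfsgLib.TensorSympWreath
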