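import Cfsg.Agent.Lib.TensorSympWreath.Core
import Cfsg.Agent.Lib.TensorSympWreath.Growth
import Cfsg.Agent.Lib.GeomClasses.Symp

/-!
The stabiliser of a tensor power of a symplectic form with an odd number of factors is maximal in the symplectic
group, provided the groups with only scalar coefficients are monomial.
-/

set_option autoImplicit false
set_option linter.unusedSectionVars false
set_option linter.unusedSimpArgs false
set_option linter.style.haveILetI false

namespace CfsgLib.TensorSympWreath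

open Matrix
open CfsgLib.Maximal.TensorPower
open CfsgLib.TensorWreathMax (Idx In permM permM_mulVec permM_conj_pm mem_standard dot_tp)
open CfsgLib.GeomClasses

attribute [-simp] Matrix.coe_units_inv

variable {F : Type*} [Field F] {m N : ℕ}

/-- A functional on pure tensors taking at most two values on those of value one for a pure functional is a
multiple of it. -/
theorem eq_of_two_values (h2 : (2 : F) ≠ 0) (w : Idx m N → F) (α : Fin N → Fin m → F) (hα : ∀ l, α l ≠ 0) (κ : F)
    (h : ∀ xs : Fin N → Fin m → F, (∀ l, α l ⬝ᵥ xs l = 1) → w ⬝ᵥ tp xs = 0 ∨ w ⬝ᵥ tp xs = κ) :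
    ∃ g : F, ∀ xs : Fin N → Fin m → F, w ⬝ᵥ tp xs = g * ∏ l, α l ⬝ᵥ xs l := by
  classical
  choose hs hhs using fun l => CfsgLib.TensorWreathMax.exists_dot_eq_one' (hα l)
  have hlin : ∀ (xs : Fin N → Fin m → F) (l : Fin N) (x y : Fin m → F) (r : F),
      w ⬝ᵥ tp (Function.update xs l (x + r • y)) =
        w ⬝ᵥ tp (Function.update xs l x) + r * (w ⬝ᵥ tp (Function.update xs l y)) := by
    intro xs l x y r
    rw [← smul_eq_mul, ← dotProduct_smul, ← dotProduct_add]
    congr 1
    funext a
    simp only [tp, Pi.add_apply, Pi.smul_apply, smul_eq_mul]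
    have e : ∀ z : Fin m → F, ∏ k, Function.update xs l z k (a k) = z (a l) * ∏ k ∈ Finset.univ.erase l, xs k (a k) :=
      fun z => by
        rw [← Finset.mul_prod_erase _ _ (Finset.mem_univ l), Function.update_self]
        congr 1
        exact Finset.prod_congr rfl fun k hk => by rw [Function.update_of_ne (Finset.ne_of_mem_erase hk)]
    rw [e, e, e, Pi.add_apply, Pi.smul_apply, smul_eq_mul]
    ring
  set g := w ⬝ᵥ tp hs
  have hH : ∀ C : Finset (Fin N), ∀ xs : Fin N → Fin m → F, (∀ l, α l ⬝ᵥ xs l = 1) → (∀ l ∉ C, xs l = hs l) →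
      w ⬝ᵥ tp xs = g := by
    intro C
    induction C using Finset.induction_on with
    | empty => exact fun xs _ h0 => by rw [funext fun l => h0 l (Finset.notMem_empty l)]
    | insert l C hl ih =>
      intro xs hxs h0
      set ys := Function.update xs l (hs l)
      have hys : w ⬝ᵥ tp ys = g := ih ys (fun k => by
          rcases eq_or_ne k l with rfl | hk
          · simp [ys, hhs]
          · simp [ys, hk, hxs]) fun k hk => by
          rcases eq_or_ne k l with rfl | hkl
          · simp [ys]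
          · simp [ys, hkl, h0 k (by simp [hkl, hk])]
      set d := xs l - hs l
      have hd : α l ⬝ᵥ d = 0 := by rw [dotProduct_sub, hxs, hhs, sub_self]
      have hval : ∀ r : F, w ⬝ᵥ tp ys + r * (w ⬝ᵥ tp (Function.update xs l d)) = 0 ∨
          w ⬝ᵥ tp ys + r * (w ⬝ᵥ tp (Function.update xs l d)) = κ := fun r => by
        rw [← hlin]
        refine h _ fun k => ?_
        rcases eq_or_ne k l with rfl | hk
        · simp [dotProduct_add, dotProduct_smul, hhs, hd]
        · simp [hk, hxs]
      have hx : w ⬝ᵥ tp xs = w ⬝ᵥ tp ys + 1 * (w ⬝ᵥ tp (Function.update xs l d)) := by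
        rw [← hlin, one_smul, add_sub_cancel, Function.update_eq_self]
      rw [hx, hys]
      set δ := w ⬝ᵥ tp (Function.update xs l d)
      by_cases hδ : δ = 0
      · rw [hδ, mul_zero, add_zero]
      exfalso
      rw [hys] at hval
      have h0' := hval 0
      have h1' := hval 1
      have h1'' := hval (-1)
      rw [zero_mul, add_zero] at h0'
      rw [one_mul] at h1'
      rw [neg_one_mul] at h1''
      rcases h0' with a | a <;> rcases h1' with b | b <;> rcases h1'' with c | c
      all_goals first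
        | exact hδ (by linear_combination b - a)
        | exact hδ (by linear_combination a - c)
        | exact hδ (mul_left_cancel₀ h2 (by linear_combination b - c))
  have key : ∀ C : Finset (Fin N), ∀ xs : Fin N → Fin m → F, (∀ l ∉ C, α l ⬝ᵥ xs l = 1) →
      w ⬝ᵥ tp xs = g * ∏ l, α l ⬝ᵥ xs l := by
    intro C
    induction C using Finset.induction_on with
    | empty =>
      intro xs hxs
      rw [Finset.prod_eq_one fun l _ => hxs l (Finset.notMem_empty l), mul_one]
      exact hH Finset.univ xs (fun l => hxs l (Finset.notMem_empty l)) fun l hl => absurd (Finset.mem_univ l) hl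
    | insert l C hl ih =>
      intro xs hxs
      set b := α l ⬝ᵥ xs l
      set x' := xs l + (1 - b) • hs l
      have hgood : ∀ z, α l ⬝ᵥ z = 1 → w ⬝ᵥ tp (Function.update xs l z) =
          g * (1 * ∏ k ∈ Finset.univ.erase l, α k ⬝ᵥ xs k) := fun z hz => by
        rw [ih _ fun k hk => ?_, ← Finset.mul_prod_erase _ _ (Finset.mem_univ l), Function.update_self, hz]
        · congr 2
          exact Finset.prod_congr rfl fun k hk => by rw [Function.update_of_ne (Finset.ne_of_mem_erase hk)]
        · rcases eq_or_ne k l with rfl | hkl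
          · rw [Function.update_self, hz]
          · rw [Function.update_of_ne hkl]; exact hxs k (by simp [hkl, hk])
      have hxl : xs l = x' + (b - 1) • hs l := by simp only [x']; module
      conv_lhs => rw [← Function.update_eq_self l xs, hxl]
      rw [hlin, hgood x' (by simp [x', b, dotProduct_add, dotProduct_smul, hhs]), hgood _ (hhs l),
        ← Finset.mul_prod_erase _ _ (Finset.mem_univ l)]
      ring
  exact ⟨g, fun xs => key Finset.univ xs fun l hl => absurd (Finset.mem_univ l) hl⟩

/-- A set of centres containing the pure tensors is everything. -/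
theorem centres_all [Fintype F] (h2 : (2 : F) ≠ 0) {f : (Idx m N → F) → (Idx m N → F) → F}
    (hf : Cfsg.Geo.IsSymplecticForm f) {M : Subgroup (GL (Idx m N) F)}
    (h : ∀ xs : Fin N → Fin m → F, tp xs ∈ Symp.centres f M)
    (hpure : ∀ a : Idx m N, ∃ α : Fin N → Fin m → F, (∀ l, α l ≠ 0) ∧
      ∀ xs : Fin N → Fin m → F, f (Pi.single a 1) (tp xs) = ∏ l, α l ⬝ᵥ xs l) : ∀ u, u ∈ Symp.centres f M := by
  classical
  let B : (Idx m N → F) → (Idx m N → F) := fun u a => f u (Pi.single a 1)
  have hB : ∀ u v, f u v = B u ⬝ᵥ v := fun u v => by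
    have := congrArg (Symp.bil hf u) (pi_eq_sum_univ' v)
    rw [map_sum] at this
    simp [dotProduct, B, mul_comm] at this ⊢
    exact this
  have hzero : (0 : Idx m N → F) ∈ Symp.centres f M := by
    have := Symp.centres_smul hf (h fun _ => 0) 0
    rwa [zero_smul] at this
  have key : ∀ (s : Finset (Idx m N)) (u : Idx m N → F), ∑ a ∈ s, Pi.single a (u a) ∈ Symp.centres f M := by
    intro s
    induction s using Finset.induction_on with
    | empty => intro u; simpa using hzero
    | insert a s ha ih =>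
      intro u
      rw [Finset.sum_insert ha, add_comm]
      set u' := ∑ x ∈ s, Pi.single x (u x) with hu'def
      have hu' : u' ∈ Symp.centres f M := ih u
      have hua : u' a = 0 := by
        rw [hu'def, Finset.sum_apply]
        exact Finset.sum_eq_zero fun x hx => Pi.single_eq_of_ne (fun hax : a = x => ha (hax.symm ▸ hx)) _
      have he : Pi.single a (1 : F) ∈ Symp.centres f M := tp_single (F := F) a ▸ h _
      rw [show (Pi.single a (u a) : Idx m N → F) = u a • Pi.single a (1 : F) by simp [← Pi.single_smul]]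
      set e : Idx m N → F := Pi.single a (1 : F) with hedef
      set c := u a
      rcases ne_or_eq (f u' e) 0 with hne | heq
      · exact Symp.centres_step hf hu' he hne c
      rcases eq_or_ne u' 0 with h0 | h0
      · rw [h0, zero_add]; exact Symp.centres_smul hf he c
      rcases eq_or_ne c 0 with hc0 | hc0
      · rw [hc0, zero_smul, add_zero]; exact hu'
      obtain ⟨α, hα, hαf⟩ := hpure a
      obtain ⟨xs, hxs, hp0, hp2⟩ : ∃ xs : Fin N → Fin m → F, f e (tp xs) ≠ 0 ∧ f u' (tp xs) ≠ 0 ∧
          f (u' + c • e) (tp xs) ≠ 0 := by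
        by_contra hcon
        push Not at hcon
        obtain ⟨g, hg⟩ := eq_of_two_values h2 (B u') α hα (-c) fun xs hxs => by
          have h1 : f e (tp xs) = 1 := by rw [hαf, Finset.prod_eq_one fun l _ => hxs l]
          rw [← hB]
          by_cases h5 : f u' (tp xs) = 0
          · exact Or.inl h5
          · have := hcon xs (by rw [h1]; exact one_ne_zero) h5
            rw [Symp.add_left hf, Symp.smul_left hf, h1, mul_one] at this
            exact Or.inr (eq_neg_of_add_eq_zero_left this)
        have heu : u' = g • e := by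
          by_contra hne'
          obtain ⟨x, hx⟩ := (hf.nondegenerate (u' - g • e) (sub_ne_zero.2 hne')).2
          refine hx ?_
          have hall : ∀ b : Idx m N, f (u' - g • e) (Pi.single b 1) = 0 := fun b => by
            rw [sub_eq_add_neg, ← neg_smul, Symp.add_left hf, Symp.smul_left hf, ← tp_single (F := F) b, hαf, hB,
              hg]
            ring
          rw [hB, show B (u' - g • e) = 0 from funext hall, zero_dotProduct]
        have hg0 := congrFun heu a
        rw [hua, Pi.smul_apply, hedef, Pi.single_eq_same, smul_eq_mul, mul_one] at hg0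
        exact h0 (by rw [heu, ← hg0, zero_smul])
      set p := tp xs
      have c1 : u' + (1 : F) • p ∈ Symp.centres f M := Symp.centres_step hf hu' (h xs) hp0 1
      have c2 : u' + (1 : F) • p + c • e ∈ Symp.centres f M := Symp.centres_step hf c1 he (by
        rw [one_smul, Symp.add_left hf, heq, zero_add, hf.skew p e]; exact neg_ne_zero.2 hxs) c
      have c3 := Symp.centres_step hf c2 (h xs) (by
        rw [one_smul, add_right_comm, Symp.add_left hf, hf.alternating, add_zero]; exact hp2) (-1)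
      convert c3 using 1
      rw [one_smul, neg_one_smul]; abel
  intro u
  have hu := key Finset.univ u
  rwa [← pi_eq_sum_univ u |>.trans (Finset.sum_congr rfl fun a _ => by
    funext x; by_cases hx : a = x <;> simp [hx, Pi.single_apply, eq_comm])] at hu

theorem isMonomial_slot {A : Matrix (Fin m) (Fin m) F} (hA : A.det ≠ 0) (i : Fin N) {g : GL (Idx m N) F}
    (hg : (g : Matrix (Idx m N) (Idx m N) F) = slot i A) : IsMonomial g :=
  ⟨1, Function.update 1 i (GeneralLinearGroup.mkOfDetNeZero A hA), fun xs => by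
    rw [hg, slot_mulVec]
    congr 1
    funext l
    rcases eq_or_ne l i with rfl | hl
    · simp
    · simp [hl]⟩

theorem iso_permM {J : Matrix (Fin m) (Fin m) F} (j k : Fin N) :
    Iso (Jt J N) (permM (Equiv.swap j k) : Matrix (Idx m N) (Idx m N) F) := by
  have e : (permM (Equiv.swap j k) : Matrix (Idx m N) (Idx m N) F)ᵀ = permM (Equiv.swap j k) := by
    ext x y
    simp only [Matrix.transpose_apply, permM, Equiv.symm_swap]
    refine if_congr ⟨fun h => ?_, fun h => ?_⟩ rfl rfl <;>
    · rw [h]; funext l; simp [Function.comp]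
  rw [Iso, e, Jt, permM_conj_pm (Equiv.swap_mul_self j k)]

/-- The transvection of a pure tensor. -/
theorem pat_univ_eq (J : Matrix (Fin m) (Fin m) F) (a : Fin N → Fin m → F) :
    pat Finset.univ (fun l => Xm J (a l)) = vecMulVec (tp a) (tp a ᵥ* Jt J N) := by
  have h : ∀ v : Fin N → Fin m → F, tp v ᵥ* Jt J N = tp fun l => v l ᵥ* J := fun v => by
    rw [Jt, ← transpose_transpose (pm fun _ => J), vecMul_transpose, pm_transpose, pm_mulVec]
    congr 1
    funext l
    rw [mulVec_transpose]
  ext x y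
  simp [pat, ops, h, pm, Xm, tp, vecMulVec_apply, Finset.prod_mul_distrib]

/-- The stabiliser is maximal, given rigidity. -/
theorem maximal [Fintype F] {k t : ℕ} (hk : 2 ≤ k) (h2 : (2 : F) ≠ 0) (ht : Odd t)
    (ht3 : 3 ≤ t) {n : ℕ} (e : (Fin n ⊕ Fin n) ≃ (Fin t → Fin k)) (P : GL (Fin n ⊕ Fin n) F)
    {f₁ : (Fin k → F) → (Fin k → F) → F} (hf₁ : Cfsg.Geo.IsSymplecticForm f₁)
    (hT : Cfsg.Geo.IsTensorPowerFormStructure id (Cfsg.sympForm n F) f₁ e P)
    (hrig : Rigid (Cfsg.Geo.gramMatrix f₁) t) :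
    Cfsg.Geo.IsMaximalIn (Cfsg.spGL n F) (Cfsg.Geo.tensorWreathSubgroup k t e P ⊓ Cfsg.spGL n F) := by
  classical
  haveI : NeZero k := ⟨by omega⟩
  set J := Cfsg.Geo.gramMatrix f₁
  have hfm : ∀ u v, fm J u v = f₁ u v := fun u v => by
    rw [fm, Matrix.toBilin'_apply]
    exact (CfsgLib.Maximal.TensorTools.bilinear_expand hf₁.bilinear u v).symm
  have hJ : Alt J := ⟨fun v => by rw [← fm_apply, hfm, hf₁.alternating], fun h0 => by
    obtain ⟨v, hv, hvJ⟩ := Matrix.exists_vecMul_eq_zero_iff.2 h0
    obtain ⟨x, hx⟩ := (hf₁.nondegenerate v hv).2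
    exact hx (by rw [← hfm, fm_apply, hvJ, zero_dotProduct])⟩
  obtain ⟨c, hc, hform⟩ := hT
  have hf : ∀ x y : Idx k t → F, Cfsg.sympForm n F ((P : Matrix _ _ F) *ᵥ (x ∘ e)) ((P : Matrix _ _ F) *ᵥ (y ∘ e)) =
      c * (x ⬝ᵥ Jt J t *ᵥ y) := fun x y => by
    rw [hform]
    congr 1
    simp only [dotProduct, Matrix.mulVec, Finset.mul_sum, Jt, pm, id_eq, J]
    exact Finset.sum_congr rfl fun a _ => Finset.sum_congr rfl fun b _ => by ring
  let φ : GL (Idx k t) F ≃* GL (Fin n ⊕ Fin n) F := (Cfsg.Geo.glReindex (F := F) e.symm).trans (MulAut.conj P)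
  have hφ : ∀ (g : GL (Idx k t) F) (x : Idx k t → F),
      (φ g : Matrix (Fin n ⊕ Fin n) (Fin n ⊕ Fin n) F) *ᵥ ((P : Matrix (Fin n ⊕ Fin n) (Fin n ⊕ Fin n) F) *ᵥ (x ∘ e)) =
        (P : Matrix (Fin n ⊕ Fin n) (Fin n ⊕ Fin n) F) *ᵥ (((g : Matrix (Idx k t) (Idx k t) F) *ᵥ x) ∘ e) := fun g x => by
    show Units.val (P * Cfsg.Geo.glReindex (F := F) e.symm g * P⁻¹) *ᵥ _ = _
    rw [GeomClasses.gl_mul_mulVec, GeomClasses.gl_mul_mulVec, GeomClasses.gl_inv_mulVec_mulVec]
    congr 1
    funext i
    simp only [Cfsg.Geo.glReindex, Matrix.mulVec, dotProduct, Function.comp_apply]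
    rw [← Equiv.sum_comp e.symm]
    simp
  have hsurj : ∀ z : Fin n ⊕ Fin n → F, ∃ x : Idx k t → F, (P : Matrix _ _ F) *ᵥ (x ∘ e) = z := fun z =>
    ⟨(((P⁻¹ : GL (Fin n ⊕ Fin n) F) : Matrix _ _ F) *ᵥ z) ∘ e.symm, by
      rw [Function.comp_assoc, Equiv.symm_comp_self, Function.comp_id, GeomClasses.gl_mulVec_inv_mulVec]⟩
  have hsp : ∀ g, φ g ∈ Cfsg.spGL n F ↔ Iso (Jt J t) (g : Matrix (Idx k t) (Idx k t) F) := fun g => by
    rw [Symp.mem_spGL]
    constructor
    · intro h
      refine Matrix.toBilin'.injective (LinearMap.ext fun x => LinearMap.ext fun y => ?_)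
      have h' := h ((P : Matrix _ _ F) *ᵥ (x ∘ e)) ((P : Matrix _ _ F) *ᵥ (y ∘ e))
      rw [hφ, hφ, hf, hf] at h'
      rw [Matrix.toBilin'_apply', Matrix.toBilin'_apply', ← mulVec_mulVec, ← mulVec_mulVec, dotProduct_mulVec x,
        vecMul_transpose]
      exact mul_left_cancel₀ hc h'
    · intro h u v
      obtain ⟨x, rfl⟩ := hsurj u
      obtain ⟨y, rfl⟩ := hsurj v
      rw [hφ, hφ, hf, hf, ← vecMul_transpose, ← dotProduct_mulVec, mulVec_mulVec, mulVec_mulVec, show _ = Jt J t from h]
  have hwr : ∀ x, φ x ∈ Cfsg.Geo.tensorWreathSubgroup k t e P ↔ x ∈ Cfsg.Geo.tensorWreathStandard k t F := fun x => by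
    constructor
    · rintro ⟨_, ⟨y, hy, rfl⟩, hyx⟩
      have : φ y = φ x := hyx
      rwa [← φ.injective this]
    · exact fun hx => ⟨_, ⟨x, hx, rfl⟩, rfl⟩
  -- the form on the tensor power
  let f₀ : (Idx k t → F) → (Idx k t → F) → F := fun x y => x ⬝ᵥ Jt J t *ᵥ y
  have hskew : ∀ x y, f₀ x y = -f₀ y x := fun x y => by
    show x ⬝ᵥ Jt J t *ᵥ y = -(y ⬝ᵥ Jt J t *ᵥ x)
    rw [dotProduct_mulVec, ← mulVec_transpose, Jt_transpose hJ, ht.neg_one_pow, neg_one_smul, neg_mulVec,
      neg_dotProduct, dotProduct_comm]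
  have hf₀ : Cfsg.Geo.IsSymplecticForm f₀ :=
    { bilinear :=
        { add_left := fun x y v => add_dotProduct _ _ _
          smul_left := fun r x v => smul_dotProduct _ _ _
          add_right := fun v x y => by simp [f₀, mulVec_add, dotProduct_add]
          smul_right := fun r v x => by simp [f₀, mulVec_smul, dotProduct_smul] }
      skew := hskew
      alternating := fun v => by
        have h := hskew v v
        rcases mul_eq_zero.1 (show (2 : F) * f₀ v v = 0 by linear_combination h) with h' | h'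
        · exact absurd h' h2
        · exact h'
      nondegenerate := fun v hv => by
        obtain ⟨u, hu⟩ := Jt_isUnit (t := t) hJ
        obtain ⟨a, ha⟩ := Function.ne_iff.1 hv
        set x := ((u⁻¹ : GL (Idx k t) F) : Matrix (Idx k t) (Idx k t) F) *ᵥ Pi.single a (1 : F)
        have hx : f₀ v x ≠ 0 := by
          show v ⬝ᵥ Jt J t *ᵥ x ≠ 0
          rw [← hu, GeomClasses.gl_mulVec_inv_mulVec]
          simpa using ha
        exact ⟨⟨x, by rw [hskew]; exact neg_ne_zero.2 hx⟩, ⟨x, hx⟩⟩ }
  have hmono : ∀ x : GL (Idx k t) F, IsMonomial x → Iso (Jt J t) (x : Matrix (Idx k t) (Idx k t) F) →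
      φ x ∈ Cfsg.Geo.tensorWreathSubgroup k t e P ⊓ Cfsg.spGL n F :=
    fun x hx hi => ⟨(hwr x).2 (mem_standard hx), (hsp x).2 hi⟩
  -- not the whole group
  have hne : ¬ Cfsg.spGL n F ≤ Cfsg.Geo.tensorWreathSubgroup k t e P := by
    intro hle
    let v : Fin k → F := Pi.single 0 1
    obtain ⟨f, hf'⟩ := hJ.exists_pair (v := v) (by simp [v])
    set g := formTv f₀ (tp fun _ : Fin t => v) 1 with hg
    have hgi : Iso (Jt J t) (g : Matrix (Idx k t) (Idx k t) F) := by
      refine Matrix.toBilin'.injective (LinearMap.ext fun x => LinearMap.ext fun y => ?_)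
      rw [Matrix.toBilin'_apply', Matrix.toBilin'_apply', ← mulVec_mulVec, ← mulVec_mulVec, dotProduct_mulVec x,
        vecMul_transpose]
      exact Symp.formTv_isometry hf₀ _ _ x y
    obtain ⟨σ, as, hσ⟩ := isMonomial_of_mem ((hwr g).1 (hle ((hsp g).2 hgi)))
    have h1 := hσ fun _ => f
    set w : Fin t → Fin k → F := fun i => (as i : Matrix (Fin k) (Fin k) F) *ᵥ f
    have hd : f₀ (tp fun _ => f) (tp fun _ : Fin t => v) = -1 := by
      rw [hskew]
      show -((tp fun _ : Fin t => v) ⬝ᵥ Jt J t *ᵥ tp fun _ => f) = -1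
      rw [Jt, pm_mulVec, dot_tp]
      simp only [dotProduct_mulVec, ← fm_apply, hf', Finset.prod_const_one]
    rw [hg, Symp.formTv_mulVec hf₀, hd, one_mul] at h1
    have hdot : ∀ θ : Fin t → Fin k → F, (∏ i, θ i ⬝ᵥ f) - ∏ i, θ i ⬝ᵥ v = ∏ i, θ i ⬝ᵥ w i := fun θ => by
      have := congrArg (tp θ ⬝ᵥ ·) h1
      simpa [dotProduct_add, dotProduct_smul, dot_tp, sub_eq_add_neg, w] using this
    have hfv : ∀ a : F, f ≠ a • v := fun a ha => by rw [ha, map_smul, hJ.self, smul_zero] at hf'; exact zero_ne_one hf'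
    have hvf : ∀ a : F, v ≠ a • f := fun a ha => by
      have h0 := congrArg (fun u => fm J u f) ha
      simp [hf', hJ.self] at h0
    obtain ⟨p, hpv, hpf⟩ := CfsgLib.TensorWreathMax.exists_perp_eq_one (x := v) (y := f) hfv
    obtain ⟨r, hrf, hrv⟩ := CfsgLib.TensorWreathMax.exists_perp_eq_one (x := f) (y := v) hvf
    let i₀ : Fin t := ⟨0, by omega⟩
    let i₁ : Fin t := ⟨1, by omega⟩
    have hp := hdot fun _ => p
    have hr := hdot fun _ => r
    have hm := hdot (Function.update (fun _ => p) i₀ r)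
    simp only [hpv, hpf, Finset.prod_const_one, Finset.prod_const, zero_pow (Finset.card_pos.2 ⟨i₀, Finset.mem_univ _⟩).ne',
      sub_zero] at hp
    simp only [hrv, hrf, Finset.prod_const_one, Finset.prod_const, zero_pow (Finset.card_pos.2 ⟨i₀, Finset.mem_univ _⟩).ne',
      zero_sub] at hr
    rw [Finset.prod_eq_zero (Finset.mem_univ i₀) (by simp [hrf]),
      Finset.prod_eq_zero (Finset.mem_univ i₁) (by simp [i₀, i₁, hpv]), sub_zero] at hm
    obtain ⟨l, -, hl⟩ := Finset.prod_eq_zero_iff.1 hm.symm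
    rcases eq_or_ne l i₀ with rfl | hl0
    · rw [Function.update_self] at hl
      rw [Finset.prod_eq_zero (Finset.mem_univ i₀) hl] at hr
      exact one_ne_zero (neg_eq_zero.1 hr)
    · rw [Function.update_of_ne hl0] at hl
      rw [Finset.prod_eq_zero (Finset.mem_univ l) hl] at hp
      exact one_ne_zero hp
  refine ⟨lt_of_le_not_ge inf_le_right fun h => hne (h.trans inf_le_left), fun M hHM hMS => ?_⟩
  let M₀ := M.comap φ.toMonoidHom
  have hin : ∀ (x : GL (Idx k t) F) (X : Matrix (Idx k t) (Idx k t) F), (x : Matrix (Idx k t) (Idx k t) F) = X →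
      IsMonomial x → Iso (Jt J t) X → In M₀ X := fun x X hxX hx hi => ⟨x, hHM (hmono x hx (hxX ▸ hi)), hxX⟩
  have hset : Setting J M₀ := by
    refine ⟨fun g hg => (hsp g).1 (hMS hg), fun i v r => ?_⟩
    rw [← map_smul, ← slot_one i, ← map_add]
    have hdet : (1 + r • Xm J v).det ≠ 0 := fun h0 => by
      have h := congrArg Matrix.det (root_mul hJ v r)
      rw [det_mul, h0, zero_mul, det_one] at h
      exact zero_ne_one h
    let u : GL (Idx k t) F := ⟨slot i (1 + r • Xm J v), slot i (1 + (-r) • Xm J v),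
      by rw [slot_mul, root_mul hJ, slot_one],
      by rw [slot_mul]; conv_lhs => rw [show r = - -r from (neg_neg r).symm]
         rw [neg_neg, ← slot_one i]; congr 1; simpa using root_mul hJ v (-r)⟩
    exact hin u _ rfl (isMonomial_slot hdet i rfl) (iso_slot (iso_root hJ v r) i)
  have hperm : ∀ j l : Fin t, In M₀ (permM (Equiv.swap j l)) := fun j l => by
    let u : GL (Idx k t) F := ⟨permM (Equiv.swap j l), permM (Equiv.swap j l),
      CfsgLib.TensorWreathMax.permM_mul_self (Equiv.swap_mul_self j l),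
      CfsgLib.TensorWreathMax.permM_mul_self (Equiv.swap_mul_self j l)⟩
    exact hin u _ rfl ⟨Equiv.swap j l, fun _ => 1, fun xs => by
      show (permM (Equiv.swap j l) : Matrix (Idx k t) (Idx k t) F) *ᵥ tp xs = _
      rw [permM_mulVec]; simp⟩ (iso_permM j l)
  by_cases hs : Scal J M₀
  · refine Or.inl (le_antisymm (fun y hy => ⟨?_, hMS hy⟩) hHM)
    rw [← φ.apply_symm_apply y]
    refine (hwr _).2 ?_
    have hyM : φ.symm y ∈ M₀ := by simpa [M₀] using hy
    exact mem_standard (hrig M₀ hset hs _ (hset.iso _ hyM).sim (Conj.of_mem hset hyM))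
  refine Or.inr (le_antisymm hMS fun y hy => ?_)
  have hW : Whole J M₀ := ⟨hJ, h2, hset⟩
  unfold Scal at hs
  push Not at hs
  obtain ⟨i, v, hv, Y, hY, hin', hns⟩ := hs
  have hpat := hW.pat_univ (i := i) hperm ht (hW.coef_of_one hv hY hin') hns
  have hcen : ∀ xs : Fin t → Fin k → F, tp xs ∈ Symp.centres f₀ M₀ := fun xs r => by
    obtain ⟨z, hz, hze⟩ := hpat xs (-r)
    rw [pat_univ_eq] at hze
    convert hz
    refine GeomClasses.gl_ext fun x => ?_
    rw [Symp.formTv_mulVec hf₀, hze, add_mulVec, one_mulVec, smul_mulVec, vecMulVec_mulVec, op_smul_eq_smul, smul_smul,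
      ← dotProduct_mulVec, hskew x]
    show x + (r * -f₀ (tp xs) x) • tp xs = x + (-r * f₀ (tp xs) x) • tp xs
    rw [mul_neg, neg_mul]
  have hpure : ∀ a : Idx k t, ∃ α : Fin t → Fin k → F, (∀ l, α l ≠ 0) ∧
      ∀ xs : Fin t → Fin k → F, f₀ (Pi.single a 1) (tp xs) = ∏ l, α l ⬝ᵥ xs l := fun a =>
    ⟨fun l => Pi.single (a l) 1 ᵥ* J, fun l => hJ.vecMul_ne_zero (by simp), fun xs => by
      show Pi.single a 1 ⬝ᵥ Jt J t *ᵥ tp xs = _
      rw [← tp_single (F := F) a, Jt, pm_mulVec, dot_tp]
      exact Finset.prod_congr rfl fun l _ => dotProduct_mulVec _ _ _⟩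
  have h1 : φ.symm y ∈ M₀ := Symp.isometry_mem_of_formTv_mem hf₀ (fun u r => centres_all h2 hf₀ hcen hpure u r)
    (fun u w => by
      have h := (hsp (φ.symm y)).1 (by rw [MulEquiv.apply_symm_apply]; exact hy)
      show _ ⬝ᵥ _ = _
      rw [← vecMul_transpose, ← dotProduct_mulVec, mulVec_mulVec, mulVec_mulVec, show _ = Jt J t from h])
  simpa [M₀] using h1

end CfsgLib.TensorSympWreath
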