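import Mathlib

/-!
Two square zero matrices: the central element `A B + B A` and the expansion of the algebra they generate.
-/

set_option autoImplicit false
set_option linter.unusedSectionVars false
set_option linter.unusedSimpArgs false

namespace CfsgLib.TensorSympWreath

open Matrix Polynomial

variable {F : Type*} [Field F] {ι : Type} [Fintype ι] [DecidableEq ι]

/-- Two square zero matrices. -/
structure SqPair (F : Type*) [Field F] (ι : Type) [Fintype ι] [DecidableEq ι] where
  A : Matrix ι ι F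
  B : Matrix ι ι F
  hA : A * A = 0
  hB : B * B = 0

namespace SqPair

variable (p : SqPair F ι)

/-- The central element. -/
def C : Matrix ι ι F := p.A * p.B + p.B * p.A

/-- A polynomial in the central element. -/
noncomputable def P : F[X] →ₐ[F] Matrix ι ι F := Polynomial.aeval p.C

theorem BA : p.B * p.A = p.C - p.A * p.B := by rw [C]; abel

theorem ABA : p.A * (p.B * p.A) = p.C * p.A := by
  rw [C, add_mul, mul_assoc p.B, p.hA, mul_zero, add_zero, mul_assoc]

theorem BAB : p.B * (p.A * p.B) = p.C * p.B := by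
  rw [C, add_mul, mul_assoc p.A, p.hB, mul_zero, zero_add, mul_assoc]

theorem commute_A : Commute p.C p.A := by
  show p.C * p.A = p.A * p.C
  rw [C, add_mul, mul_add, mul_assoc p.B, p.hA, mul_zero, add_zero, ← mul_assoc p.A p.A, p.hA, zero_mul,
    zero_add, mul_assoc]

theorem commute_B : Commute p.C p.B := by
  show p.C * p.B = p.B * p.C
  rw [C, add_mul, mul_add, mul_assoc p.A, p.hB, mul_zero, zero_add, ← mul_assoc p.B p.B, p.hB, zero_mul,
    add_zero, mul_assoc]

theorem P_comm {M : Matrix ι ι F} (h : Commute p.C M) (a : F[X]) : Commute (p.P a) M := by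
  induction a using Polynomial.induction_on' with
  | add a b ha hb => rw [map_add]; exact ha.add_left hb
  | monomial n c =>
    rw [P, aeval_monomial]
    exact (Algebra.commute_algebraMap_left c M).mul_left (h.pow_left n)

theorem P_A (a : F[X]) : Commute (p.P a) p.A := p.P_comm p.commute_A a

theorem P_B (a : F[X]) : Commute (p.P a) p.B := p.P_comm p.commute_B a

theorem P_X : p.P X = p.C := aeval_X _

theorem P_P (a b : F[X]) : Commute (p.P a) (p.P b) := by
  show p.P a * p.P b = p.P b * p.P a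
  rw [← map_mul, mul_comm, map_mul]

/-- The expansion in `1, A, B, A B`. -/
noncomputable def ev (a b c d : F[X]) : Matrix ι ι F :=
  p.P a + p.P b * p.A + p.P c * p.B + p.P d * (p.A * p.B)

theorem ev_A (a b c d : F[X]) :
    p.ev a b c d * p.A = p.P (a + X * d) * p.A + p.P c * (p.B * p.A) := by
  rw [ev, map_add, map_mul, P_X]
  simp only [add_mul, mul_assoc, p.hA, mul_zero, add_zero]
  rw [p.ABA, ← mul_assoc (p.P d), ← mul_assoc p.C, (p.P_comm (Commute.refl p.C) d).eq]
  abel

theorem A_ev (a b c d : F[X]) : p.A * p.ev a b c d = p.P a * p.A + p.P c * (p.A * p.B) := by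
  simp only [ev, mul_add, ← mul_assoc, ← (p.P_A _).eq]
  simp only [mul_assoc, p.hA, mul_zero, add_zero]
  simp [← mul_assoc p.A p.A, p.hA]

theorem ev_B (a b c d : F[X]) : p.ev a b c d * p.B = p.P a * p.B + p.P b * (p.A * p.B) := by
  simp only [ev, add_mul, mul_assoc, p.hB, mul_zero, add_zero]

theorem P_ev (q a b c d : F[X]) : p.P q * p.ev a b c d = p.ev (q * a) (q * b) (q * c) (q * d) := by
  simp only [ev, map_mul, mul_add, mul_assoc]

theorem ev_add (a b c d a' b' c' d' : F[X]) :
    p.ev a b c d + p.ev a' b' c' d' = p.ev (a + a') (b + b') (c + c') (d + d') := by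
  simp only [ev, map_add, add_mul]; abel

theorem ev_P_comm (q a b c d : F[X]) : p.ev a b c d * p.P q = p.P q * p.ev a b c d := by
  refine (((Commute.add_right ?_ ?_).add_right ?_).add_right ?_).symm.eq
  · exact p.P_P q a
  · exact (p.P_P q b).mul_right (p.P_A q)
  · exact (p.P_P q c).mul_right (p.P_B q)
  · exact (p.P_P q d).mul_right ((p.P_A q).mul_right (p.P_B q))

theorem ev_mul_A (a b c d : F[X]) : p.ev a b c d * p.A = p.ev (X * c) (a + X * d) 0 (-c) := by
  rw [p.ev_A, p.BA, mul_sub, ev, map_mul, P_X, map_neg, map_zero, zero_mul, add_zero, neg_mul,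
    (p.P_comm (Commute.refl p.C) c).eq]
  abel

theorem ev_mul_B (a b c d : F[X]) : p.ev a b c d * p.B = p.ev 0 0 a b := by
  rw [p.ev_B, ev, map_zero, zero_mul, zero_add, zero_add]

theorem ev_mul (a b c d a' b' c' d' : F[X]) :
    p.ev a b c d * p.ev a' b' c' d' = p.ev (a * a' + X * (c * b')) (a * b' + b * a' + X * (d * b'))
      (a * c' + c * a' + X * (c * d')) (a * d' + d * a' + (b * c' - c * b') + X * (d * d')) := by
  conv_lhs => arg 2; rw [ev]
  rw [mul_add, mul_add, mul_add, ← mul_assoc, ← mul_assoc, ← mul_assoc, p.ev_P_comm, p.ev_P_comm, p.ev_P_comm,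
    p.ev_P_comm, mul_assoc (p.P b'), mul_assoc (p.P c'), mul_assoc (p.P d'), ← mul_assoc (p.ev a b c d),
    p.ev_mul_A, p.ev_mul_B, p.ev_mul_B, p.P_ev, p.P_ev, p.P_ev, p.P_ev, p.ev_add, p.ev_add, p.ev_add]
  congr 1 <;> ring

theorem ev_one : p.ev 1 0 0 0 = 1 := by simp [ev]

theorem ev_sub_one (a b c d : F[X]) : p.ev a b c d - 1 = p.ev (a - 1) b c d := by
  simp only [ev, map_sub, map_one]; abel

/-- The expansion with determinant one. -/
def Exp (g : Matrix ι ι F) : Prop :=
  ∃ a b c d : F[X], g = p.ev a b c d ∧ a * a + X * (a * d - b * c) = 1 ∧ a.eval 0 = 1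

theorem Exp.one : p.Exp 1 := ⟨1, 0, 0, 0, p.ev_one.symm, by ring, by simp⟩

theorem exp_A (c : F) : p.Exp (1 + c • p.A) :=
  ⟨1, Polynomial.C c, 0, 0, by simp [ev, P, Algebra.smul_def], by ring, by simp⟩

theorem exp_B (c : F) : p.Exp (1 + c • p.B) :=
  ⟨1, 0, Polynomial.C c, 0, by simp [ev, P, Algebra.smul_def], by ring, by simp⟩

theorem Exp.mul {g h : Matrix ι ι F} (hg : p.Exp g) (hh : p.Exp h) : p.Exp (g * h) := by
  obtain ⟨a, b, c, d, rfl, hg, hg0⟩ := hg
  obtain ⟨a', b', c', d', rfl, hh, hh0⟩ := hh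
  refine ⟨_, _, _, _, p.ev_mul a b c d a' b' c' d', ?_, by simp [hg0, hh0]⟩
  linear_combination (a' * a' + X * (a' * d' - b' * c')) * hg + hh

theorem Exp.inv {g : GL ι F} (hg : p.Exp (g : Matrix ι ι F)) : p.Exp ((g⁻¹ : GL ι F) : Matrix ι ι F) := by
  obtain ⟨a, b, c, d, he, h, h0⟩ := hg
  refine ⟨a + X * d, -b, -c, -d, Units.inv_eq_of_mul_eq_one_right ?_, by linear_combination h, by simp [h0]⟩
  rw [he, p.ev_mul, ← p.ev_one]
  congr 1
  · linear_combination h
  all_goals ring

/-- If the central element is nilpotent all these operators are unipotent. -/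
theorem Exp.nilpotent (hC : IsNilpotent p.C) {g : Matrix ι ι F} (hg : p.Exp g) : IsNilpotent (g - 1) := by
  obtain ⟨a, b, c, d, rfl, -, h0⟩ := hg
  obtain ⟨a', ha'⟩ : X ∣ a - 1 := Polynomial.X_dvd_iff.2 (by simp [Polynomial.coeff_zero_eq_eval_zero, h0])
  obtain ⟨n, hn⟩ := hC
  refine ⟨2 * n, ?_⟩
  rw [pow_mul, pow_two, p.ev_sub_one, ha', p.ev_mul]
  have e : ∀ u v w z : F[X], p.ev (X * u) (X * v) (X * w) (X * z) = p.C * p.ev u v w z := fun u v w z => by
    simp only [ev, map_mul, P_X, mul_add, mul_assoc]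
  rw [show X * a' * (X * a') + X * (c * b) = X * (X * (a' * a') + c * b) by ring,
    show X * a' * b + b * (X * a') + X * (d * b) = X * (2 * (a' * b) + d * b) by ring,
    show X * a' * c + c * (X * a') + X * (c * d) = X * (2 * (a' * c) + c * d) by ring,
    show X * a' * d + d * (X * a') + (b * c - c * b) + X * (d * d) = X * (2 * (a' * d) + d * d) by ring, e,
    Commute.mul_pow ?_, hn, zero_mul]
  simp only [ev]
  refine ((Commute.add_right ?_ ?_).add_right ?_).add_right ?_
  · exact (p.P_comm (Commute.refl p.C) _).symm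
  · exact (p.P_comm (Commute.refl p.C) _).symm.mul_right p.commute_A
  · exact (p.P_comm (Commute.refl p.C) _).symm.mul_right p.commute_B
  · exact (p.P_comm (Commute.refl p.C) _).symm.mul_right (p.commute_A.mul_right p.commute_B)

end SqPair

end CfsgLib.TensorSympWreath
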