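import Cfsg.Agent.Lib.TensorSympWreath.Pair
import Cfsg.Agent.Lib.RootGroups.SimpleExtensionFinite

/-!
A residue of the central element of a pair: the representation in `SL₂` over a residue field, and lifts of its
diagonal elements.
-/

set_option autoImplicit false
set_option linter.unusedSectionVars false
set_option linter.unusedSimpArgs false
set_option linter.style.haveILetI false
set_option linter.unnecessarySeqFocus false

namespace CfsgLib.TensorSympWreath

open Matrix Polynomial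
open CfsgLib.RootGroups.SimpleExt (sl_ext gens top_of_finite)

attribute [-simp] Matrix.coe_units_inv

/-- A lift normalising a chosen Sylow subgroup of the preimage of a `p`-subgroup. -/
theorem exists_lift {G L : Type*} [Group G] [Group L] [Finite G] {p : ℕ} [Fact p.Prime] (π : G →* L)
    (U : Subgroup L) {x : G} (hx : π x ∈ U) (hxp : IsPGroup p (Subgroup.zpowers x)) {h₀ : G}
    (hU : ∀ u, π h₀ * u * (π h₀)⁻¹ ∈ U ↔ u ∈ U) :
    ∃ (S : Subgroup G) (h : G), IsPGroup p S ∧ x ∈ S ∧ h * x * h⁻¹ ∈ S ∧ ∃ u ∈ U, π h = u * π h₀ := by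
  let G₁ := U.comap π
  have hle : Subgroup.zpowers x ≤ G₁ := Subgroup.zpowers_le.2 hx
  obtain ⟨S, hS⟩ := (hxp.comap_of_injective G₁.subtype (Subgroup.subtype_injective _)).exists_le_sylow
  have hxS : (⟨x, hx⟩ : G₁) ∈ (S : Subgroup G₁) := hS (Subgroup.mem_zpowers x)
  have hmem : ∀ g : G₁, h₀ * g * h₀⁻¹ ∈ G₁ := fun g => by
    show π (h₀ * g * h₀⁻¹) ∈ U
    rw [map_mul, map_mul, map_inv]
    exact (hU _).2 g.2
  let c : G₁ →* G₁ :=
    { toFun := fun g => ⟨h₀ * g * h₀⁻¹, hmem g⟩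
      map_one' := Subtype.ext (by simp)
      map_mul' := fun a b => Subtype.ext (by simp [mul_assoc]) }
  obtain ⟨T, hT⟩ := (S.2.map c).exists_le_sylow
  obtain ⟨n, hn⟩ := MulAction.exists_smul_eq G₁ T S
  refine ⟨(S : Subgroup G₁).map G₁.subtype, n * h₀, S.2.map _, ⟨_, hxS, rfl⟩, ?_, π n, n.2, map_mul π _ _⟩
  refine ⟨n * c ⟨x, hx⟩ * n⁻¹, ?_, ?_⟩
  · rw [← hn]
    exact Subgroup.mem_map.2 ⟨_, hT (Subgroup.mem_map_of_mem c hxS), rfl⟩
  · show ((n : G) * (h₀ * x * h₀⁻¹) * (n : G)⁻¹) = _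
    group

variable {F : Type*} [Field F] {ι : Type} [Fintype ι] [DecidableEq ι]

namespace SqPair

variable (p : SqPair F ι)

/-- An idempotent polynomial for an irreducible polynomial. -/
theorem exists_idem {f : F[X]} (hf : Irreducible f) :
    ∃ E : F[X], p.P E * p.P E = p.P E ∧ f ∣ 1 - E ∧ (∀ q, ¬ f ∣ q → ∃ r, p.P r * p.P q * p.P E = p.P E) ∧
      IsNilpotent (p.P (f * E)) := by
  have hm0 : minpoly F p.C ≠ 0 := minpoly.ne_zero (Algebra.IsIntegral.isIntegral _)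
  obtain ⟨n, g, hg, hn⟩ := WfDvdMonoid.max_power_factor (mul_ne_zero hf.ne_zero hm0) hf
  have hn1 : n ≠ 0 := by
    rintro rfl
    rw [pow_zero, one_mul] at hn
    exact hg (hn ▸ Dvd.intro _ rfl)
  have hP : p.P (f * minpoly F p.C) = 0 := by rw [map_mul, P, minpoly.aeval, mul_zero]
  have hfg : IsCoprime f g := hf.coprime_iff_not_dvd.2 hg
  obtain ⟨s, t, hst⟩ := hfg.pow_left (m := n)
  have hzero : ∀ q, p.P (q * (f ^ n * g)) = 0 := fun q => by rw [← hn, map_mul, hP, mul_zero]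
  refine ⟨t * g, ?_, ?_, fun q hq => ?_, n, ?_⟩
  · rw [← map_mul, ← sub_eq_zero, ← map_sub]
    rw [show t * g * (t * g) - t * g = -(s * t) * (f ^ n * g) by linear_combination t * g * hst]
    exact hzero _
  · rw [show 1 - t * g = s * f ^ n by linear_combination -hst]
    exact dvd_mul_of_dvd_right (dvd_pow_self f hn1) s
  · obtain ⟨r, r', hr⟩ := (hf.coprime_iff_not_dvd.2 hq).symm.pow_right (n := n)
    refine ⟨r, ?_⟩
    rw [← map_mul, ← map_mul, ← sub_eq_zero, ← map_sub,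
      show r * q * (t * g) - t * g = -(r' * t) * (f ^ n * g) by linear_combination t * g * hr]
    exact hzero _
  · rw [← map_pow, show (f * (t * g)) ^ n = t ^ n * g ^ (n - 1) * (f ^ n * g) by
      rw [mul_pow, mul_pow, ← Nat.succ_pred_eq_of_ne_zero hn1]; simp [pow_succ]; ring]
    exact hzero _

/-- A residue of the central element. -/
structure Res where
  f : F[X]
  irr : Irreducible f
  notX : ¬ f ∣ X
  u : ι → F
  u0 : u ≠ 0
  Au : p.A *ᵥ u = 0
  fu : p.P f *ᵥ u = 0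

theorem exists_res_of {f : F[X]} (hf : Irreducible f) (hfX : ¬ f ∣ X) (hfm : f ∣ minpoly F p.C) :
    ∃ R : p.Res, R.f = f := by
  classical
  have hint : IsIntegral F p.C := Algebra.IsIntegral.isIntegral _
  have hm0 := minpoly.ne_zero hint
  obtain ⟨r, hr⟩ := hfm
  have hr0 : r ≠ 0 := fun h0 => hm0 (by rw [hr, h0, mul_zero])
  have hPr : p.P r ≠ 0 := fun h0 => by
    have h1 := minpoly.degree_le_of_ne_zero F p.C hr0 h0
    rw [hr, degree_mul, degree_eq_natDegree hf.ne_zero, degree_eq_natDegree hr0] at h1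
    have h2 := hf.natDegree_pos
    norm_cast at h1
    omega
  obtain ⟨w, hw⟩ : ∃ w, p.P r *ᵥ w ≠ 0 := by
    by_contra hcon
    push Not at hcon
    exact hPr (Matrix.ext_of_mulVec_single fun i => by rw [hcon, zero_mulVec])
  set w₀ := p.P r *ᵥ w
  have hfw : p.P f *ᵥ w₀ = 0 := by
    rw [Matrix.mulVec_mulVec, ← map_mul, ← hr, P, minpoly.aeval, zero_mulVec]
  have hcomm : ∀ M, Commute (p.P f) M → p.P f *ᵥ (M *ᵥ w₀) = 0 := fun M hM => by
    rw [Matrix.mulVec_mulVec, hM.eq, ← Matrix.mulVec_mulVec, hfw, Matrix.mulVec_zero]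
  by_cases hA : p.A *ᵥ w₀ = 0
  swap
  · exact ⟨⟨f, hf, hfX, p.A *ᵥ w₀, hA, by rw [Matrix.mulVec_mulVec, p.hA, zero_mulVec],
      hcomm _ (p.P_A f)⟩, rfl⟩
  refine ⟨⟨f, hf, hfX, p.C *ᵥ w₀, fun h0 => hw ?_, ?_, hcomm _ (p.P_comm (Commute.refl _) f)⟩, rfl⟩
  · obtain ⟨x, y, hxy⟩ := (hf.coprime_iff_not_dvd.2 hfX : IsCoprime f X)
    have h1 := congrArg (fun q => p.P q *ᵥ w₀) hxy
    simp only [map_add, map_mul, add_mulVec, ← Matrix.mulVec_mulVec, hfw, P_X, h0, Matrix.mulVec_zero, add_zero,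
      map_one, one_mulVec] at h1
    exact h1.symm
  · rw [Matrix.mulVec_mulVec, ← p.commute_A.eq, ← Matrix.mulVec_mulVec, hA, Matrix.mulVec_zero]

theorem exists_res (h : ¬ IsNilpotent p.C) : Nonempty p.Res := by
  classical
  have hm0 := minpoly.ne_zero (Algebra.IsIntegral.isIntegral (R := F) p.C)
  obtain ⟨n, g, hg, hn⟩ := WfDvdMonoid.max_power_factor hm0 Polynomial.irreducible_X
  have hg0 : g ≠ 0 := fun h0 => hm0 (by rw [hn, h0, mul_zero])
  have hgu : ¬ IsUnit g := fun hu => by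
    refine h ⟨n, ?_⟩
    have h1 := minpoly.aeval F p.C
    rw [hn, map_mul, map_pow, aeval_X] at h1
    exact (hu.map (Polynomial.aeval p.C)).mul_left_eq_zero.1 h1
  obtain ⟨f, hf, hfg⟩ := WfDvdMonoid.exists_irreducible_factor hgu hg0
  obtain ⟨R, -⟩ := p.exists_res_of hf (fun hd => hg ((hf.dvd_symm Polynomial.irreducible_X hd).trans hfg))
    (hn ▸ dvd_mul_of_dvd_right hfg _)
  exact ⟨R⟩

variable {p}

namespace Res

variable (R : p.Res)

theorem ann {q : F[X]} (h : p.P q *ᵥ R.u = 0) : R.f ∣ q := by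
  by_contra hq
  obtain ⟨x, y, hxy⟩ := R.irr.coprime_iff_not_dvd.2 hq
  have h1 := congrArg (fun q => p.P q *ᵥ R.u) hxy
  simp only [map_add, map_mul, add_mulVec, ← Matrix.mulVec_mulVec, R.fu, h, Matrix.mulVec_zero, add_zero, map_one,
    one_mulVec] at h1
  exact R.u0 h1.symm

theorem ann_mul {q : F[X]} (h : R.f ∣ q * X) : R.f ∣ q :=
  (R.irr.prime.dvd_or_dvd h).resolve_right R.notX

theorem P_mulVec_zero {q : F[X]} (hq : R.f ∣ q) : p.P q *ᵥ R.u = 0 := by
  obtain ⟨r, rfl⟩ := hq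
  rw [mul_comm, map_mul, ← Matrix.mulVec_mulVec, R.fu, Matrix.mulVec_zero]

theorem eq_zero {a b c d : F[X]} (h : p.ev a b c d = 0) : R.f ∣ a ∧ R.f ∣ b ∧ R.f ∣ c ∧ R.f ∣ d := by
  have hA2 : ∀ v, p.A *ᵥ (p.A *ᵥ v) = 0 := fun v => by rw [Matrix.mulVec_mulVec, p.hA, zero_mulVec]
  have hABu : p.A *ᵥ (p.B *ᵥ R.u) = p.C *ᵥ R.u := by
    rw [C, add_mulVec, ← Matrix.mulVec_mulVec _ p.B, R.Au, Matrix.mulVec_zero, add_zero, Matrix.mulVec_mulVec]
  have hAP : ∀ q v, p.A *ᵥ (p.P q *ᵥ v) = p.P q *ᵥ (p.A *ᵥ v) := fun q v => by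
    rw [Matrix.mulVec_mulVec, ← (p.P_A q).eq, Matrix.mulVec_mulVec]
  have hACu : p.A *ᵥ (p.C *ᵥ R.u) = 0 := by
    rw [Matrix.mulVec_mulVec, ← p.commute_A.eq, ← Matrix.mulVec_mulVec, R.Au, Matrix.mulVec_zero]
  have h1 := congrArg (· *ᵥ R.u) h
  have h2 := congrArg (fun M => p.A *ᵥ (M *ᵥ R.u)) h
  simp only [ev, add_mulVec, ← Matrix.mulVec_mulVec, R.Au, Matrix.mulVec_zero, add_zero, hABu, zero_mulVec,
    Matrix.mulVec_add, hAP, hA2, hACu, zero_add] at h1 h2
  rw [Matrix.mulVec_mulVec, ← P_X (p := p), ← map_mul] at h2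
  have hc := R.ann_mul (R.ann h2)
  have hBz : p.P c *ᵥ (p.B *ᵥ R.u) = 0 := by
    rw [Matrix.mulVec_mulVec, (p.P_B c).eq, ← Matrix.mulVec_mulVec, R.P_mulVec_zero hc, Matrix.mulVec_zero]
  rw [hBz, add_zero, Matrix.mulVec_mulVec, ← P_X (p := p), ← map_mul, ← add_mulVec, ← map_add] at h1
  have had := R.ann h1
  have h3 := congrArg (fun M => p.A *ᵥ (M *ᵥ (p.B *ᵥ R.u))) h
  simp only [ev, add_mulVec, ← Matrix.mulVec_mulVec, zero_mulVec, Matrix.mulVec_add, hAP, hA2, Matrix.mulVec_zero,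
    show p.B *ᵥ (p.B *ᵥ R.u) = 0 by rw [Matrix.mulVec_mulVec, p.hB, zero_mulVec], add_zero, hABu, hACu] at h3
  rw [Matrix.mulVec_mulVec, ← P_X (p := p), ← map_mul] at h3
  have ha := R.ann_mul (R.ann h3)
  have hd := R.ann_mul (show R.f ∣ d * X by simpa using dvd_sub had ha)
  have h4 := congrArg (· *ᵥ (p.B *ᵥ R.u)) h
  simp only [ev, add_mulVec, ← Matrix.mulVec_mulVec, zero_mulVec,
    show p.B *ᵥ (p.B *ᵥ R.u) = 0 by rw [Matrix.mulVec_mulVec, p.hB, zero_mulVec], Matrix.mulVec_zero, add_zero,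
    hABu] at h4
  rw [show p.P a *ᵥ (p.B *ᵥ R.u) = 0 by
    rw [Matrix.mulVec_mulVec, (p.P_B a).eq, ← Matrix.mulVec_mulVec, R.P_mulVec_zero ha, Matrix.mulVec_zero],
    zero_add, Matrix.mulVec_mulVec, ← P_X (p := p), ← map_mul] at h4
  exact ⟨ha, R.ann_mul (R.ann h4), hc, hd⟩

/-- The residue field. -/
abbrev K := AdjoinRoot R.f

instance : Fact (Irreducible R.f) := ⟨R.irr⟩

/-- The residue map. -/
noncomputable abbrev res : F[X] →+* R.K := AdjoinRoot.mk R.f

theorem res_eq {a b : F[X]} (h : R.f ∣ a - b) : R.res a = R.res b := AdjoinRoot.mk_eq_mk.2 h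

end Res

/-- The group generated by the two root groups. -/
def Gp (p : SqPair F ι) : Subgroup (GL ι F) :=
  Subgroup.closure {g | ∃ c : F, (g : Matrix ι ι F) = 1 + c • p.A ∨ (g : Matrix ι ι F) = 1 + c • p.B}

theorem Gp.exp {g : GL ι F} (hg : g ∈ p.Gp) : p.Exp (g : Matrix ι ι F) := by
  induction hg using Subgroup.closure_induction with
  | mem g hg =>
    obtain ⟨c, h | h⟩ := hg <;> rw [h]
    exacts [p.exp_A c, p.exp_B c]
  | one => rw [Units.val_one]; exact Exp.one p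
  | mul g h _ _ hg hh => rw [Units.val_mul]; exact hg.mul p hh
  | inv g _ hg => exact hg.inv p

/-- `1 + c A`. -/
def uA (p : SqPair F ι) (c : F) : GL ι F :=
  ⟨1 + c • p.A, 1 - c • p.A,
    by rw [add_mul, one_mul, mul_sub, mul_one, smul_mul_smul_comm, p.hA, smul_zero]; abel,
    by rw [sub_mul, one_mul, mul_add, mul_one, smul_mul_smul_comm, p.hA, smul_zero]; abel⟩

/-- `1 + c B`. -/
def uB (p : SqPair F ι) (c : F) : GL ι F :=
  ⟨1 + c • p.B, 1 - c • p.B,
    by rw [add_mul, one_mul, mul_sub, mul_one, smul_mul_smul_comm, p.hB, smul_zero]; abel,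
    by rw [sub_mul, one_mul, mul_add, mul_one, smul_mul_smul_comm, p.hB, smul_zero]; abel⟩

theorem uA_mem (p : SqPair F ι) (c : F) : p.uA c ∈ p.Gp := Subgroup.subset_closure ⟨c, Or.inl rfl⟩

theorem uB_mem (p : SqPair F ι) (c : F) : p.uB c ∈ p.Gp := Subgroup.subset_closure ⟨c, Or.inr rfl⟩

theorem Gp.le {M : Subgroup (GL ι F)} (hA : ∀ c, p.uA c ∈ M) (hB : ∀ c, p.uB c ∈ M) : p.Gp ≤ M := by
  refine (Subgroup.closure_le M).2 ?_
  rintro g ⟨c, h | h⟩
  · exact (show g = p.uA c from Units.ext h) ▸ hA c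
  · exact (show g = p.uB c from Units.ext h) ▸ hB c

namespace Res

variable (R : p.Res)

/-- The matrix of an expansion at the residue. -/
noncomputable def mat (a b c d : F[X]) : SpecialLinearGroup (Fin 2) R.K → Prop := fun g =>
  g.1 = !![R.res (a + X * d), R.res b; R.res (X * c), R.res a]

theorem exists_mat {g : Matrix ι ι F} (hg : p.Exp g) :
    ∃ (m : SpecialLinearGroup (Fin 2) R.K) (a b c d : F[X]), g = p.ev a b c d ∧ R.mat a b c d m := by
  obtain ⟨a, b, c, d, he, h, -⟩ := hg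
  refine ⟨⟨_, ?_⟩, a, b, c, d, he, rfl⟩
  rw [Matrix.det_fin_two_of, ← map_mul, ← map_mul, ← map_sub, show (a + X * d) * a - b * (X * c) = 1 by
    linear_combination h, map_one]

/-- The representation at the residue. -/
noncomputable def rep : p.Gp → SpecialLinearGroup (Fin 2) R.K := fun g => (R.exists_mat (Gp.exp g.2)).choose

theorem rep_eq {g : p.Gp} {a b c d : F[X]} (h : ((g : GL ι F) : Matrix ι ι F) = p.ev a b c d) :
    (R.rep g).1 = !![R.res (a + X * d), R.res b; R.res (X * c), R.res a] := by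
  obtain ⟨a', b', c', d', he, hm⟩ := (R.exists_mat (Gp.exp g.2)).choose_spec
  rw [show (R.rep g).1 = _ from hm]
  have h1 : p.ev (a' - a) (b' - b) (c' - c) (d' - d) = 0 := by
    rw [he] at h
    rw [← sub_eq_zero] at h
    rw [← h]
    simp only [ev, map_sub, sub_mul]
    abel
  obtain ⟨ha, hb, hc, hd⟩ := R.eq_zero h1
  rw [R.res_eq ha, R.res_eq hb, map_add, map_add, R.res_eq ha, map_mul, map_mul, map_mul, map_mul,
    R.res_eq hd, R.res_eq hc]

/-- The representation as a homomorphism. -/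
noncomputable def π : p.Gp →* SpecialLinearGroup (Fin 2) R.K :=
  MonoidHom.mk' R.rep fun g h => by
    obtain ⟨a, b, c, d, hg, -⟩ := Gp.exp g.2
    obtain ⟨a', b', c', d', hh, -⟩ := Gp.exp h.2
    have hgh : (((g * h : p.Gp) : GL ι F) : Matrix ι ι F) = p.ev (a * a' + X * (c * b'))
        (a * b' + b * a' + X * (d * b')) (a * c' + c * a' + X * (c * d'))
        (a * d' + d * a' + (b * c' - c * b') + X * (d * d')) := by
      rw [Subgroup.coe_mul, Units.val_mul, hg, hh]; exact p.ev_mul a b c d a' b' c' d'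
    refine Subtype.ext ?_
    rw [R.rep_eq hgh]
    show _ = (R.rep g).1 * (R.rep h).1
    rw [R.rep_eq hg, R.rep_eq hh, Matrix.mul_fin_two]
    ext i j
    fin_cases i <;> fin_cases j <;> simp [map_add, map_mul, map_sub] <;> ring

theorem π_eq {g : p.Gp} {a b c d : F[X]} (h : ((g : GL ι F) : Matrix ι ι F) = p.ev a b c d) :
    (R.π g).1 = !![R.res (a + X * d), R.res b; R.res (X * c), R.res a] := R.rep_eq h

theorem π_uA (c : F) : (R.π ⟨_, p.uA_mem c⟩).1 = !![1, algebraMap F R.K c; 0, 1] := by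
  rw [R.π_eq (a := 1) (b := Polynomial.C c) (c := 0) (d := 0) (by
    show 1 + c • p.A = _
    simp [ev, P, Algebra.smul_def])]
  simp only [mul_zero, add_zero, map_one, map_zero, AdjoinRoot.mk_C]
  rfl

theorem π_uB (c : F) : (R.π ⟨_, p.uB_mem c⟩).1 = !![1, 0; algebraMap F R.K c * AdjoinRoot.root R.f, 1] := by
  rw [R.π_eq (a := 1) (b := 0) (c := Polynomial.C c) (d := 0) (by
    show 1 + c • p.B = _
    simp [ev, P, Algebra.smul_def])]
  simp only [mul_zero, add_zero, map_one, map_zero, map_mul, AdjoinRoot.mk_C, AdjoinRoot.mk_X]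
  rw [mul_comm]
  rfl

theorem root_ne_zero : (AdjoinRoot.root R.f : R.K) ≠ 0 := fun h => by
  rw [← AdjoinRoot.mk_X, AdjoinRoot.mk_eq_zero] at h
  exact R.notX h

theorem finite [Finite F] : Finite R.K :=
  haveI := (AdjoinRoot.powerBasis R.irr.ne_zero).finite
  Module.finite_of_finite F

theorem π_surjective [Finite F] (h2 : (2 : F) ≠ 0) (h3 : Nat.card F ≠ 3) : Function.Surjective R.π := by
  rw [← MonoidHom.range_eq_top, eq_top_iff]
  have htop := top_of_finite (AdjoinRoot.powerBasis R.irr.ne_zero) h2 h3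
    (by rw [AdjoinRoot.powerBasis_gen]; exact R.root_ne_zero)
  rw [AdjoinRoot.powerBasis_gen] at htop
  rw [← htop, gens, Subgroup.closure_le]
  rintro g hg
  rcases hg with ⟨c, rfl⟩ | ⟨c, rfl⟩
  · exact ⟨⟨_, p.uA_mem c⟩, Subtype.ext (R.π_uA c)⟩
  · exact ⟨⟨_, p.uB_mem c⟩, Subtype.ext (R.π_uB c)⟩

/-- A lift of a diagonal element, normalising a `p`-subgroup with the first root element. -/
theorem exists_scaled [Finite F] {q : ℕ} [Fact q.Prime] [CharP F q] (hsur : Function.Surjective R.π)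
    {a : R.K} (ha : a ≠ 0) :
    ∃ (S : Subgroup p.Gp) (h : p.Gp), IsPGroup q S ∧ (⟨_, p.uA_mem 1⟩ : p.Gp) ∈ S ∧
      h * ⟨_, p.uA_mem 1⟩ * h⁻¹ ∈ S ∧ (R.π (h * ⟨_, p.uA_mem 1⟩ * h⁻¹)).1 = !![1, a ^ 2; 0, 1] := by
  haveI := R.finite
  haveI : CharP R.K q := charP_of_injective_algebraMap (algebraMap F R.K).injective q
  let U : Subgroup (SpecialLinearGroup (Fin 2) R.K) :=
    { carrier := {g | ∃ b, g.1 = !![1, b; 0, 1]}
      one_mem' := ⟨0, by simp [Matrix.one_fin_two]⟩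
      mul_mem' := fun {g h} ⟨b, hb⟩ ⟨b', hb'⟩ => ⟨b + b', by simp [hb, hb', add_comm b b']⟩
      inv_mem' := fun {g} ⟨b, hb⟩ => ⟨-b, by simp [hb, Matrix.adjugate_fin_two]⟩ }
  let D : SpecialLinearGroup (Fin 2) R.K := ⟨!![a, 0; 0, a⁻¹], by simp [Matrix.det_fin_two, ha]⟩
  obtain ⟨h₀, hh₀⟩ := hsur D
  set x : p.Gp := ⟨_, p.uA_mem 1⟩
  have hx : (R.π x).1 = !![1, 1; 0, 1] := by rw [R.π_uA, map_one]
  have hxq : IsPGroup q (Subgroup.zpowers x) := by
    refine IsPGroup.of_card (n := 1) ?_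
    rw [Nat.card_zpowers, pow_one]
    refine orderOf_eq_prime ?_ fun h => ?_
    · refine Subtype.ext (Units.ext ?_)
      rw [SubgroupClass.coe_pow, Units.val_pow_eq_pow_val]
      show (1 + (1 : F) • p.A) ^ q = 1
      haveI : Nonempty ι := ⟨Classical.choice (by
        by_contra hcon
        rw [not_nonempty_iff] at hcon
        exact R.u0 (funext fun i => isEmptyElim i))⟩
      haveI : CharP (Matrix ι ι F) q := inferInstance
      rw [one_smul, add_pow_char_of_commute q (Commute.one_left _), one_pow,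
        pow_eq_zero_of_le (Fact.out : q.Prime).two_le (by rw [pow_two, p.hA]), add_zero]
    · have := congrArg (fun g => (R.π g).1 0 1) h
      simp [hx] at this
  have hU : ∀ u, R.π h₀ * u * (R.π h₀)⁻¹ ∈ U ↔ u ∈ U := by
    intro u
    rw [hh₀]
    constructor
    · rintro ⟨b, hb⟩
      refine ⟨(a ^ 2)⁻¹ * b, ?_⟩
      rw [show u = D⁻¹ * (D * u * D⁻¹) * D by group, Matrix.SpecialLinearGroup.coe_mul,
        Matrix.SpecialLinearGroup.coe_mul, hb, Matrix.SpecialLinearGroup.coe_inv]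
      simp only [D, Matrix.SpecialLinearGroup.coe_inv, Matrix.adjugate_fin_two_of, Matrix.mul_fin_two]
      ext i j
      fin_cases i <;> fin_cases j <;> simp [ha] <;> field_simp
    · rintro ⟨b, hb⟩
      refine ⟨a ^ 2 * b, ?_⟩
      rw [Matrix.SpecialLinearGroup.coe_mul, Matrix.SpecialLinearGroup.coe_mul, hb, Matrix.SpecialLinearGroup.coe_inv]
      simp only [D, Matrix.SpecialLinearGroup.coe_inv, Matrix.adjugate_fin_two_of, Matrix.mul_fin_two]
      ext i j
      fin_cases i <;> fin_cases j <;> simp [ha] <;> ring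
  obtain ⟨S, h, hS, hxS, hyS, u, ⟨b, hb⟩, hu⟩ := exists_lift R.π U (x := x) ⟨1, hx⟩ hxq hU
  refine ⟨S, h, hS, hxS, hyS, ?_⟩
  rw [map_mul, map_mul, map_inv, hu, hh₀, Matrix.SpecialLinearGroup.coe_mul, Matrix.SpecialLinearGroup.coe_mul,
    Matrix.SpecialLinearGroup.coe_inv, Matrix.SpecialLinearGroup.coe_mul, hb, hx]
  simp only [D, Matrix.mul_fin_two, Matrix.adjugate_fin_two_of]
  ext i j
  fin_cases i <;> fin_cases j <;> simp [ha] <;> field_simp <;> ring

end Res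

end SqPair

end CfsgLib.TensorSympWreath
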